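import Cfsg.Agent.HeldCentre.NwcFinal
import Cfsg.Agent.ZStar.Theorem
import Cfsg.Agent.Classification.SmallOrders.Kit

/-!
In a simple group of the order of the Held group only the split decomposable action occurs.
-/

set_option autoImplicit false
set_option maxRecDepth 4000

namespace CfsgLib.HeldCentre

open Subgroup

variable {G : Type*} [Group G] {z : G}

/-- An involution of a nonabelian simple group is not isolated. -/
theorem exists_conj_commute [Finite G] [IsSimpleGroup G] (hna : ¬ IsMulCommutative G)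
    (hz : orderOf z = 2) : ∃ g : G, g * z * g⁻¹ * z = z * (g * z * g⁻¹) ∧ g * z * g⁻¹ ≠ z := by
  by_contra hcon
  push Not at hcon
  have hiso : Cfsg.IsIsolatedInvolution z := ⟨hz, fun g h => hcon g h.eq.symm⟩
  have hc := CfsgLib.ZStar.mem_center_of_isolated hiso fun N hN hodd => by
    rcases hN.eq_bot_or_eq_top with e | e
    · exact e
    · exfalso
      subst e
      rw [card_top] at hodd
      have : 2 ∣ Nat.card G := hz ▸ orderOf_dvd_natCard z
      exact Nat.not_even_iff_odd.2 hodd (even_iff_two_dvd.2 this)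
  rcases (inferInstance : (center G).Normal).eq_bot_or_eq_top with e | e
  · rw [e, mem_bot] at hc
    rw [hc, orderOf_one] at hz
    omega
  · exact hna ⟨⟨fun a b => mem_center_iff.1 (e ▸ mem_top b) a⟩⟩

variable (F : Frame (centralizer ({z} : Set G))) (hz : (F.φ E7.zc : G) = z)
include hz

theorem card_centralizer : Nat.card (centralizer ({z} : Set G)) = 21504 := by

  rw [← Nat.card_congr F.elEquiv, Nat.card_prod, E7.nat_card, Nat.card_fin]

/-- The indecomposable actions do not occur. -/
theorem k_eq_zero [Finite G] [IsSimpleGroup G] (hna : ¬ IsMulCommutative G)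
    (hG : Nat.card G = 4030387200) : F.k = 0 := by
  classical
  by_contra hk
  have hzz : z * z = 1 := by
    rw [← hz, ← Subgroup.coe_mul, ← map_mul, show E7.zc * E7.zc = 1 by decide +kernel, map_one]
    rfl
  have hz1 : z ≠ 1 := fun e => by
    have : F.φ E7.zc = F.φ 1 := by rw [map_one]; exact Subtype.ext (hz.trans e)
    exact absurd (F.inj this) (by decide +kernel)
  have hz2 : orderOf z = 2 := orderOf_eq_prime (by rw [sq, hzz]) hz1
  let El : Set G := {x | ∃ u : E7, inE F.k u.v = true ∧ u ≠ 1 ∧ (F.φ u : G) = x}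
  have hfus : ∀ g : G, g * z * g⁻¹ * z = z * (g * z * g⁻¹) → g * z * g⁻¹ ∈ El := by
    intro g hg
    by_cases hgz : g * z * g⁻¹ = z
    · refine ⟨E7.zc, ?_, by decide +kernel, by rw [hgz]; exact hz⟩
      have : ∀ k : Fin 3, inE k 0 = true := by decide +kernel
      exact this _
    obtain ⟨-, hcase⟩ := fusion F hz hzz hz1 hg hgz
    rcases hcase with ⟨⟨u, hu⟩, hE⟩ | ⟨h0, -⟩
    · refine ⟨u, hE hk u hu, fun e => ?_, hu⟩
      rw [e, map_one, Subgroup.coe_one] at hu
      exact hz1 (by
        calc z = g⁻¹ * (g * z * g⁻¹) * g := by group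
          _ = 1 := by rw [← hu]; group)
    · exact absurd h0 hk
  have hinC : ∀ x ∈ El, x * z = z * x := by
    rintro x ⟨u, -, -, rfl⟩; exact z_commute _
  have hab : ∀ x ∈ El, ∀ y ∈ El, x * y = y * x := by
    rintro x ⟨u, hu, -, rfl⟩ y ⟨v, hv, -, rfl⟩
    have key : ∀ (k : Fin 3) (a b : Fin 64), k ≠ 0 → inE k a = true → inE k b = true →
        form a b = false := by decide +kernel
    rw [← Subgroup.coe_mul, ← Subgroup.coe_mul, ← map_mul, ← map_mul,
      (E7.commute_of_form (key _ _ _ hk hu hv : bform (vW u) (vW v) = false)).eq]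
  have hconjC : ∀ (c : centralizer ({z} : Set G)), ∀ x ∈ El,
      (c : G) * x * (c : G)⁻¹ ∈ El := by
    rintro c x ⟨u, hu, hu1, rfl⟩
    obtain ⟨w, l, rfl⟩ := F.el_surj c
    refine ⟨w * act F.k l u * w⁻¹, ?_, fun e => hu1 ?_, ?_⟩
    · rw [E7.conj_eq]
      exact (inE_act F.k l u.v hk).trans hu
    · have h1 : act F.k l u = 1 := by
        calc act F.k l u = w⁻¹ * (w * act F.k l u * w⁻¹) * w := by group
          _ = 1 := by rw [e]; group
      calc u = act F.k (invL l) (act F.k l u) := by
            rw [act_mul, (entry_inv l).2, act_one]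
        _ = 1 := by rw [h1]; exact map_one (actHom F.k (invL l))
    · have : F.el w l * F.φ u * (F.el w l)⁻¹ = F.φ (w * act F.k l u * w⁻¹) := by
        rw [map_mul, map_mul, map_inv, ← F.conj]
        unfold Frame.el
        group
      rw [← this]
      rfl
  -- every element of the set is conjugate
  have hall : ∀ x ∈ El, ∃ g : G, g * z * g⁻¹ = x := by
    rintro x ⟨u, hu, hu1, rfl⟩
    by_cases hu0 : u.v = 0
    · refine ⟨1, ?_⟩
      rcases E7.eq_or_eq_of_v (x := u) (y := 1) (congrArg W.mk hu0) with e | e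
      · exact absurd e hu1
      · simp [e, hz]
    obtain ⟨g, hg, hgz⟩ := exists_conj_commute hna hz2
    obtain ⟨w, hw, hw1, hwx⟩ := hfus g hg
    have hw0 : w.v ≠ 0 := fun h0 => by
      rcases E7.eq_or_eq_of_v (x := w) (y := 1) (congrArg W.mk h0) with e | e
      · exact hw1 e
      · exact hgz (by rw [← hwx, e, one_mul, hz])
    have trans_act : ∀ (k : Fin 3) (a b : Fin 64), k ≠ 0 → inE k a = true → inE k b = true →
        a ≠ 0 → b ≠ 0 → ∃ l, actV k l a = b := by decide +kernel
    obtain ⟨l, hl⟩ := trans_act F.k _ _ hk hw hu hw0 hu0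
    have hb : ∃ r : E7, r * act F.k l w * r⁻¹ = u := by
      have flip : ∀ (a : Fin 64), a ≠ 0 → ∃ r : Fin 64, form a r = true := by decide +kernel
      obtain ⟨r, hr⟩ := flip u.v hu0
      rcases E7.eq_or_eq_of_v (x := u) (y := act F.k l w) (congrArg W.mk hl.symm) with e | e
      · exact ⟨1, by rw [e]; group⟩
      · refine ⟨⟨r, false⟩, ?_⟩
        rw [e, E7.conj_eq, E7.mul_zc]
        have : (act F.k l w).v = u.v := hl
        rw [this, hr, Bool.xor_true]
    obtain ⟨r, hr⟩ := hb
    refine ⟨(F.el r l : G) * g, ?_⟩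
    calc (F.el r l : G) * g * z * ((F.el r l : G) * g)⁻¹
        = (F.el r l : G) * (g * z * g⁻¹) * (F.el r l : G)⁻¹ := by group
      _ = ((F.el r l * F.φ w * (F.el r l)⁻¹ : centralizer ({z} : Set G)) : G) := by rw [← hwx]; rfl
      _ = (F.φ u : G) := by
          rw [← hr, map_mul, map_mul, map_inv, ← F.conj]
          unfold Frame.el
          simp [mul_assoc]
  have hfin : El.Finite := Set.toFinite _
  -- conjugation into the set normalises it
  have hnorm : ∀ g : G, g * z * g⁻¹ ∈ El → ∀ x, x ∈ El ↔ g * x * g⁻¹ ∈ El := by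
    intro g hg
    have hmaps : Set.MapsTo (fun f => g⁻¹ * f * g) El El := by
      intro f hf
      obtain ⟨m, hm⟩ := hall f hf
      have hc : g⁻¹ * f * g * z = z * (g⁻¹ * f * g) := by
        calc g⁻¹ * f * g * z = g⁻¹ * (f * (g * z * g⁻¹)) * g := by group
          _ = g⁻¹ * (g * z * g⁻¹ * f) * g := by rw [hab f hf _ hg]
          _ = _ := by group
      have e : g⁻¹ * m * z * (g⁻¹ * m)⁻¹ = g⁻¹ * f * g := by rw [← hm]; group
      have := hfus (g⁻¹ * m) (by rw [e]; exact hc)
      rwa [e] at this
    intro x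
    constructor
    · intro hx
      have hsurj : Set.SurjOn (fun f => g⁻¹ * f * g) El El :=
        hfin.injOn_iff_bijOn_of_mapsTo hmaps |>.1
          (fun a _ b _ e => mul_left_cancel (mul_right_cancel e)) |>.surjOn
      obtain ⟨f, hf, rfl⟩ := hsurj hx
      have : g * (g⁻¹ * f * g) * g⁻¹ = f := by group
      rwa [this]
    · intro hx
      have := hmaps hx
      have e : g⁻¹ * (g * x * g⁻¹) * g = x := by group
      simpa only [e] using this
  let N : Subgroup G := normalizer El
  have hN : ∀ g : G, g * z * g⁻¹ ∈ El → g ∈ N := fun g hg =>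
    mem_set_normalizer_iff.2 (hnorm g hg)
  have hzE : z ∈ El := by
    refine ⟨E7.zc, ?_, by decide +kernel, hz⟩
    have : ∀ k : Fin 3, inE k 0 = true := by decide +kernel
    exact this _
  have hNE : ∀ g ∈ N, g * z * g⁻¹ ∈ El := fun g hg => (mem_set_normalizer_iff.1 hg z).1 hzE
  -- the order
  have hcardN : Nat.card N = 15 * 21504 := by
    choose n hn using hall
    have hcN : ∀ c : centralizer ({z} : Set G), (c : G) ∈ N := fun c => hN _ (hconjC c z hzE)
    let f : El × centralizer ({z} : Set G) → N := fun p =>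
      ⟨n p.1.1 p.1.2 * p.2, mul_mem (hN _ (by rw [hn]; exact p.1.2)) (hcN p.2)⟩
    have hf : Function.Bijective f := by
      constructor
      · rintro ⟨⟨x, hx⟩, c⟩ ⟨⟨y, hy⟩, d⟩ e
        have e' : n x hx * (c : G) = n y hy * (d : G) := congrArg Subtype.val e
        have hxy : x = y := by
          have h1 := hn x hx
          have h2 := hn y hy
          have hc' : ∀ c : centralizer ({z} : Set G), (c : G) * z * (c : G)⁻¹ = z := fun c =>
            mul_inv_eq_iff_eq_mul.2 (z_commute c)
          calc x = n x hx * ((c : G) * z * (c : G)⁻¹) * (n x hx)⁻¹ := by rw [hc', h1]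
            _ = n x hx * c * z * (n x hx * (c : G))⁻¹ := by group
            _ = n y hy * d * z * (n y hy * (d : G))⁻¹ := by rw [e']
            _ = n y hy * ((d : G) * z * (d : G)⁻¹) * (n y hy)⁻¹ := by group
            _ = y := by rw [hc', h2]
        subst hxy
        exact Prod.ext rfl (Subtype.ext (mul_left_cancel e'))
      · rintro ⟨g, hg⟩
        have hx := hNE g hg
        have hc : (n _ hx)⁻¹ * g ∈ centralizer ({z} : Set G) := by
          rw [mem_centralizer_singleton_iff]
          have h1 := hn _ hx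
          calc (n _ hx)⁻¹ * g * z = (n _ hx)⁻¹ * (g * z * g⁻¹) * g := by group
            _ = (n _ hx)⁻¹ * (n _ hx * z * (n _ hx)⁻¹) * g := by rw [h1]
            _ = z * ((n _ hx)⁻¹ * g) := by group
        exact ⟨(⟨_, hx⟩, ⟨_, hc⟩), Subtype.ext (mul_inv_cancel_left _ _)⟩
    rw [← Nat.card_congr (Equiv.ofBijective f hf), Nat.card_prod, card_centralizer F hz]
    congr 1
    have e : El ≃ {u : E7 // inE F.k u.v = true ∧ u ≠ 1} :=
      (Equiv.ofBijective (fun u : {u : E7 // inE F.k u.v = true ∧ u ≠ 1} =>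
        (⟨(F.φ u.1 : G), u.1, u.2.1, u.2.2, rfl⟩ : El))
        ⟨fun a b e => Subtype.ext (F.inj (Subtype.ext (congrArg (fun t : El => (t : G)) e))),
          fun ⟨x, u, h1, h2, h3⟩ => ⟨⟨u, h1, h2⟩, Subtype.ext h3⟩⟩).symm
    have h15 : ∀ k : Fin 3, k ≠ 0 →
        (((List.finRange 64).filter fun v => inE k v).length = 8) := by decide +kernel
    rw [Nat.card_congr e]
    have key : ((Finset.univ : Finset E7).filter fun u => inE F.k u.v = true).card = 8 * 2 := by
      rw [card_over (L := (List.finRange 64).filter fun v => inE F.k v)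
        ((List.nodup_finRange 64).filter _) (fun v => by simp), h15 _ hk]
    have h1m : (1 : E7) ∈ (Finset.univ : Finset E7).filter fun u => inE F.k u.v = true := by
      simp only [Finset.mem_filter, Finset.mem_univ, true_and]
      have : ∀ k : Fin 3, inE k 0 = true := by decide +kernel
      exact this _
    revert key h1m
    generalize hS : ((Finset.univ : Finset E7).filter fun u => inE F.k u.v = true) = S
    intro key h1m
    rw [Nat.subtype_card (S.erase 1) (fun u => by
      rw [← hS, Finset.mem_erase, Finset.mem_filter]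
      simp [and_comm]), Finset.card_erase_of_mem h1m, key]
  -- one fixed coset
  have hfix : ∀ q : G ⧸ N, z • q = q → q = ((1 : G) : G ⧸ N) := by
    intro q hq
    obtain ⟨g, rfl⟩ := QuotientGroup.mk_surjective q
    have h1 : g⁻¹ * z * g ∈ N := by
      have := QuotientGroup.eq.1 (hq.symm : ((g : G) : G ⧸ N) = ((z * g : G) : G ⧸ N))
      change g⁻¹ * (z * g) ∈ N at this
      rwa [← mul_assoc] at this
    set x := g⁻¹ * z * g with hx
    have hxx : x * x = 1 := by
      calc g⁻¹ * z * g * (g⁻¹ * z * g) = g⁻¹ * (z * z) * g := by group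
        _ = 1 := by rw [hzz]; group
    obtain ⟨e, he, hxe⟩ : ∃ e ∈ El, x * e = e * x := by
      by_cases h0 : x * z = z * x
      · exact ⟨z, hzE, h0⟩
      obtain ⟨u, hu, hu1, hue⟩ := hNE x h1
      refine ⟨x * z * x⁻¹ * z, ⟨u * E7.zc, ?_, fun e => h0 ?_, ?_⟩, ?_⟩
      · rw [E7.mul_zc]; exact hu
      · have : u = E7.zc := by
          calc u = u * (E7.zc * E7.zc) := by
                rw [show E7.zc * E7.zc = 1 by decide +kernel, mul_one]
            _ = E7.zc := by rw [← mul_assoc, e, one_mul]
        rw [this, hz] at hue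
        exact mul_inv_eq_iff_eq_mul.1 hue.symm
      · rw [map_mul, Subgroup.coe_mul, hz, hue]
      · have hxinv : x⁻¹ = x := inv_eq_of_mul_eq_one_right hxx
        have hcm : x * z * x⁻¹ * z = z * (x * z * x⁻¹) := hab _ (hNE x h1) z hzE
        rw [hxinv] at hcm ⊢
        calc x * (x * z * x * z) = x * x * (z * x * z) := by simp only [mul_assoc]
          _ = z * x * z * (x * x) := by rw [hxx, one_mul, mul_one]
          _ = z * (x * z * x) * x := by simp only [mul_assoc]
          _ = x * z * x * z * x := by rw [← hcm]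
    obtain ⟨m, hm⟩ := hall e he
    have hmN : m ∈ N := hN m (hm ▸ he)
    have e1 : m⁻¹ * g⁻¹ * z * (m⁻¹ * g⁻¹)⁻¹ = m⁻¹ * x * m := by rw [hx]; group
    have h2 : m⁻¹ * x * m ∈ El := by
      have hc : m⁻¹ * x * m * z = z * (m⁻¹ * x * m) := by
        calc m⁻¹ * x * m * z = m⁻¹ * (x * (m * z * m⁻¹)) * m := by group
          _ = m⁻¹ * (m * z * m⁻¹ * x) * m := by rw [hm, hxe]
          _ = _ := by group
      have := hfus (m⁻¹ * g⁻¹) (by rw [e1]; exact hc)
      rwa [e1] at this
    have h3 : m⁻¹ * g⁻¹ ∈ N := hN _ (by rw [e1]; exact h2)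
    have hg : g⁻¹ ∈ N := by
      have := mul_mem hmN h3
      rwa [mul_inv_cancel_left] at this
    exact QuotientGroup.eq.2 (by simpa using hg)
  have hmoved : Nat.card {q : G ⧸ N // z • q ≠ q} = 12494 := by
    haveI : Fintype (G ⧸ N) := Fintype.ofFinite _
    have hidx : Fintype.card (G ⧸ N) = 12495 := by
      have h := N.card_mul_index
      rw [hcardN, hG, Subgroup.index_eq_card, Nat.card_eq_fintype_card] at h
      omega
    have hone : z • ((1 : G) : G ⧸ N) = ((1 : G) : G ⧸ N) := by
      show ((z * 1 : G) : G ⧸ N) = _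
      rw [mul_one]
      exact QuotientGroup.eq.2 (by simpa using inv_mem (hN z (hconjC ⟨z, mem_centralizer_singleton_iff.2 rfl⟩ z hzE)))
    have heq : (Finset.univ.filter fun q : G ⧸ N => z • q ≠ q) =
        Finset.univ.erase ((1 : G) : G ⧸ N) := by
      ext q
      simp only [Finset.mem_filter, Finset.mem_univ, true_and, Finset.mem_erase, and_true]
      exact ⟨fun h e => h (e ▸ hone), fun h e => h (hfix q e)⟩
    rw [Nat.card_eq_fintype_card, Fintype.card_subtype, heq,
      Finset.card_erase_of_mem (Finset.mem_univ _), Finset.card_univ, hidx]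
  have := CfsgLib.Classification.SmallOrders.four_dvd_moved hna (α := G ⧸ N) hzz
  rw [hmoved] at this
  omega

end CfsgLib.HeldCentre
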