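import Cfsg.Agent.HeldCentre.Split
import Cfsg.Agent.LargeExtraspecial.TransvectionSL

/-!
The split decomposable group is the centraliser of a transvection of `SL₅(2)`.
-/

set_option autoImplicit false

namespace CfsgLib.HeldCentre

open Subgroup CfsgLib.LargeExtraspecial.Transvection

/-- A bit. -/
def bit2 (b : Bool) : F2 := if b then 1 else 0

/-- The low half. -/
def loV (v : Fin 64) : Fin 3 → F2 := fun i => bit2 (v.val.testBit i.val)

/-- The high half. -/
def hiV (v : Fin 64) : Fin 3 → F2 := fun i => bit2 (v.val.testBit (i.val + 3))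

/-- The inverse transpose of a class. -/
def dualM (l : Fin 168) : Matrix (Fin 3) (Fin 3) F2 := Matrix.of fun i j => entry (invL l) j i

/-- The matrix of an element of the radical. -/
def radM (u : E7) : Matrix (Fin 2 ⊕ Fin 3) (Fin 2 ⊕ Fin 3) F2 :=
  mat (bit2 u.c) (loV u.v) (hiV u.v) 1

/-- The matrix of a class. -/
def leviM (l : Fin 168) : Matrix (Fin 2 ⊕ Fin 3) (Fin 2 ⊕ Fin 3) F2 := mat 0 0 0 (dualM l)

theorem bit2_xor : ∀ a b : Bool, bit2 (Bool.xor a b) = bit2 a + bit2 b := by decide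

theorem bit2_and : ∀ a b : Bool, bit2 (a && b) = bit2 a * bit2 b := by decide

theorem lo_hi_add (v w : Fin 64) :
    loV (vadd v w) = loV v + loV w ∧ hiV (vadd v w) = hiV v + hiV w := by
  constructor <;> funext i <;> simp [loV, hiV, val_vadd, bit2_xor]

theorem dot_beta (v w : Fin 64) : dotProduct (loV v) (hiV w) = bit2 (beta v w) := by
  rw [dot_bits, bit2_xor, bit2_xor, bit2_and, bit2_and, bit2_and, dotProduct, Fin.sum_univ_three]
  rfl

theorem radM_mul (u v : E7) : radM (u * v) = radM u * radM v := by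
  simp only [radM, mat_mul, E7.mul_def, Matrix.vecMul_one, Matrix.one_mulVec, mul_one,
    (lo_hi_add u.v v.v).1, (lo_hi_add u.v v.v).2, dot_beta, bit2_xor]
  congr 1
  exact add_comm _ _

theorem dualM_mul (a b : Fin 168) : dualM a * dualM b = dualM (mulL a b) := by
  have hinv : invL (mulL a b) = mulL (invL b) (invL a) := by
    have h1 : mulL (mulL (invL b) (invL a)) (mulL a b) = 0 := by
      rw [mulL_assoc, ← mulL_assoc (invL a), (entry_inv a).2, (mulL_one b).2, (entry_inv b).2]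
    calc invL (mulL a b) = mulL (mulL (mulL (invL b) (invL a)) (mulL a b)) (invL (mulL a b)) := by
          rw [h1, (mulL_one _).2]
      _ = _ := by rw [mulL_assoc, (entry_inv _).1, (mulL_one _).1]
  ext i j
  simp [dualM, Matrix.mul_apply, Fin.sum_univ_three, hinv, entry_mul, mul_comm]

theorem dualM_inj {a b : Fin 168} (h : dualM a = dualM b) : a = b := by
  have h' : invL a = invL b := mulL_ext fun i j => congrFun (congrFun h j) i
  calc a = mulL a (mulL (invL b) b) := by rw [(entry_inv b).2, (mulL_one a).1]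
    _ = b := by rw [← mulL_assoc, ← h', (entry_inv a).1, (mulL_one b).2]

theorem dualM_zero : dualM 0 = 1 := by
  have : invL 0 = 0 := by decide +kernel
  ext i j
  simp [dualM, this, entry_one, Matrix.one_apply, eq_comm]

theorem act_zero_model : ∀ (l : Fin 168) (v : Fin 64), sgnT 0 l v = false ∧
    ∀ i : Fin 3,
      (loV v i = loV (actV 0 l v) 0 * dualM l 0 i + loV (actV 0 l v) 1 * dualM l 1 i +
        loV (actV 0 l v) 2 * dualM l 2 i) ∧
      hiV (actV 0 l v) i = dualM l i 0 * hiV v 0 + dualM l i 1 * hiV v 1 + dualM l i 2 * hiV v 2 := by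
  decide +kernel

theorem levi_rad (l : Fin 168) (u : E7) : leviM l * radM u = radM (act 0 l u) * leviM l := by
  simp only [radM, leviM, mat_mul, act, (act_zero_model l u.v).1, Bool.xor_false, zero_dotProduct,
    dotProduct_zero, add_zero, zero_add, Matrix.mulVec_zero, Matrix.zero_vecMul, Matrix.vecMul_one,
    Matrix.one_mulVec, mul_one, one_mul]
  congr 1
  · funext i
    rw [Matrix.vecMul, dotProduct, Fin.sum_univ_three]
    exact ((act_zero_model l u.v).2 i).1
  · funext i
    rw [Matrix.mulVec, dotProduct, Fin.sum_univ_three]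
    exact (((act_zero_model l u.v).2 i).2).symm

variable {C : Type*} [Group C] [Finite C]

/-- The centraliser is that of a transvection. -/
theorem exists_iso (F : Frame C) (hk : F.k = 0) (htw : F.tw = false)
    (s : Matrix.SpecialLinearGroup (Fin 5) F2)
    (hs : (s : Matrix (Fin 5) (Fin 5) F2) = Matrix.transvection 0 1 1) :
    Nonempty (C ≃* centralizer ({s} : Set (Matrix.SpecialLinearGroup (Fin 5) F2))) := by
  classical
  obtain ⟨χ, hχ⟩ := exists_section F htw
  have hel : ∀ c : C, ∃ u l, c = F.φ u * F.el ⟨0, χ l⟩ l := by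
    intro c
    obtain ⟨u, l, rfl⟩ := F.el_surj c
    refine ⟨u * (⟨0, χ l⟩ : E7)⁻¹, l, ?_⟩
    unfold Frame.el
    rw [← mul_assoc, ← map_mul, inv_mul_cancel_right]
  have huniq : ∀ u v l m, F.φ u * F.el ⟨0, χ l⟩ l = F.φ v * F.el ⟨0, χ m⟩ m → u = v ∧ l = m := by
    intro u v l m e
    have e' : F.el (u * ⟨0, χ l⟩) l = F.el (v * ⟨0, χ m⟩) m := by
      simpa [Frame.el, mul_assoc] using e
    obtain ⟨e1, e2⟩ := F.el_inj e'
    subst e2
    exact ⟨mul_right_cancel e1, rfl⟩
  have hprod : ∀ u v a b, F.φ u * F.el ⟨0, χ a⟩ a * (F.φ v * F.el ⟨0, χ b⟩ b) =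
      F.φ (u * act 0 a v) * F.el ⟨0, χ (mulL a b)⟩ (mulL a b) := by
    intro u v a b
    have hc : F.el ⟨0, χ a⟩ a * F.φ v = F.φ (act 0 a v) * F.el ⟨0, χ a⟩ a := by
      rw [← hk, ← F.conj]
      unfold Frame.el
      calc F.φ ⟨0, χ a⟩ * F.σ a * F.φ v
          = F.φ ⟨0, χ a⟩ * (F.σ a * F.φ v * (F.σ a)⁻¹) * F.σ a := by group
        _ = _ := by rw [← (F.commute_c (F.σ a * F.φ v * (F.σ a)⁻¹) _).eq]; group
    calc F.φ u * F.el ⟨0, χ a⟩ a * (F.φ v * F.el ⟨0, χ b⟩ b)
        = F.φ u * (F.el ⟨0, χ a⟩ a * F.φ v) * F.el ⟨0, χ b⟩ b := by simp only [mul_assoc]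
      _ = F.φ (u * act 0 a v) * (F.el ⟨0, χ a⟩ a * F.el ⟨0, χ b⟩ b) := by
          rw [hc, map_mul]; simp only [mul_assoc]
      _ = _ := by rw [hχ]
  choose cu cl hc using hel
  let Ψ : C → Matrix (Fin 2 ⊕ Fin 3) (Fin 2 ⊕ Fin 3) F2 := fun c => radM (cu c) * leviM (cl c)
  have hΨ : ∀ u l, Ψ (F.φ u * F.el ⟨0, χ l⟩ l) = radM u * leviM l := by
    intro u l
    obtain ⟨e1, e2⟩ := huniq _ _ _ _ (hc (F.φ u * F.el ⟨0, χ l⟩ l))
    show radM (cu _) * leviM (cl _) = _
    rw [← e1, ← e2]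
  have hmul : ∀ c d, Ψ (c * d) = Ψ c * Ψ d := by
    intro c d
    conv_lhs => rw [hc c, hc d, hprod, hΨ]
    show radM (cu c * act 0 (cl c) (cu d)) * leviM (mulL (cl c) (cl d)) =
      radM (cu c) * leviM (cl c) * (radM (cu d) * leviM (cl d))
    have hl : ∀ a b, leviM (mulL a b) = leviM a * leviM b := fun a b => by
      simp [leviM, mat_mul, dualM_mul]
    rw [radM_mul, hl]
    calc radM (cu c) * radM (act 0 (cl c) (cu d)) * (leviM (cl c) * leviM (cl d))
        = radM (cu c) * (radM (act 0 (cl c) (cu d)) * leviM (cl c)) * leviM (cl d) := by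
          simp only [Matrix.mul_assoc]
      _ = _ := by rw [← levi_rad]; simp only [Matrix.mul_assoc]
  have hform : ∀ c, Ψ c = mat (bit2 (cu c).c) (Matrix.vecMul (loV (cu c).v) (dualM (cl c)))
      (hiV (cu c).v) (dualM (cl c)) := by
    intro c
    show radM (cu c) * leviM (cl c) = _
    simp [radM, leviM, mat_mul]
  have hone : Ψ 1 = 1 := by
    have e : (1 : C) = F.φ ⟨0, χ 0⟩⁻¹ * F.el ⟨0, χ 0⟩ 0 := by
      rw [F.el_zero, ← map_mul, inv_mul_cancel, map_one]
    have hχ0 : χ 0 = false := by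
      have h0 := hχ 0 0
      rw [show mulL 0 0 = 0 by decide +kernel] at h0
      have h1 : F.el ⟨0, χ 0⟩ 0 = 1 := mul_eq_left.1 h0
      rw [← F.el_one] at h1
      exact congrArg E7.c (F.el_inj h1).1
    rw [e, hΨ, hχ0]
    have hr : radM (1 : E7) = 1 := by
      have : loV 0 = 0 ∧ hiV 0 = 0 := by constructor <;> funext i <;> simp [loV, hiV, bit2]
      simp [radM, E7.one_def, bit2, this.1, this.2, mat_one]
    rw [show (⟨0, false⟩ : E7)⁻¹ = 1 from inv_one, hr, leviM, dualM_zero, mat_one, Matrix.one_mul]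
  let ΨM : C →* Matrix (Fin 2 ⊕ Fin 3) (Fin 2 ⊕ Fin 3) F2 := ⟨⟨Ψ, hone⟩, hmul⟩
  let ΨG : C →* Matrix.GeneralLinearGroup (Fin 2 ⊕ Fin 3) F2 := ΨM.toHomUnits
  let e5 := MulEquiv.ofBijective (slHom 3) (slHom_bijective 3)
  let θ : C →* Matrix.SpecialLinearGroup (Fin 5) F2 := e5.symm.toMonoidHom.comp ΨG
  have hθ : ∀ c, ((slHom 3 (θ c) : Matrix.GeneralLinearGroup (Fin 2 ⊕ Fin 3) F2) :
      Matrix (Fin 2 ⊕ Fin 3) (Fin 2 ⊕ Fin 3) F2) = Ψ c := fun c => by
    have : slHom 3 (θ c) = ΨG c := e5.apply_symm_apply _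
    rw [this]
    rfl
  have hsm : ((slHom 3 s : Matrix.GeneralLinearGroup (Fin 2 ⊕ Fin 3) F2) :
      Matrix (Fin 2 ⊕ Fin 3) (Fin 2 ⊕ Fin 3) F2) = mat 1 0 0 1 := by
    rw [← transvection_eq_mat]
    show (s : Matrix (Fin 5) (Fin 5) F2).submatrix (idx 3) (idx 3) = _
    rw [hs]
    ext i j
    simp only [Matrix.submatrix_apply, Matrix.transvection, Matrix.add_apply, Matrix.one_apply,
      Matrix.single, Matrix.of_apply, (idx 3).apply_eq_iff_eq, ← idx_zero 3, ← idx_one 3]
  have hinj5 := (slHom_bijective 3).1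
  have hθC : ∀ c, θ c ∈ centralizer ({s} : Set (Matrix.SpecialLinearGroup (Fin 5) F2)) := by
    intro c
    rw [mem_centralizer_singleton_iff]
    apply hinj5
    apply Units.ext
    rw [map_mul, map_mul, Units.val_mul, Units.val_mul, hθ, hsm, hform, mat_mul, mat_mul]
    simp [add_comm]
  have hinj : Function.Injective θ := by
    intro c d e
    have e' : Ψ c = Ψ d := by rw [← hθ, ← hθ, e]
    rw [hform, hform] at e'
    obtain ⟨e1, e2, e3, e4⟩ := mat_inj e'
    have hl := dualM_inj e4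
    rw [hl] at e2
    have hlo : loV (cu c).v = loV (cu d).v := by
      have := congrArg (fun v => Matrix.vecMul v (dualM (invL (cl d)))) e2
      simpa [Matrix.vecMul_vecMul, dualM_mul, (entry_inv _).1, dualM_zero] using this
    have key : ∀ v w : Fin 64, loV v = loV w → hiV v = hiV w → v = w := by decide +kernel
    have hb : ∀ a b : Bool, bit2 a = bit2 b → a = b := by decide
    rw [hc c, hc d, hl, E7.ext (key _ _ hlo e3) (hb _ _ e1)]
  refine ⟨MulEquiv.ofBijective (θ.codRestrict _ hθC) ⟨fun a b e => hinj (congrArg Subtype.val e), ?_⟩⟩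
  rintro ⟨x, hx⟩
  have hshape : ∀ y ∈ centralizer ({s} : Set (Matrix.SpecialLinearGroup (Fin 5) F2)),
      ∃ c a b B, ((slHom 3 y : Matrix.GeneralLinearGroup (Fin 2 ⊕ Fin 3) F2) :
        Matrix (Fin 2 ⊕ Fin 3) (Fin 2 ⊕ Fin 3) F2) = mat c a b B := by
    intro y hy
    set Y := ((slHom 3 y : Matrix.GeneralLinearGroup (Fin 2 ⊕ Fin 3) F2) :
      Matrix (Fin 2 ⊕ Fin 3) (Fin 2 ⊕ Fin 3) F2) with hY
    have e : Y * Matrix.transvection (Sum.inl 0) (Sum.inl 1) (1 : F2) =
        Matrix.transvection (Sum.inl 0) (Sum.inl 1) (1 : F2) * Y := by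
      rw [transvection_eq_mat, ← hsm, hY, ← Units.val_mul, ← Units.val_mul, ← map_mul, ← map_mul,
        mem_centralizer_singleton_iff.1 hy]
    obtain ⟨h1, h2, h3⟩ := entries_of_commute e
    have h00 : Y (Sum.inl 0) (Sum.inl 0) = 1 := by
      have e1 := congrFun (congrFun (Units.inv_mul (slHom 3 y)) (Sum.inl 0)) (Sum.inl 0)
      rw [Matrix.mul_apply, Finset.sum_eq_single (Sum.inl 0)] at e1
      · simp only [Matrix.one_apply_eq] at e1
        exact f2_of_mul _ _ e1
      · intro k _ hk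
        exact mul_eq_zero_of_right _ (h1 k hk)
      · simp
    refine ⟨Y (Sum.inl 0) (Sum.inl 1), fun j => Y (Sum.inl 0) (Sum.inr j),
      fun i => Y (Sum.inr i) (Sum.inl 1), fun i j => Y (Sum.inr i) (Sum.inr j), ?_⟩
    ext i j
    rcases i with i | i <;> rcases j with j | j
    · fin_cases i <;> fin_cases j
      · simpa [mat] using h00
      · simp [mat]
      · simpa [mat] using h1 (Sum.inl 1) (by simp)
      · simpa [mat] using h3.symm.trans h00
    · fin_cases i
      · simp [mat]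
      · simpa [mat] using h2 (Sum.inr j) (by simp)
    · fin_cases j
      · simpa [mat] using h1 (Sum.inr i) (by simp)
      · simp [mat]
    · simp [mat]
  obtain ⟨c, a, b, B, hB⟩ := hshape x hx
  obtain ⟨c', a', b', B', hB'⟩ := hshape x⁻¹ (inv_mem hx)
  have hBB : B' * B = 1 := by
    have e : mat c' a' b' B' * mat c a b B = 1 := by
      rw [← hB, ← hB', ← Units.val_mul, ← map_mul, inv_mul_cancel, map_one, Units.val_one]
    rw [mat_mul, ← mat_one] at e
    exact (mat_inj e).2.2.2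
  -- `B` is a dual class
  obtain ⟨l, rfl⟩ : ∃ l, dualM l = B := by
    have hdet : (Matrix.transpose B').det = 1 := by
      refine f2_eq_one _ fun h0 => ?_
      have := congrArg Matrix.det hBB
      rw [Matrix.det_mul, ← Matrix.det_transpose B', h0, zero_mul, Matrix.det_one] at this
      exact f2_zero_ne_one this
    obtain ⟨m, hm⟩ := slMat_bijective.2 ⟨Matrix.transpose B', hdet⟩
    refine ⟨m, ?_⟩
    have hm' : Matrix.of (entry m) = Matrix.transpose B' := congrArg Subtype.val hm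
    have h1 : B' * dualM m = 1 := by
      have hB'2 : B' = Matrix.of fun i j => entry m j i := by
        ext i j
        exact (congrFun (congrFun hm' j) i).symm
      rw [hB'2]
      ext i j
      have h2 : mulL (invL m) m = 0 := (entry_inv m).2
      have h3 := entry_mul (invL m) m j i
      rw [h2, entry_one] at h3
      simp only [dualM, Matrix.mul_apply, Fin.sum_univ_three, Matrix.of_apply, Matrix.one_apply]
      rw [mul_comm (entry m 0 i), mul_comm (entry m 1 i), mul_comm (entry m 2 i), ← h3]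
      simp [eq_comm]
    calc dualM m = B * B' * dualM m := by rw [mul_eq_one_comm.mp hBB, Matrix.one_mul]
      _ = B := by rw [Matrix.mul_assoc, h1, Matrix.mul_one]
  have hsurj : ∀ (p q : Fin 3 → F2), ∃ v : Fin 64, loV v = p ∧ hiV v = q := by decide +kernel
  have hbs : ∀ c : F2, ∃ e : Bool, bit2 e = c := by decide
  obtain ⟨v, hv1, hv2⟩ := hsurj (Matrix.vecMul a (dualM (invL l))) b
  obtain ⟨e, he⟩ := hbs c
  refine ⟨F.φ ⟨v, e⟩ * F.el ⟨0, χ l⟩ l, Subtype.ext (hinj5 (Units.ext ?_))⟩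
  show ((slHom 3 (θ _) : Matrix.GeneralLinearGroup (Fin 2 ⊕ Fin 3) F2) :
    Matrix (Fin 2 ⊕ Fin 3) (Fin 2 ⊕ Fin 3) F2) = _
  rw [hθ, hΨ, hB]
  simp [radM, leviM, mat_mul, he, hv1, hv2, Matrix.vecMul_vecMul, dualM_mul, (entry_inv l).2,
    dualM_zero]

end CfsgLib.HeldCentre
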