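import Cfsg.Prelude
import Cfsg.Agent.HeldCentre.Exclude
import Cfsg.Agent.HeldCentre.Iso

/-!
A simple group of the order of the Held group with an involution centraliser `2^{1+6}.L₃(2)` has
the centraliser of a transvection of `SL₅(2)`, and the involution has a conjugate in the radical.
-/

set_option autoImplicit false

namespace CfsgLib.HeldCentre

open Subgroup

variable {G : Type*} [Group G] [Finite G] [IsSimpleGroup G]

/-- The centraliser and the fusion. -/
theorem held_data (t : G) (ht : orderOf t = 2) (Q : Subgroup (centralizer ({t} : Set G))) [Q.Normal]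
    (hQ : Cfsg.IsExtraspecial 2 Q) (hcard : Nat.card Q = 2 ^ 7)
    (hplus : ∃ E : Subgroup Q, Cfsg.IsElementaryAbelian 2 E ∧ Nat.card E = 2 ^ 4)
    (h2c : centralizer (Q : Set (centralizer ({t} : Set G))) ≤ Q)
    (e : (centralizer ({t} : Set G)) ⧸ Q ≃* Matrix.SpecialLinearGroup (Fin 3) (ZMod 2))
    (hG : Nat.card G = 4030387200) :
    (∀ s : Matrix.SpecialLinearGroup (Fin 5) (ZMod 2),
      (s : Matrix (Fin 5) (Fin 5) (ZMod 2)) = Matrix.transvection 0 1 1 →
      Nonempty ((centralizer ({t} : Set G)) ≃*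
        centralizer ({s} : Set (Matrix.SpecialLinearGroup (Fin 5) (ZMod 2))))) ∧
    ∃ g : G, (∃ hq : g * t * g⁻¹ ∈ centralizer ({t} : Set G),
      (⟨g * t * g⁻¹, hq⟩ : centralizer ({t} : Set G)) ∈
        Cfsg.pCore 2 (centralizer ({t} : Set G))) ∧ g * t * g⁻¹ ≠ t := by
  have hna : ¬ IsMulCommutative G := by
    intro h
    letI : CommGroup G := { (inferInstance : Group G) with mul_comm := fun a b => h.is_comm.comm a b }
    have hp : (Nat.card G).Prime := IsSimpleGroup.prime_card
    rw [hG] at hp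
    exact absurd hp (by norm_num)
  let z : centralizer ({t} : Set G) := ⟨t, mem_centralizer_singleton_iff.2 rfl⟩
  have hzc : z ∈ center (centralizer ({t} : Set G)) :=
    mem_center_iff.2 fun g => Subtype.ext (mem_centralizer_singleton_iff.1 g.2)
  have hzo : orderOf z = 2 := by
    rw [← Subgroup.orderOf_coe]; exact ht
  obtain ⟨F, hFz, hFQ⟩ := exists_frame hzc hzo Q hQ hcard hplus h2c e
  have hz : (F.φ E7.zc : G) = t := congrArg Subtype.val hFz
  have ht1 : t ≠ 1 := fun h => by rw [h, orderOf_one] at ht; omega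
  have htt : t * t = 1 := by rw [← sq, ← ht, pow_orderOf_eq_one]
  obtain ⟨g, hgC, hgt⟩ := exists_conj_commute hna ht
  have htw := (fusion F hz htt ht1 hgC hgt).1
  have hk := k_eq_zero F hz hna hG
  refine ⟨fun s hs => exists_iso F hk htw s hs, ?_⟩
  obtain ⟨g', ⟨u, hu⟩, hne⟩ := exists_conj_inQ F hk htw hz ht1 ⟨g, hgC, hgt⟩
  have hq : g' * t * g'⁻¹ ∈ centralizer ({t} : Set G) := by
    rw [← hu]; exact (F.φ u).2
  refine ⟨g', ⟨hq, ?_⟩, hne⟩
  have hmem : (⟨g' * t * g'⁻¹, hq⟩ : centralizer ({t} : Set G)) = F.φ u := Subtype.ext hu.symm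
  rw [hmem]
  have hle : Q ≤ Cfsg.pCore 2 (centralizer ({t} : Set G)) :=
    le_sSup ⟨inferInstance, IsPGroup.of_card hcard⟩
  exact hle (hFQ ▸ ⟨u, rfl⟩)

end CfsgLib.HeldCentre
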