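import Cfsg.Prelude
import Cfsg.Agent.HeldCentre.Main
import Cfsg.Agent.Components.FStar

/-!
A group of Held type has the centraliser of a transvection of `SL₅(2)`.
-/

set_option autoImplicit false

namespace CfsgLib.HeldCentre

open Subgroup

variable {G : Type*} [Group G] [Finite G]

/-- With 29 conjugates in the radical the action is the split decomposable one without twist. -/
theorem heldType_frame {z : G} {R : Subgroup (centralizer ({z} : Set G))} [R.Normal]
    (hS : Cfsg.IsExtraspecialCentralizerSetting z R 3)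
    (e : (centralizer ({z} : Set G)) ⧸ R ≃* Matrix.SpecialLinearGroup (Fin 3) (ZMod 2))
    (hplus : ∃ E : Subgroup R, Cfsg.IsElementaryAbelian 2 E ∧ Nat.card E = 2 ^ 4)
    (h29 : Set.ncard {a : centralizer ({z} : Set G) | a ∈ R ∧ IsConj z (a : G)} = 29) :
    ∃ F : Frame (centralizer ({z} : Set G)), F.k = 0 ∧ F.tw = false ∧ (F.φ E7.zc : G) = z ∧
      F.φ.range = R := by
  classical
  obtain ⟨hz2, hFS, hRE, hRc, g, ⟨hgC, hgR⟩, hgz⟩ := hS
  let zc : centralizer ({z} : Set G) := ⟨z, mem_centralizer_singleton_iff.2 rfl⟩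
  have hzc : zc ∈ center (centralizer ({z} : Set G)) :=
    mem_center_iff.2 fun g => Subtype.ext (mem_centralizer_singleton_iff.1 g.2)
  have hzo : orderOf zc = 2 := by
    rw [← Subgroup.orderOf_coe]; exact hz2
  have h2c : centralizer (R : Set (centralizer ({z} : Set G))) ≤ R := by
    rw [← hFS]; exact CfsgLib.Components.centralizer_generalizedFitting_le_self
  obtain ⟨F, hFz, hFR⟩ := exists_frame hzc hzo R hRE hRc hplus h2c e
  have hz : (F.φ E7.zc : G) = z := congrArg Subtype.val hFz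
  have hzz : z * z = 1 := by rw [← sq, ← hz2, pow_orderOf_eq_one]
  have hz1 : z ≠ 1 := fun h => by rw [h, orderOf_one] at hz2; omega
  have hgc : g * z * g⁻¹ * z = z * (g * z * g⁻¹) := mem_centralizer_singleton_iff.1 hgC
  refine ⟨F, ?_, (fusion F hz hzz hz1 hgc hgz).1, hz, hFR⟩
  by_contra hk
  let El : Set (centralizer ({z} : Set G)) :=
    {a | ∃ u : E7, inE F.k u.v = true ∧ F.φ u = a}
  have hsub : {a : centralizer ({z} : Set G) | a ∈ R ∧ IsConj z (a : G)} ⊆ El := by
    rintro a ⟨haR, hc⟩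
    obtain ⟨h, hh⟩ := isConj_iff.1 hc
    obtain ⟨u, rfl⟩ := (hFR ▸ haR : a ∈ F.φ.range)
    refine ⟨u, ?_, rfl⟩
    by_cases hhz : h * z * h⁻¹ = z
    · have hu : u = E7.zc := F.inj (Subtype.ext (by rw [← hh, hhz, hz]))
      rw [hu]
      have : ∀ k : Fin 3, inE k 0 = true := by decide +kernel
      exact this _
    have hcom : h * z * h⁻¹ * z = z * (h * z * h⁻¹) := by
      rw [hh]; exact z_commute (F.φ u)
    obtain ⟨-, hcase⟩ := fusion F hz hzz hz1 hcom hhz
    rcases hcase with ⟨-, hE⟩ | ⟨h0, -⟩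
    · exact hE hk u hh.symm
    · exact absurd h0 hk
  have h16 : El.ncard ≤ 16 := by
    have hEl : El = F.φ '' ↑((Finset.univ : Finset E7).filter fun u => inE F.k u.v = true) := by
      ext a; simp [El]
    have h8 : ∀ k : Fin 3, k ≠ 0 →
        (((List.finRange 64).filter fun v => inE k v).length = 8) := by decide +kernel
    rw [hEl]
    refine (Set.ncard_image_le (Set.toFinite _)).trans (le_of_eq ?_)
    rw [Set.ncard_coe_finset, card_over (L := (List.finRange 64).filter fun v => inE F.k v)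
      ((List.nodup_finRange 64).filter _) (fun v => by simp), h8 _ hk]
  have := (Set.ncard_le_ncard hsub (Set.toFinite _)).trans h16
  omega

/-- The centraliser and a conjugate in its 2-core. -/
theorem heldType_data {z : G} {R : Subgroup (centralizer ({z} : Set G))} [R.Normal]
    (hS : Cfsg.IsExtraspecialCentralizerSetting z R 3)
    (e : (centralizer ({z} : Set G)) ⧸ R ≃* Matrix.SpecialLinearGroup (Fin 3) (ZMod 2))
    (hplus : ∃ E : Subgroup R, Cfsg.IsElementaryAbelian 2 E ∧ Nat.card E = 2 ^ 4)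
    (h29 : Set.ncard {a : centralizer ({z} : Set G) | a ∈ R ∧ IsConj z (a : G)} = 29) :
    (∀ s : Matrix.SpecialLinearGroup (Fin 5) (ZMod 2),
      (s : Matrix (Fin 5) (Fin 5) (ZMod 2)) = Matrix.transvection 0 1 1 →
      Nonempty ((centralizer ({z} : Set G)) ≃*
        centralizer ({s} : Set (Matrix.SpecialLinearGroup (Fin 5) (ZMod 2))))) ∧
    ∃ g : G, (∃ hq : g * z * g⁻¹ ∈ centralizer ({z} : Set G),
      (⟨g * z * g⁻¹, hq⟩ : centralizer ({z} : Set G)) ∈
        Cfsg.pCore 2 (centralizer ({z} : Set G))) ∧ g * z * g⁻¹ ≠ z := by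
  obtain ⟨F, hk, htw, -, -⟩ := heldType_frame hS e hplus h29
  refine ⟨fun s hs => exists_iso F hk htw s hs, ?_⟩
  obtain ⟨-, -, -, hRc, g, ⟨hgC, hgR⟩, hgz⟩ := hS
  exact ⟨g, ⟨hgC, CfsgLib.Components.le_pCore (IsPGroup.of_card hRc) hgR⟩, hgz⟩

end CfsgLib.HeldCentre
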