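import Cfsg.Agent.HeldCentre.Code

/-!
An element of order 7 of the orthogonal group of plus type in dimension 6 has a hyperbolic basis in
which it and a normalising element of order 3 are the standard ones.
-/

set_option autoImplicit false

namespace CfsgLib.HeldCentre

/-- Vectors. -/
@[ext] structure W where
  /-- The code. -/
  v : Fin 64
  deriving DecidableEq

namespace W

instance : Fintype W := Fintype.ofEquiv (Fin 64)
  { toFun := fun v => ⟨v⟩, invFun := fun w => w.v, left_inv := fun _ => rfl, right_inv := fun _ => rfl }

instance : Zero W := ⟨⟨0⟩⟩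

instance : Add W := ⟨fun a b => ⟨vadd a.v b.v⟩⟩

instance : Neg W := ⟨fun a => a⟩

theorem zero_def : (0 : W) = ⟨0⟩ := rfl

theorem add_def (a b : W) : a + b = ⟨vadd a.v b.v⟩ := rfl

instance : AddCommGroup W where
  add_assoc a b c := by simp [add_def, vadd_assoc]
  zero_add a := by simp [add_def, zero_def, zero_vadd]
  add_zero a := by simp [add_def, zero_def, vadd_zero]
  nsmul := nsmulRec
  zsmul := zsmulRec
  neg_add_cancel a := by
    show (⟨vadd a.v a.v⟩ : W) = ⟨0⟩
    rw [vadd_self]
  add_comm a b := by simp [add_def, vadd_comm a.v]

theorem add_self (a : W) : a + a = 0 := neg_add_cancel a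

theorem add_self_left (a b : W) : a + (a + b) = b := by rw [← add_assoc, add_self, zero_add]

theorem neg_eq (a : W) : -a = a := rfl

end W

/-- The symplectic form on vectors. -/
def bform (a b : W) : Bool := form a.v b.v

/-- The quadratic form on vectors. -/
def qform (a : W) : Bool := quad a.v

theorem bform_add_left (a b c : W) : bform (a + b) c = Bool.xor (bform a c) (bform b c) := by
  simp only [bform, form, W.add_def, beta_left, beta_right]
  cases beta a.v c.v <;> cases beta b.v c.v <;> cases beta c.v a.v <;> cases beta c.v b.v <;> rfl

theorem bform_comm (a b : W) : bform a b = bform b a := by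
  simp only [bform, form]
  exact Bool.xor_comm _ _

theorem bform_add_right (a b c : W) : bform a (b + c) = Bool.xor (bform a b) (bform a c) := by
  rw [bform_comm, bform_add_left, bform_comm b, bform_comm c]

theorem bform_zero_left (a : W) : bform 0 a = false := by
  simp [bform, form, W.zero_def, beta_zero_left, beta_zero_right]

theorem bform_zero_right (a : W) : bform a 0 = false := by rw [bform_comm, bform_zero_left]

theorem bform_self (a : W) : bform a a = false := Bool.xor_self _

theorem qform_add (a b : W) : qform (a + b) = Bool.xor (Bool.xor (qform a) (qform b)) (bform a b) := by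
  simp only [qform, quad, bform, form, W.add_def, beta_left, beta_right]
  cases beta a.v a.v <;> cases beta b.v b.v <;> cases beta a.v b.v <;> cases beta b.v a.v <;> rfl

theorem qform_zero : qform 0 = false := by simp [qform, quad, W.zero_def, beta_zero_left]

/-- The symplectic form is nondegenerate and every functional is a form. -/
theorem exists_form_eq : ∀ δ : Fin 64, ∃ r : Fin 64, ∀ i : Fin 6,
    form (Fin.ofNat 64 (2 ^ i.val)) r = δ.val.testBit i.val := by
  decide +kernel

/-- A vector from bits. -/
def bvec (a : Fin 6 → Bool) : Fin 64 :=
  Fin.ofNat 64 ((if a 0 then 1 else 0) + (if a 1 then 2 else 0) + (if a 2 then 4 else 0) +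
    (if a 3 then 8 else 0) + (if a 4 then 16 else 0) + (if a 5 then 32 else 0))

/-- A multiple of a vector. -/
def sel (b : Bool) (w : W) : W := if b then w else 0

/-- The map with given images of the standard basis. -/
def comb (u : Fin 6 → W) (a : W) : W :=
  sel (a.v.val.testBit 0) (u 0) + sel (a.v.val.testBit 1) (u 1) + sel (a.v.val.testBit 2) (u 2) +
    sel (a.v.val.testBit 3) (u 3) + sel (a.v.val.testBit 4) (u 4) + sel (a.v.val.testBit 5) (u 5)

theorem sel_xor (a b : Bool) (w : W) : sel (Bool.xor a b) w = sel a w + sel b w := by
  cases a <;> cases b <;> simp [sel, W.add_self]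

theorem comb_add (u : Fin 6 → W) (a b : W) : comb u (a + b) = comb u a + comb u b := by
  simp only [comb, W.add_def a b, val_vadd, Nat.testBit_xor, sel_xor]
  abel

/-- The map with given images as a homomorphism. -/
def combHom (u : Fin 6 → W) : W →+ W where
  toFun := comb u
  map_zero' := by simp [comb, sel, W.zero_def]
  map_add' := comb_add u

/-- The standard basis. -/
def std (i : Fin 6) : W := ⟨Fin.ofNat 64 (2 ^ i.val)⟩

theorem combHom_std (u : Fin 6 → W) : ∀ i, combHom u (std i) = u i := by
  intro i
  show comb u (std i) = u i
  fin_cases i <;> simp [comb, sel, std, Fin.ofNat, Nat.testBit, Nat.shiftRight_eq_div_pow]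

theorem eq_comb_std : ∀ a : W, a = comb std a := by decide +kernel

theorem hom_ext {f g : W →+ W} (h : ∀ i, f (std i) = g (std i)) : f = g := by
  have hs : ∀ (f : W →+ W) (b : Bool) (i : Fin 6), f (sel b (std i)) = sel b (f (std i)) := by
    intro f b i
    cases b <;> simp [sel]
  ext1 a
  rw [eq_comb_std a]
  simp only [comb, map_add, hs, h]

/-- The standard element `k l` as a homomorphism. -/
def stdHom (k : Fin 3) (l : Fin 168) : W →+ W :=
  combHom fun i => ⟨actV k l (Fin.ofNat 64 (2 ^ i.val))⟩

theorem actV_add (k : Fin 3) (l : Fin 168) (v w : Fin 64) :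
    actV k l (vadd v w) = vadd (actV k l v) (actV k l w) :=
  congrArg E7.v (act_hom k l ⟨v, false⟩ ⟨w, false⟩)

theorem stdHom_apply (k : Fin 3) (l : Fin 168) (a : W) : stdHom k l a = ⟨actV k l a.v⟩ := by
  let g : W →+ W := AddMonoidHom.mk' (fun a => ⟨actV k l a.v⟩) fun a b =>
    congrArg W.mk (actV_add k l a.v b.v)
  have h : stdHom k l = g := hom_ext fun i => by
    rw [stdHom, combHom_std]
    rfl
  rw [h]
  rfl

theorem stdHom_mul (k : Fin 3) (a b : Fin 168) :
    (stdHom k a).comp (stdHom k b) = stdHom k (mulL a b) := by
  ext1 w
  simp only [AddMonoidHom.comp_apply, stdHom_apply]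
  exact congrArg W.mk (congrArg E7.v (act_mul k a b ⟨w.v, false⟩))

/-! ### The element of order 7 -/

variable (f : W →+ W)

/-- The projection on the part with polynomial `x³+x+1`. -/
def projA (a : W) : W := a + f a + f (f a) + f (f (f (f a)))

/-- The projection on the part with polynomial `x³+x²+1`. -/
def projB (a : W) : W := a + f (f (f a)) + f (f (f (f (f a)))) + f (f (f (f (f (f a)))))

/-- The projection on the fixed points. -/
def projF (a : W) : W :=
  a + f a + f (f a) + f (f (f a)) + f (f (f (f a))) + f (f (f (f (f a)))) +
    f (f (f (f (f (f a)))))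

/-- Three-term sums agree up to repeated summands. -/
theorem proj_sum (a : W) : projA f a + projB f a + projF f a = a := by
  simp only [projA, projB, projF]
  simp [add_comm, add_left_comm, W.add_self, W.add_self_left]

variable {f}
variable (h7 : ∀ a, f (f (f (f (f (f (f a)))))) = a)
variable (hq : ∀ a, qform (f a) = qform a)
include h7

theorem projA_rel (a : W) :
    f (f (f (projA f a))) = f (projA f a) + projA f a := by
  simp only [projA, map_add, h7]
  abel_nf
  simp [two_smul, W.add_self]

theorem projB_rel (a : W) :
    f (f (f (projB f a))) = f (f (projB f a)) + projB f a := by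
  simp only [projB, map_add, h7]
  abel_nf
  simp [two_smul, W.add_self]

theorem projF_rel (a : W) : f (projF f a) = projF f a := by
  simp only [projF, map_add, h7]
  abel

omit h7
include hq

theorem bform_map (a b : W) : bform (f a) (f b) = bform a b := by
  have h := qform_add (f a) (f b)
  rw [← map_add, hq, hq, hq, qform_add] at h
  cases h1 : bform (f a) (f b) <;> cases h2 : bform a b <;> simp_all

/-- The part with polynomial `x³+x+1` is totally isotropic. -/
theorem bform_AA {a b : W} (ha : f (f (f a)) = f a + a) (hb : f (f (f b)) = f b + b) :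
    bform a b = false := by
  have r : ∀ x, bform a x = Bool.xor (bform a (f (f x))) (bform a (f (f (f x)))) := by
    intro x
    rw [← bform_map hq a (f (f x)), ← bform_add_left, ← ha, bform_map hq, bform_map hq,
      bform_map hq]
  have r0 := r b
  have r1 := r (f b)
  rw [hb, bform_add_right] at r0
  rw [hb, map_add, bform_add_right, bform_add_right] at r1
  revert r0 r1
  generalize bform a b = p
  generalize bform a (f b) = q
  generalize bform a (f (f b)) = t
  revert p q t
  decide

theorem bform_BB {a b : W} (ha : f (f (f a)) = f (f a) + a) (hb : f (f (f b)) = f (f b) + b) :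
    bform a b = false := by
  have h3 : bform (f (f (f a))) (f (f (f b))) = bform a b := by
    rw [bform_map hq, bform_map hq, bform_map hq]
  rw [ha, hb, bform_add_left, bform_add_right, bform_add_right, bform_map hq, bform_map hq] at h3
  have h4 := bform_map hq (f (f a)) b
  rw [ha, bform_add_left, bform_map hq (f a) b] at h4
  have h5 := bform_map hq a (f (f b))
  rw [hb, bform_add_right, bform_map hq a (f b)] at h5
  have h6 : bform (f (f (f a))) (f b) = bform (f (f a)) b := bform_map hq _ _
  have h7' : bform (f a) (f (f (f b))) = bform a (f (f b)) := bform_map hq _ _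
  revert h3 h4 h5
  generalize bform a b = p
  generalize bform a (f b) = q
  generalize bform (f a) b = r
  generalize bform (f (f a)) b = s
  generalize bform a (f (f b)) = t
  revert p q r s t
  decide

theorem bform_AF {a b : W} (ha : f (f (f a)) = f a + a) (hb : f b = b) : bform a b = false := by
  have h1 := bform_map hq (f (f a)) b
  have h2 := bform_map hq (f a) b
  have h3 := bform_map hq a b
  rw [hb] at h1 h2 h3
  rw [ha, bform_add_left] at h1
  revert h1 h2 h3
  generalize bform a b = p
  generalize bform (f a) b = q
  generalize bform (f (f a)) b = r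
  revert p q r
  decide

theorem bform_BF {a b : W} (ha : f (f (f a)) = f (f a) + a) (hb : f b = b) : bform a b = false := by
  have h1 := bform_map hq (f (f a)) b
  have h2 := bform_map hq (f a) b
  have h3 := bform_map hq a b
  rw [hb] at h1 h2 h3
  rw [ha, bform_add_left] at h1
  revert h1 h2 h3
  generalize bform a b = p
  generalize bform (f a) b = q
  generalize bform (f (f a)) b = r
  revert p q r
  decide

theorem qform_A {a : W} (ha : f (f (f a)) = f a + a) : qform a = false := by
  have h : qform (f (f (f a))) = qform a := by rw [hq, hq, hq]
  have hfa : f (f (f (f a))) = f (f a) + f a := by rw [ha, map_add]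
  rw [ha, qform_add, hq, bform_AA hq hfa ha] at h
  cases hqa : qform a <;> simp_all

theorem qform_B {a : W} (ha : f (f (f a)) = f (f a) + a) : qform a = false := by
  have h : qform (f (f (f a))) = qform a := by rw [hq, hq, hq]
  have hfa : f (f (f (f (f a)))) = f (f (f (f a))) + f (f a) := by
    rw [← map_add, ← map_add, ← ha]
  rw [ha, qform_add, hq, hq, bform_BB hq hfa ha] at h
  cases hqa : qform a <;> simp_all

end CfsgLib.HeldCentre
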