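import Cfsg.Agent.HeldCentre.Algebra

/-!
The standard basis for a group of order 21 in the orthogonal group of plus type in dimension 6.
-/

set_option autoImplicit false

namespace CfsgLib.HeldCentre

theorem W.induction_std {P : W → Prop} (h0 : P 0) (hs : ∀ i, P (std i))
    (hadd : ∀ a b, P a → P b → P (a + b)) (a : W) : P a := by
  have hsel : ∀ b i, P (sel b (std i)) := fun b i => by cases b <;> simp [sel, h0, hs i]
  rw [eq_comb_std a]
  exact hadd _ _ (hadd _ _ (hadd _ _ (hadd _ _ (hadd _ _ (hsel _ _) (hsel _ _)) (hsel _ _))
    (hsel _ _)) (hsel _ _)) (hsel _ _)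

theorem bform_nondeg {a : W} (h : ∀ b, bform a b = false) : a = 0 := by
  have key : ∀ v : Fin 64, (∀ i : Fin 6, form v (Fin.ofNat 64 (2 ^ i.val)) = false) → v = 0 := by
    decide +kernel
  exact W.ext (key a.v fun i => h (std i))

theorem qform_comp {T : W →+ W} (hb : ∀ i j, bform (T (std i)) (T (std j)) = bform (std i) (std j))
    (hs : ∀ i, qform (T (std i)) = false) :
    (∀ a b, bform (T a) (T b) = bform a b) ∧ ∀ a, qform (T a) = qform a := by
  have hB : ∀ a b, bform (T a) (T b) = bform a b := by
    intro a b
    induction a using W.induction_std with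
    | h0 => simp [bform_zero_left]
    | hs i =>
      induction b using W.induction_std with
      | h0 => simp [bform_zero_right]
      | hs j => exact hb i j
      | hadd c d hc hd => rw [map_add, bform_add_right, bform_add_right, hc, hd]
    | hadd c d hc hd => rw [map_add, bform_add_left, bform_add_left, hc, hd]
  refine ⟨hB, fun a => ?_⟩
  induction a using W.induction_std with
  | h0 => simp
  | hs i =>
    rw [hs i]
    have : ∀ i, qform (std i) = false := by decide +kernel
    exact (this i).symm
  | hadd c d hc hd => rw [map_add, qform_add, qform_add, hc, hd, hB]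

variable {f h : W →+ W}

theorem eq_of_sum {a b : W} (h : a + b = 0) : a = b := by
  rw [← add_zero a, ← W.add_self b, ← add_assoc, h, zero_add]

theorem fixed_A {a : W} (ha : f (f (f a)) = f a + a) (hf : f a = a) : a = 0 := by
  rw [hf, hf, hf, W.add_self] at ha
  exact ha

variable (h7 : ∀ a, f (f (f (f (f (f (f a)))))) = a)
variable (h3 : ∀ a, h (h (h a)) = a)
variable (hfh : ∀ a, h (f a) = f (f (h a)))
include h7

theorem f_injective : Function.Injective f := fun a b hab => by
  rw [← h7 a, ← h7 b, hab]

theorem fix_of_sq {a : W} (h2 : f (f a) = a) : f a = a := by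
  have := h7 a
  rwa [h2, h2, h2] at this

include hfh

theorem h_A {a : W} (ha : f (f (f a)) = f a + a) : f (f (f (h a))) = f (h a) + h a := by
  have e := congrArg h ha
  rw [map_add, hfh, hfh, hfh] at e
  have e2 := congrArg f e
  rw [h7, map_add] at e2
  calc f (f (f (h a))) = f (f (f (h a))) + (h a + h a) := by rw [W.add_self, add_zero]
    _ = f (f (f (h a))) + ((f (f (f (h a))) + f (h a)) + h a) := by rw [← e2]
    _ = f (h a) + h a := by rw [add_assoc, W.add_self_left]

theorem h_B {a : W} (ha : f (f (f a)) = f (f a) + a) : f (f (f (h a))) = f (f (h a)) + h a := by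
  have e := congrArg h ha
  simp only [map_add, hfh] at e
  have e2 := congrArg f e
  rw [h7, map_add] at e2
  have e3 := congrArg (fun x => f (f x)) e2
  simp only [map_add] at e3
  rw [h7] at e3
  calc f (f (f (h a))) = (h a + f (f (f (h a)))) + h a := by
        rw [add_comm (h a), add_assoc, W.add_self, add_zero]
    _ = f (f (h a)) + h a := by rw [← e3]

include h3

theorem exists_fixed_A {a : W} (ha : f (f (f a)) = f a + a) (ha0 : a ≠ 0) :
    ∃ u, u ≠ 0 ∧ f (f (f u)) = f u + u ∧ h u = u := by
  have inA : ∀ {x : W}, f (f (f x)) = f x + x → f (f (f (f x))) = f (f x) + f x := fun hx => by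
    rw [hx, map_add]
  have key : ∀ {x : W}, f (f (f x)) = f x + x → x + h x + h (h x) ≠ 0 →
      ∃ u, u ≠ 0 ∧ f (f (f u)) = f u + u ∧ h u = u := by
    intro x hx hne
    refine ⟨_, hne, ?_, ?_⟩
    · simp only [map_add, hx, h_A h7 hfh hx, h_A h7 hfh (h_A h7 hfh hx)]
      abel
    · simp only [map_add, h3]
      abel
  by_cases e0 : a + h a + h (h a) = 0
  swap; · exact key ha e0
  by_cases e1 : f a + h (f a) + h (h (f a)) = 0
  swap; · exact key (inA ha) e1
  by_cases e2 : f (f a) + h (f (f a)) + h (h (f (f a))) = 0
  swap; · exact key (inA (inA ha)) e2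
  exfalso
  have hx := h_A h7 hfh ha
  have hy := h_A h7 hfh hx
  simp only [hfh, h7] at e1 e2
  revert e0 e1 e2 hx hy
  generalize h (h a) = y
  generalize h a = x
  intro e0 hx hy e1 e2
  have hxe : x = a + y := eq_of_sum (by rw [← e0]; abel)
  have h1 : f y = f a + f (f a) := eq_of_sum (by
    rw [← e1, inA hy, hxe]
    simp [map_add, add_comm, add_left_comm, W.add_self, W.add_self_left])
  have hye : y = a + f a := f_injective h7 (by rw [h1, map_add])
  have hxf : x = f a := by rw [hxe, hye, W.add_self_left]
  rw [inA hx, hxf, hye] at e2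
  simp only [map_add, ha] at e2
  have h2 : f (f a) = a := eq_of_sum (by
    rw [← e2]
    simp [add_comm, add_left_comm, W.add_self, W.add_self_left])
  exact ha0 (fixed_A ha (fix_of_sq h7 h2))

omit h7 h3 hfh

variable (hq : ∀ a, qform (f a) = qform a)
include h7 hq

theorem exists_A_ne (hne : ∃ a, f a ≠ a) : ∃ a : W, a ≠ 0 ∧ f (f (f a)) = f a + a := by
  by_contra hcon
  push Not at hcon
  have hA : ∀ a, projA f a = 0 := fun a => by
    by_contra h0
    exact hcon _ h0 (projA_rel h7 a)
  have hB : ∀ a, projB f a = 0 := by
    intro a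
    apply bform_nondeg
    intro b
    rw [← proj_sum f b, hA, zero_add, bform_add_right,
      bform_BB hq (projB_rel h7 a) (projB_rel h7 b),
      bform_BF hq (projB_rel h7 a) (projF_rel h7 b)]
    rfl
  obtain ⟨a, ha⟩ := hne
  apply ha
  conv_lhs => rw [← proj_sum f a]
  conv_rhs => rw [← proj_sum f a]
  simp [hA, hB, projF_rel h7]

theorem exists_dual {u : W} (hu : f (f (f u)) = f u + u) (hu0 : u ≠ 0) :
    ∃ b, f (f (f b)) = f (f b) + b ∧ bform u b = true ∧ bform (f u) b = false ∧
      bform (f (f u)) b = false := by
  let R (p q r : Bool) : Prop := ∃ b, f (f (f b)) = f (f b) + b ∧ bform u b = p ∧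
    bform (f u) b = q ∧ bform (f (f u)) b = r
  have step : ∀ {p q r}, R p q r → R (Bool.xor r p) p q := by
    rintro p q r ⟨b, hb, h1, h2, h4⟩
    refine ⟨f b, by rw [← map_add, ← hb], ?_, ?_, ?_⟩
    · have : f (f (f u) + u) = u := by
        rw [map_add, hu, add_comm (f u), add_assoc, W.add_self, add_zero]
      rw [← this, bform_map hq, bform_add_left, h4, h1]
    · rw [bform_map hq, h1]
    · rw [bform_map hq, h2]
  obtain ⟨x, hx⟩ : ∃ x, bform u x = true := by
    by_contra hcon
    push Not at hcon
    exact hu0 (bform_nondeg fun b => by simpa using hcon b)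
  rw [← proj_sum f x, bform_add_right, bform_add_right, bform_AA hq hu (projA_rel h7 x),
    bform_AF hq hu (projF_rel h7 x)] at hx
  have start : R true (bform (f u) (projB f x)) (bform (f (f u)) (projB f x)) :=
    ⟨_, projB_rel h7 x, by simpa using hx, rfl, rfl⟩
  revert start
  generalize bform (f u) (projB f x) = q
  generalize bform (f (f u)) (projB f x) = r
  intro start
  cases q <;> cases r
  · exact start
  · exact step (step (step start))
  · exact step (step (step (step (step (step start)))))
  · exact step (step (step (step (step start))))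

include h3 hfh

variable (hqh : ∀ a, qform (h a) = qform a)
include hqh

/-- The standard coordinates. -/
theorem exists_basis (k : Fin 3) (hne : ∃ a, f a ≠ a) :
    ∃ T : W →+ W, Function.Bijective T ∧ (∀ a, qform (T a) = qform a) ∧
      (∀ a, f (T a) = T (stdHom k (genL 0) a)) ∧ ∀ a, h (T a) = T (stdHom k (genL 1) a) := by
  obtain ⟨a, ha0, ha⟩ := exists_A_ne h7 hq hne
  obtain ⟨u, hu0, hu, hhu⟩ := exists_fixed_A h7 h3 hfh ha ha0
  obtain ⟨b, hb, p1, p2, p4⟩ := exists_dual h7 hq hu hu0
  have inA : ∀ {x : W}, f (f (f x)) = f x + x → f (f (f (f x))) = f (f x) + f x := fun hx => by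
    rw [hx, map_add]
  have inB : ∀ {x : W}, f (f (f x)) = f (f x) + x → f (f (f (f x))) = f (f (f x)) + f x :=
    fun hx => by rw [← map_add, ← hx]
  have addB : ∀ {x y : W}, f (f (f x)) = f (f x) + x → f (f (f y)) = f (f y) + y →
      f (f (f (x + y))) = f (f (x + y)) + (x + y) := fun hx hy => by
    simp only [map_add] at hx hy ⊢
    rw [hx, hy]
    abel
  have A1 := inA hu
  have A2 := inA A1
  have B1 := addB (inB hb) hb
  have B2 := addB (inB (inB hb)) (inB hb)
  let T : W →+ W := combHom ![u, f u, f (f u), b, f b + b, f (f b) + f b]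
  have T0 : T (std 0) = u := combHom_std _ 0
  have T1 : T (std 1) = f u := combHom_std _ 1
  have T2 : T (std 2) = f (f u) := combHom_std _ 2
  have T3 : T (std 3) = b := combHom_std _ 3
  have T4 : T (std 4) = f b + b := combHom_std _ 4
  have T5 : T (std 5) = f (f b) + f b := combHom_std _ 5
  have fu' : f (f (f u) + u) = u := by
    rw [map_add, hu, add_comm (f u), add_assoc, W.add_self, add_zero]
  have p0b : bform u (f b) = true := by
    rw [← fu', bform_map hq, bform_add_left, p4, p1]
    rfl
  have p1b : bform (f u) (f b) = true := by rw [bform_map hq, p1]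
  have p2b : bform (f (f u)) (f b) = false := by rw [bform_map hq, p2]
  have p0bb : bform u (f (f b)) = true := by
    rw [← fu', bform_map hq, bform_add_left, p2b, p0b]
    rfl
  have p1bb : bform (f u) (f (f b)) = true := by rw [bform_map hq, p0b]
  have p2bb : bform (f (f u)) (f (f b)) = true := by rw [bform_map hq, p1b]
  have hiso := qform_comp (T := T) (by
    intro i j
    fin_cases i <;> fin_cases j <;>
      simp only [Fin.zero_eta, Fin.mk_one, Fin.reduceFinMk, T0, T1, T2, T3, T4, T5] <;>
      first
        | exact (bform_AA hq hu hu).trans (by decide +kernel)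
        | exact (bform_AA hq hu A1).trans (by decide +kernel)
        | exact (bform_AA hq hu A2).trans (by decide +kernel)
        | exact (bform_AA hq A1 hu).trans (by decide +kernel)
        | exact (bform_AA hq A1 A1).trans (by decide +kernel)
        | exact (bform_AA hq A1 A2).trans (by decide +kernel)
        | exact (bform_AA hq A2 hu).trans (by decide +kernel)
        | exact (bform_AA hq A2 A1).trans (by decide +kernel)
        | exact (bform_AA hq A2 A2).trans (by decide +kernel)
        | exact (bform_BB hq hb hb).trans (by decide +kernel)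
        | exact (bform_BB hq hb B1).trans (by decide +kernel)
        | exact (bform_BB hq hb B2).trans (by decide +kernel)
        | exact (bform_BB hq B1 hb).trans (by decide +kernel)
        | exact (bform_BB hq B1 B1).trans (by decide +kernel)
        | exact (bform_BB hq B1 B2).trans (by decide +kernel)
        | exact (bform_BB hq B2 hb).trans (by decide +kernel)
        | exact (bform_BB hq B2 B1).trans (by decide +kernel)
        | exact (bform_BB hq B2 B2).trans (by decide +kernel)
        | (simp only [bform_add_right, p1, p2, p4, p0b, p1b, p2b, p0bb, p1bb, p2bb]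
           decide +kernel)
        | (rw [bform_comm]
           simp only [bform_add_right, p1, p2, p4, p0b, p1b, p2b, p0bb, p1bb, p2bb]
           decide +kernel)) (by
    intro i
    fin_cases i <;> simp only [Fin.zero_eta, Fin.mk_one, Fin.reduceFinMk, T0, T1, T2, T3, T4, T5]
    · exact qform_A hq hu
    · exact qform_A hq A1
    · exact qform_A hq A2
    · exact qform_B hq hb
    · exact qform_B hq B1
    · exact qform_B hq B2)
  have hinj : Function.Injective T := by
    rw [injective_iff_map_eq_zero]
    intro x hx
    refine bform_nondeg fun y => ?_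
    rw [← hiso.1, hx, bform_zero_left]
  have hbij : Function.Bijective T := Finite.injective_iff_bijective.1 hinj
  have hhb : h b = b := by
    obtain ⟨x, hx⟩ := hbij.2 (h b)
    have key : ∀ i, bform (h b) (T (std i)) = bform b (T (std i)) := by
      intro i
      have hb' := h_B h7 hfh hb
      have e2 : h (f u) = f (f u) := by rw [hfh, hhu]
      have e4 : h (f (f u) + f u) = f u := by
        rw [map_add, hfh, hfh, hhu, A1, add_assoc, add_comm (f u), W.add_self_left]
      fin_cases i <;> simp only [Fin.zero_eta, Fin.mk_one, Fin.reduceFinMk, T0, T1, T2, T3, T4, T5]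
      · conv_lhs => rw [← hhu, bform_map hqh]
      · conv_lhs => rw [← e4, bform_map hqh, bform_comm, bform_add_left, p4, p2]
        rw [bform_comm, p2]
        rfl
      · conv_lhs => rw [← e2, bform_map hqh, bform_comm, p2]
        rw [bform_comm, p4]
      · rw [bform_BB hq hb' hb, bform_BB hq hb hb]
      · rw [bform_BB hq hb' B1, bform_BB hq hb B1]
      · rw [bform_BB hq hb' B2, bform_BB hq hb B2]
    have hall : ∀ y, bform (h b) (T y) = bform b (T y) := by
      intro y
      induction y using W.induction_std with
      | h0 => simp [bform_zero_right]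
      | hs i => exact key i
      | hadd c d hc hd => rw [map_add, bform_add_right, bform_add_right, hc, hd]
    have h0 : h b + b = 0 := bform_nondeg fun y => by
      obtain ⟨y', rfl⟩ := hbij.2 y
      rw [bform_add_left, hall, Bool.xor_self]
    rw [← add_zero (h b), ← W.add_self b, ← add_assoc, h0, zero_add]
  have img : ∀ l : Fin 168, ∀ i, stdHom k l (std i) = ⟨actV k l (Fin.ofNat 64 (2 ^ i.val))⟩ :=
    fun l i => combHom_std _ i
  have tabF : ∀ (k : Fin 3) (i : Fin 6), (⟨actV k (genL 0) (Fin.ofNat 64 (2 ^ i.val))⟩ : W) =
      ![std 1, std 2, std 1 + std 0, std 4 + std 3, std 5, std 3] i := by decide +kernel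
  have tabH : ∀ (k : Fin 3) (i : Fin 6), (⟨actV k (genL 1) (Fin.ofNat 64 (2 ^ i.val))⟩ : W) =
      ![std 0, std 2, std 2 + std 1, std 3, std 5 + std 4, std 4] i := by decide +kernel
  refine ⟨T, hbij, hiso.2, fun a => ?_, fun a => ?_⟩
  · induction a using W.induction_std with
    | h0 => simp
    | hs i =>
      rw [img, tabF]
      fin_cases i <;> simp [map_add, T0, T1, T2, T3, T4, T5, hu, hb] <;>
        simp [add_comm, add_left_comm, W.add_self, W.add_self_left]
    | hadd c d hc hd => simp only [map_add, hc, hd]
  · induction a using W.induction_std with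
    | h0 => simp
    | hs i =>
      rw [img, tabH]
      fin_cases i <;> simp [map_add, T0, T1, T2, T3, T4, T5, hu, hb, hfh, hhu, hhb] <;>
        simp [add_comm, add_left_comm, W.add_self, W.add_self_left]
    | hadd c d hc hd => simp only [map_add, hc, hd]

end CfsgLib.HeldCentre
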