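import Cfsg.Agent.HeldCentre.Iso

/-!
The centraliser as pairs `(u, l)`, for evaluation of words by the kernel.
-/

set_option autoImplicit false
set_option maxRecDepth 4000

namespace CfsgLib.HeldCentre

open Subgroup

/-- Pairs standing for the elements of the centraliser. -/
abbrev P := E7 × Fin 168

/-- The product of pairs. -/
def pm (p q : P) : P := (p.1 * act 0 p.2 q.1, mulL p.2 q.2)

/-- The inverse of a pair. -/
def pinv (p : P) : P := (act 0 (invL p.2) p.1⁻¹, invL p.2)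

/-- The pair with code `n = v + 64 c + 128 l`. -/
def dec (n : ℕ) : P :=
  (⟨Fin.ofNat 64 (n % 64), decide (n / 64 % 2 = 1)⟩, Fin.ofNat 168 (n / 128))

/-- The identity pair. -/
def pone : P := dec 0

/-- Conjugation of pairs. -/
def cjP (c p : P) : P := pm (pm c p) (pinv c)

/-- The value of a word. -/
def evalW (im : List P) : List ℕ → P
  | [] => pone
  | i :: w => pm (im.getD i pone) (evalW im w)

theorem pone_eq : pone = ((1 : E7), (0 : Fin 168)) := by decide +kernel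

theorem pm_pinv (p : P) : pm p (pinv p) = pone := by
  rw [pone_eq]
  show (p.1 * act 0 p.2 (act 0 (invL p.2) p.1⁻¹), mulL p.2 (invL p.2)) = _
  rw [act_mul, (entry_inv p.2).1, act_one, mul_inv_cancel]

section

variable {C : Type*} [Group C] (F : Frame C)

/-- A lift that is a homomorphism. -/
def IsSection (χ : Fin 168 → Bool) : Prop :=
  ∀ a b, F.el ⟨0, χ a⟩ a * F.el ⟨0, χ b⟩ b = F.el ⟨0, χ (mulL a b)⟩ (mulL a b)

theorem exists_isSection [Finite C] (htw : F.tw = false) : ∃ χ, IsSection F χ :=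
  exists_section F htw

/-- The element of a pair. -/
def iota (χ : Fin 168 → Bool) (p : P) : C := F.φ p.1 * F.el ⟨0, χ p.2⟩ p.2

variable {F} {χ : Fin 168 → Bool} (hχ : IsSection F χ)
include hχ

theorem section_zero : χ 0 = false := by
  have h := hχ 0 0
  rw [show mulL 0 0 = 0 by decide +kernel] at h
  have h1 : F.el ⟨0, χ 0⟩ 0 = 1 := mul_eq_left.1 h
  rw [← F.el_one] at h1
  exact congrArg E7.c (F.el_inj h1).1

theorem iota_inner (u : E7) : iota F χ (u, 0) = F.φ u := by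
  show F.φ u * F.el ⟨0, χ 0⟩ 0 = _
  rw [section_zero hχ, show (⟨0, false⟩ : E7) = 1 from rfl, F.el_one, mul_one]

theorem iota_one : iota F χ pone = 1 := by rw [pone_eq, iota_inner hχ, map_one]

theorem iota_mul (hk : F.k = 0) (p q : P) : iota F χ (pm p q) = iota F χ p * iota F χ q := by
  obtain ⟨u, a⟩ := p
  obtain ⟨v, b⟩ := q
  show F.φ (u * act 0 a v) * F.el ⟨0, χ (mulL a b)⟩ (mulL a b) =
    F.φ u * F.el ⟨0, χ a⟩ a * (F.φ v * F.el ⟨0, χ b⟩ b)
  have hc : F.el ⟨0, χ a⟩ a * F.φ v = F.φ (act 0 a v) * F.el ⟨0, χ a⟩ a := by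
    rw [← hk, ← F.conj]
    unfold Frame.el
    calc F.φ ⟨0, χ a⟩ * F.σ a * F.φ v
        = F.φ ⟨0, χ a⟩ * (F.σ a * F.φ v * (F.σ a)⁻¹) * F.σ a := by group
      _ = _ := by rw [← (F.commute_c (F.σ a * F.φ v * (F.σ a)⁻¹) _).eq]; group
  symm
  calc F.φ u * F.el ⟨0, χ a⟩ a * (F.φ v * F.el ⟨0, χ b⟩ b)
      = F.φ u * (F.el ⟨0, χ a⟩ a * F.φ v) * F.el ⟨0, χ b⟩ b := by simp only [mul_assoc]
    _ = F.φ (u * act 0 a v) * (F.el ⟨0, χ a⟩ a * F.el ⟨0, χ b⟩ b) := by
        rw [hc, map_mul]; simp only [mul_assoc]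
    _ = _ := by rw [hχ]

omit hχ in
theorem iota_injective : Function.Injective (iota F χ) := by
  rintro ⟨u, a⟩ ⟨v, b⟩ e
  have e' : F.el (u * ⟨0, χ a⟩) a = F.el (v * ⟨0, χ b⟩) b := by
    simpa [iota, Frame.el, mul_assoc] using e
  obtain ⟨e1, e2⟩ := F.el_inj e'
  subst e2
  rw [mul_right_cancel e1]

omit hχ in
theorem iota_surjective : Function.Surjective (iota F χ) := by
  intro c
  obtain ⟨u, l, rfl⟩ := F.el_surj c
  refine ⟨(u * (⟨0, χ l⟩ : E7)⁻¹, l), ?_⟩
  show F.φ _ * F.el ⟨0, χ l⟩ l = _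
  unfold Frame.el
  rw [← mul_assoc, ← map_mul, inv_mul_cancel_right]

theorem iota_pinv (hk : F.k = 0) (p : P) : iota F χ (pinv p) = (iota F χ p)⁻¹ := by
  refine (inv_eq_of_mul_eq_one_right ?_).symm
  rw [← iota_mul hχ hk, pm_pinv, iota_one hχ]

theorem iota_cjP (hk : F.k = 0) (c p : P) :
    iota F χ (cjP c p) = iota F χ c * iota F χ p * (iota F χ c)⁻¹ := by
  rw [cjP, iota_mul hχ hk, iota_mul hχ hk, iota_pinv hχ hk]

theorem iota_evalW (hk : F.k = 0) (im : List P) : ∀ w : List ℕ,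
    iota F χ (evalW im w) = (w.map fun i => iota F χ (im.getD i pone)).prod
  | [] => by simp [evalW, iota_one hχ]
  | i :: w => by
    rw [evalW, iota_mul hχ hk, iota_evalW hk im w]
    simp

end

end CfsgLib.HeldCentre
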