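import Cfsg.Agent.HeldCentre.ClosedSide
import Cfsg.Agent.HeldCentre.Model

/-!
The complement of a closed side may be taken to contain the standard complement in the centraliser:
the other side without its centre, extended by the section.
-/

set_option autoImplicit false
set_option maxRecDepth 4000

namespace CfsgLib.HeldCentre

open Subgroup

/-- A standard element of the other side is determined by its class. -/
theorem high_equivariant : ∀ w : Fin 64, side false w = true → ∀ f : Fin 64, side true f = true →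
    (∀ l : Fin 168, actV 0 l w = w → actV 0 l f = f) → w ≠ 0 → f = 0 := by
  decide +kernel

theorem side_split : ∀ (v : Fin 64) (c : Bool), ∃ p : Fin 64, side true p = true ∧
    side false (vadd p v) = true := by
  decide +kernel

theorem side_add : ∀ (b : Bool) (v w : Fin 64), side b v = true → side b w = true →
    side b (vadd v w) = true ∧ form v w = false := by
  decide +kernel

theorem bool_linear (f : Fin 8 → Bool) (h : ∀ a b : Fin 8, f (a ^^^ b) = Bool.xor (f a) (f b)) :
    ∃ e : Fin 8, ∀ a : Fin 8, f a = par (e.val &&& a.val) := by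
  refine ⟨Fin.ofNat 8 ((f 1).toNat + 2 * (f 2).toNat + 4 * (f 4).toNat), fun a => ?_⟩
  have key : ∀ (p q r : Bool) (a : Fin 8),
      par ((Fin.ofNat 8 (p.toNat + 2 * q.toNat + 4 * r.toNat)).val &&& a.val) =
        [false, p, q, Bool.xor p q, r, Bool.xor p r, Bool.xor q r,
          Bool.xor (Bool.xor p q) r].getD a.val false := by decide +kernel
  rw [key]
  have h0 : f 0 = false := by
    have := h 0 0
    rw [show (0 : Fin 8) ^^^ 0 = 0 by decide, Bool.xor_self] at this
    exact this
  have h3 : f 3 = Bool.xor (f 1) (f 2) := h 1 2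
  have h5 : f 5 = Bool.xor (f 1) (f 4) := h 1 4
  have h6 : f 6 = Bool.xor (f 2) (f 4) := h 2 4
  have h7 : f 7 = Bool.xor (Bool.xor (f 1) (f 2)) (f 4) := (h 3 4).trans (by rw [h3])
  fin_cases a <;> first | exact h0 | exact h3 | exact h5 | exact h6 | exact h7 | rfl

theorem high_code : ∀ (a b : Fin 8) (w : Fin 64),
    vadd (Fin.ofNat 64 (8 * a.val)) (Fin.ofNat 64 (8 * b.val)) = Fin.ofNat 64 (8 * (a ^^^ b).val) ∧
      side false (Fin.ofNat 64 (8 * a.val)) = true ∧
      (side false w = true → w = Fin.ofNat 64 (8 * (w.val / 8 % 8))) := by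
  decide +kernel

theorem form_high : ∀ (e a : Fin 8),
    form (Fin.ofNat 64 (8 * a.val)) (Fin.ofNat 64 e.val) = par (e.val &&& a.val) ∧
      side true (Fin.ofNat 64 e.val) = true := by
  decide +kernel

/-- Every class is the product of two squares. -/
theorem two_squares (l : Fin 168) : ∃ a b : Fin 168, mulL (mulL a a) (mulL b b) = l := by
  have key : ∀ l : Fin 168, ([0, 6, 9] : List (Fin 168)).any (fun a =>
      (List.finRange 168).any fun b => decide (mulL b b = mulL (invL (mulL a a)) l)) = true := by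
    decide +kernel
  obtain ⟨a, -, ha⟩ := List.any_eq_true.1 (key l)
  obtain ⟨b, -, hb⟩ := List.any_eq_true.1 ha
  refine ⟨a, b, ?_⟩
  rw [of_decide_eq_true hb, ← mulL_assoc, (entry_inv _).1, (mulL_one l).2]

section

variable {C : Type*} [Group C] {F : Frame C}

/-- The lift by a homomorphism is unique. -/
theorem section_unique {χ χ' : Fin 168 → Bool} (h : IsSection F χ) (h' : IsSection F χ') :
    χ = χ' := by
  have key : ∀ a b, Bool.xor (χ (mulL a b)) (χ' (mulL a b)) =
      Bool.xor (Bool.xor (χ a) (χ' a)) (Bool.xor (χ b) (χ' b)) := by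
    intro a b
    have e : ∀ χ : Fin 168 → Bool, IsSection F χ →
        χ (mulL a b) = Bool.xor (Bool.xor (χ a) (χ b)) (F.sgn a b) := by
      intro χ h
      have h2 := h a b
      rw [F.el_mul] at h2
      have h3 := congrArg E7.c (F.el_inj h2).1
      have hact : ∀ c : Bool, act F.k a ⟨0, c⟩ = ⟨0, c⟩ := by
        intro c
        cases c
        · have := act_hom F.k a 1 1
          rw [mul_one] at this
          exact mul_eq_left.1 this.symm
        · exact act_zc F.k a
      rw [hact] at h3
      simp only [E7.mul_def, beta_zero_left, Bool.xor_false, vadd_zero] at h3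
      exact h3.symm
    rw [e χ h, e χ' h']
    cases χ a <;> cases χ b <;> cases χ' a <;> cases χ' b <;> cases F.sgn a b <;> rfl
  funext l
  obtain ⟨a, b, rfl⟩ := two_squares l
  have := key (mulL a a) (mulL b b)
  rw [key a a, key b b, Bool.xor_self, Bool.xor_self, Bool.xor_self] at this
  revert this
  cases χ (mulL (mulL a a) (mulL b b)) <;> cases χ' (mulL (mulL a a) (mulL b b)) <;> simp

end

variable {G : Type*} [Group G] [Finite G] {z : G} {F : Frame (centralizer ({z} : Set G))}
variable (hk : F.k = 0) (htw : F.tw = false) (hz : (F.φ E7.zc : G) = z)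

/-- A complement of the side in its normaliser. -/
structure IsSideComplement (F : Frame (centralizer ({z} : Set G))) (H : Subgroup G) : Prop where
  le : H ≤ sideNorm F true
  disjoint : ∀ x ∈ H, x ∈ sideGroup F true → x = 1
  cover : ∀ n ∈ sideNorm F true, ∃ e ∈ sideGroup F true, ∃ h ∈ H, n = e * h

include hk htw hz in
theorem exists_sideComplement (hz1 : z ≠ 1) (hf : FusedSide F true) (hc : ClosedSide F true) :
    ∃ H, IsSideComplement F H := by
  set N := sideNorm F true
  have hEN : sideGroup F true ≤ N := le_normalizer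
  let EN : Subgroup N := (sideGroup F true).subgroupOf N
  haveI : EN.Normal := Subgroup.normal_subgroupOf_iff hEN |>.2 fun x g hx hg =>
    (mem_set_normalizer_iff.1 hg x).1 hx
  haveI : IsMulCommutative EN := ⟨⟨by
    rintro ⟨x, hx⟩ ⟨y, hy⟩
    obtain ⟨r, hr⟩ := hx
    obtain ⟨s, hs⟩ := hy
    apply Subtype.ext
    apply Subtype.ext
    show (x : G) * y = y * x
    simp only [Subgroup.coe_subtype] at hr hs
    rw [← hr, ← hs, ← map_mul, mul_comm, map_mul]⟩⟩
  have hCN : centralizer ({z} : Set G) ≤ N := centralizer_le_sideNorm F hk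
  let U : Subgroup N := (centralizer ({z} : Set G)).subgroupOf N
  have hENc : Nat.card EN = 16 := by
    rw [Nat.card_congr (Subgroup.subgroupOfEquivOfLe hEN).toEquiv, card_sideGroup]
  have hUi : U.index = 15 := by
    have := U.card_mul_index
    rw [Nat.card_congr (Subgroup.subgroupOfEquivOfLe hCN).toEquiv, card_centralizer F hz,
      card_sideNorm F hk hz hz1 hf hc] at this
    omega
  obtain ⟨A, hAC, hAE, hCA⟩ := exists_centralizer_complement F hk htw true
  have hEC : sideGroup F true ≤ centralizer ({z} : Set G) := by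
    intro x hx
    obtain ⟨u, -, rfl⟩ := (mem_sideGroup F).1 hx
    exact (F.φ u).2
  obtain ⟨H, hH⟩ := CfsgLib.Solvable.exists_complement_of_gaschutz (K := EN) (U := U)
    (fun x hx => hEC hx) (by rw [hENc, hUi]; decide) (A := A.subgroupOf N)
    (by
      refine eq_bot_iff.2 fun x hx => ?_
      exact Subtype.ext (hAE _ hx.1 hx.2))
    (by
      refine le_antisymm (sup_le (fun x hx => hEC hx) (fun x hx => hAC hx)) fun x hx => ?_
      obtain ⟨e, he, a, ha, hea⟩ := hCA _ hx
      have hx' : x = (⟨e, hEN he⟩ : N) * ⟨a, hCN (hAC ha)⟩ := Subtype.ext hea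
      rw [hx']
      exact mul_mem (mem_sup_left he) (mem_sup_right ha))
  refine ⟨H.map N.subtype, Subgroup.map_subtype_le H, ?_, fun n hn => ?_⟩
  · rintro _ ⟨x, hx, rfl⟩ hxE
    have := hH.disjoint
    rw [Subgroup.disjoint_def] at this
    exact congrArg Subtype.val (this (show x ∈ EN from hxE) hx)
  · obtain ⟨⟨⟨e, he⟩, ⟨h, hh⟩⟩, heh⟩ := hH.2 (⟨n, hn⟩ : N)
    exact ⟨_, he, _, ⟨h, hh, rfl⟩, (congrArg Subtype.val heh).symm⟩

omit [Finite G] in
/-- Conjugating a complement by a member of the side gives a complement. -/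
theorem IsSideComplement.conj {H : Subgroup G} (hH : IsSideComplement F H) {e : G}
    (he : e ∈ sideGroup F true) : IsSideComplement F (H.map (MulAut.conj e).toMonoidHom) := by
  have hN : e ∈ sideNorm F true := le_normalizer he
  refine ⟨?_, ?_, ?_⟩
  · rintro _ ⟨h, hh, rfl⟩
    exact mul_mem (mul_mem hN (hH.le hh)) (inv_mem hN)
  · rintro _ ⟨h, hh, rfl⟩ hx
    have : h ∈ sideGroup F true := by
      have := mul_mem (mul_mem (inv_mem he) hx) he
      simpa [mul_assoc] using this
    simp [hH.disjoint h hh this]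
  · intro n hn
    obtain ⟨a, ha, h, hh, hah⟩ := hH.cover (e⁻¹ * n * e) (mul_mem (mul_mem (inv_mem hN) hn) hN)
    refine ⟨e * a * e⁻¹, mul_mem (mul_mem he ha) (inv_mem he), e * h * e⁻¹, ⟨h, hh, rfl⟩, ?_⟩
    calc n = e * (e⁻¹ * n * e) * e⁻¹ := by group
      _ = e * (a * h) * e⁻¹ := by rw [hah]
      _ = _ := by group

include hk htw hz in
/-- A complement containing the standard complement in the centraliser. -/
theorem exists_canonical_complement (hz1 : z ≠ 1) (hf : FusedSide F true)
    (hc : ClosedSide F true) {χ : Fin 168 → Bool} (hχ : IsSection F χ) :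
    ∃ H, IsSideComplement F H ∧ ∀ (w : Fin 64) (l : Fin 168), side false w = true →
      ((iota F χ (⟨w, false⟩, l) : centralizer ({z} : Set G)) : G) ∈ H := by
  obtain ⟨H0, hH0⟩ := exists_sideComplement hk htw hz hz1 hf hc
  have hmul : ∀ (H : Subgroup G) {u v : E7}, (F.φ u : G) ∈ H → (F.φ v : G) ∈ H →
      (F.φ (u * v) : G) ∈ H := fun H u v hu hv => by
    rw [map_mul, Subgroup.coe_mul]
    exact mul_mem hu hv
  -- the component of the other side
  have hcomp : ∀ w : Fin 64, side false w = true → ∃ r : E7, (F.φ r : G) ∈ H0 ∧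
      side true (vadd r.v w) = true := by
    intro w hw
    obtain ⟨e, he, h, hh, heh⟩ := hH0.cover (F.φ ⟨w, false⟩ : G)
      (centralizer_le_sideNorm F hk (F.φ ⟨w, false⟩).2)
    obtain ⟨u, hu, hue⟩ := (mem_sideGroup F).1 he
    refine ⟨u⁻¹ * ⟨w, false⟩, ?_, ?_⟩
    · have : (F.φ (u⁻¹ * ⟨w, false⟩) : G) = h := by
        rw [map_mul, map_inv, Subgroup.coe_mul, Subgroup.coe_inv, hue, heh, inv_mul_cancel_left]
      rwa [this]
    · have h' : vadd (vadd u.v w) w = u.v := vadd_cancel _ _
      show side true (vadd (vadd u.v w) w) = true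
      rw [h', hu]
  choose! r hr1 hr2 using hcomp
  have runiq : ∀ (H : Subgroup G), IsSideComplement F H → ∀ u v : E7, (F.φ u : G) ∈ H →
      (F.φ v : G) ∈ H → side true (vadd u.v v.v) = true → u = v := by
    intro H hH u v hu hv hs
    have h := hH.disjoint (F.φ (u * v⁻¹) : G) (by
      rw [map_mul, map_inv, Subgroup.coe_mul, Subgroup.coe_inv]
      exact mul_mem hu (inv_mem hv)) ((mem_sideGroup F).2 ⟨_, hs, rfl⟩)
    have h1 : u * v⁻¹ = 1 := F.inj (Subtype.ext (h.trans (by rw [map_one]; rfl)))
    exact mul_inv_eq_one.1 h1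
  -- lifts of the classes
  have hlift : ∀ l : Fin 168, ∃ u : E7, side true u.v = true ∧ (F.el u l : G) ∈ H0 := by
    intro l
    obtain ⟨e, he, h, hh, heh⟩ :=
      hH0.cover (F.el 1 l : G) (centralizer_le_sideNorm F hk (F.el 1 l).2)
    obtain ⟨u, hu, hue⟩ := (mem_sideGroup F).1 he
    refine ⟨u⁻¹, hu, ?_⟩
    have : (F.el u⁻¹ l : G) = h := by
      have e1 : F.el u⁻¹ l = (F.φ u)⁻¹ * F.el 1 l := by simp [Frame.el, map_inv]
      rw [e1, Subgroup.coe_mul, Subgroup.coe_inv, hue, heh, inv_mul_cancel_left]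
    rwa [this]
  -- the component is the class itself
  have hrv : ∀ w : Fin 64, side false w = true → (r w).v = w := by
    intro w hw
    by_cases hw0 : w = 0
    · subst hw0
      have := runiq H0 hH0 (r 0) 1 (hr1 0 hw) (by rw [map_one]; exact one_mem _)
        (by have := hr2 0 hw; rwa [show (1 : E7).v = 0 from rfl])
      rw [this]
      rfl
    set f := vadd (r w).v w with hfdef
    have hfT := hr2 w hw
    have hf0 : f = 0 := by
      refine high_equivariant w hw f hfT (fun l hl => ?_) hw0
      obtain ⟨u, -, hu⟩ := hlift l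
      have hmem : (F.φ (u * act F.k l (r w) * u⁻¹) : G) ∈ H0 := by
        rw [← conj_phi]
        exact mul_mem (mul_mem hu (hr1 w hw)) (inv_mem hu)
      have hv : (u * act F.k l (r w) * u⁻¹).v = actV 0 l (r w).v := by
        rw [E7.conj_eq, hk]
        rfl
      have hlin : ∀ v v' : Fin 64, actV 0 l (vadd v v') = vadd (actV 0 l v) (actV 0 l v') :=
        fun v v' => congrArg E7.v (act_hom 0 l ⟨v, false⟩ ⟨v', false⟩)
      have hrf : (r w).v = vadd f w := by rw [hfdef, vadd_cancel]
      have hs : side true (vadd (u * act F.k l (r w) * u⁻¹).v (r w).v) = true := by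
        rw [hv, hrf, hlin, hl]
        have : vadd (vadd (actV 0 l f) w) (vadd f w) = vadd (actV 0 l f) f := by
          rw [vadd_assoc, vadd_comm f w, ← vadd_assoc w, vadd_self, zero_vadd]
        rw [this]
        exact (side_add true _ _ ((side_act true l f).trans hfT) hfT).1
      have e := congrArg E7.v (runiq H0 hH0 _ _ hmem (hr1 w hw) hs)
      rw [hv, hrf, hlin, hl] at e
      calc actV 0 l f = vadd (vadd (actV 0 l f) w) w := (vadd_cancel _ _).symm
        _ = f := by rw [e, vadd_cancel]
    rw [← vadd_cancel (r w).v w, ← hfdef, hf0, zero_vadd]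
  -- the central parts form a linear function
  let cf : Fin 8 → Bool := fun a => (r (Fin.ofNat 64 (8 * a.val))).c
  have hcf : ∀ a b : Fin 8, cf (a ^^^ b) = Bool.xor (cf a) (cf b) := by
    intro a b
    obtain ⟨hab, ha, -⟩ := high_code a b 0
    obtain ⟨-, hb, -⟩ := high_code b a 0
    obtain ⟨-, hc', -⟩ := high_code (a ^^^ b) a 0
    have hm : (F.φ (r (Fin.ofNat 64 (8 * a.val)) * r (Fin.ofNat 64 (8 * b.val))) : G) ∈ H0 :=
      hmul H0 (hr1 _ ha) (hr1 _ hb)
    have e := runiq H0 hH0 _ _ hm (hr1 _ hc') (by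
      show side true (vadd (vadd _ _) _) = true
      rw [hrv _ ha, hrv _ hb, hrv _ hc', hab, vadd_self]
      decide +kernel)
    have e2 := congrArg E7.c e
    simp only [E7.mul_def, hrv _ ha, hrv _ hb] at e2
    have hb0 : beta (Fin.ofNat 64 (8 * a.val)) (Fin.ofNat 64 (8 * b.val)) = false :=
      (enc_opp false _ _ ha hb).2
    rw [hb0, Bool.xor_false] at e2
    exact e2.symm
  obtain ⟨ev, hev⟩ := bool_linear cf hcf
  obtain ⟨-, hevT⟩ := form_high ev 0
  set e0 : E7 := ⟨Fin.ofNat 64 ev.val, false⟩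
  have he0 : (F.φ e0 : G) ∈ sideGroup F true := (mem_sideGroup F).2 ⟨_, hevT, rfl⟩
  refine ⟨H0.map (MulAut.conj (F.φ e0 : G)).toMonoidHom, hH0.conj he0, ?_⟩
  set H := H0.map (MulAut.conj (F.φ e0 : G)).toMonoidHom with hHdef
  have hH := hH0.conj he0
  have hR : ∀ w : Fin 64, side false w = true → (F.φ ⟨w, false⟩ : G) ∈ H := by
    intro w hw
    refine ⟨(F.φ (r w) : G), hr1 w hw, ?_⟩
    show (F.φ e0 : G) * (F.φ (r w) : G) * (F.φ e0 : G)⁻¹ = _
    rw [← Subgroup.coe_inv, ← Subgroup.coe_mul, ← Subgroup.coe_mul, ← map_inv, ← map_mul, ← map_mul,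
      E7.conj_eq]
    have hcode : w = Fin.ofNat 64 (8 * (w.val / 8 % 8)) := (high_code 0 0 w).2.2 hw
    congr 2
    refine E7.ext (hrv w hw) ?_
    show Bool.xor (r w).c (form (r w).v e0.v) = false
    rw [hrv w hw]
    have e1 := hev ⟨w.val / 8 % 8, Nat.mod_lt _ (by omega)⟩
    have e2 := (form_high ev ⟨w.val / 8 % 8, Nat.mod_lt _ (by omega)⟩).1
    simp only [cf] at e1
    rw [← hcode] at e1 e2
    rw [e1, show e0.v = Fin.ofNat 64 ev.val from rfl, e2, Bool.xor_self]
  have hfix : ∀ l : Fin 168, ∃ c : Bool, (F.el ⟨0, c⟩ l : G) ∈ H := by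
    intro l
    obtain ⟨e, he, h, hh, heh⟩ :=
      hH.cover (F.el 1 l : G) (centralizer_le_sideNorm F hk (F.el 1 l).2)
    obtain ⟨u, hu, hue⟩ := (mem_sideGroup F).1 he
    have hmemu : (F.el u⁻¹ l : G) ∈ H := by
      have e1 : F.el u⁻¹ l = (F.φ u)⁻¹ * F.el 1 l := by simp [Frame.el, map_inv]
      rw [e1, Subgroup.coe_mul, Subgroup.coe_inv, hue, heh, inv_mul_cancel_left]
      exact hh
    refine ⟨u⁻¹.c, ?_⟩
    have hperp : ∀ w : Fin 64, side false w = true → form w u⁻¹.v = false := by
      intro w hw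
      have hw' : side false (actV 0 (invL l) w) = true := (side_act _ _ _).trans hw
      have hm : (F.φ (u⁻¹ * act F.k l ⟨actV 0 (invL l) w, false⟩ * u⁻¹⁻¹) : G) ∈ H := by
        rw [← conj_phi]
        exact mul_mem (mul_mem hmemu (hR _ hw')) (inv_mem hmemu)
      have hact : act F.k l ⟨actV 0 (invL l) w, false⟩ = ⟨w, false⟩ := by
        rw [hk]
        refine E7.ext ?_ ?_
        · have := congrArg E7.v (act_mul 0 l (invL l) ⟨w, false⟩)
          rw [(entry_inv l).1, act_one] at this
          exact this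
        · show Bool.xor false (sgnT 0 l _) = false
          rw [(act_zero_model l _).1]
          rfl
      rw [hact, E7.conj_eq] at hm
      have := congrArg E7.c (runiq H hH _ _ hm (hR w hw) (by
        show side true (vadd w w) = true
        rw [vadd_self]
        decide +kernel))
      simpa using this
    have hv0 : u⁻¹.v = 0 := by
      have key : ∀ v : Fin 64, side true v = true →
          (∀ w : Fin 64, side false w = true → form w v = false) → v = 0 := by decide +kernel
      exact key _ hu hperp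
    rwa [show (⟨0, u⁻¹.c⟩ : E7) = u⁻¹ from E7.ext hv0.symm rfl]
  choose ψ hψ using hfix
  have hψs : IsSection F ψ := by
    intro a b
    have hm : ((F.el ⟨0, ψ a⟩ a * F.el ⟨0, ψ b⟩ b : centralizer ({z} : Set G)) : G) ∈ H := by
      rw [Subgroup.coe_mul]
      exact mul_mem (hψ a) (hψ b)
    have hab := hψ (mulL a b)
    rw [F.el_mul] at hm ⊢
    set x := (⟨0, ψ a⟩ : E7) * act F.k a ⟨0, ψ b⟩ * ⟨0, F.sgn a b⟩ with hx
    have hxv : x.v = 0 := by
      rw [hx, hk]
      have : ∀ (c : Bool) (l : Fin 168), actV 0 l 0 = 0 := by decide +kernel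
      simp [E7.mul_def, act, this (ψ b) a, vadd_zero]
    have hq : (F.φ (x * (⟨0, ψ (mulL a b)⟩ : E7)⁻¹) : G) ∈ H := by
      have e : F.φ (x * (⟨0, ψ (mulL a b)⟩ : E7)⁻¹) =
          F.el x (mulL a b) * (F.el ⟨0, ψ (mulL a b)⟩ (mulL a b))⁻¹ := by
        unfold Frame.el
        rw [map_mul, map_inv]
        group
      rw [e, Subgroup.coe_mul, Subgroup.coe_inv]
      exact mul_mem hm (inv_mem hab)
    have h1 := runiq H hH _ 1 hq (by rw [map_one]; exact one_mem _) (by
      show side true (vadd (vadd x.v 0) 0) = true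
      rw [hxv]
      decide +kernel)
    rw [mul_inv_eq_one.1 h1]
  intro w l hw
  show ((F.φ ⟨w, false⟩ * F.el ⟨0, χ l⟩ l : centralizer ({z} : Set G)) : G) ∈ H
  rw [section_unique hχ hψs, Subgroup.coe_mul]
  exact mul_mem (hR w hw) (hψ l)

end CfsgLib.HeldCentre
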