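import Cfsg.Agent.HeldCentre.Code
import Cfsg.Agent.ExtraspecialIso.TwoRank

/-!
An extraspecial group of order `2⁷` with an elementary abelian subgroup of order 16 has the codes
as coordinates.
-/

set_option autoImplicit false

namespace CfsgLib.HeldCentre

open Subgroup CfsgLib.ExtraspecialIso CfsgLib.ExtraspecialBasic

variable {P : Type*} [Group P]

/-- A power with exponent zero or one. -/
def bp (g : P) (e : Bool) : P := if e then g else 1

theorem bp_mem {g : P} {K : Subgroup P} (h : g ∈ K) : ∀ e : Bool, bp g e ∈ K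
  | true => h
  | false => one_mem K

theorem bp_mul {g : P} (h : g * g = 1) : ∀ a b : Bool, bp g a * bp g b = bp g (Bool.xor a b)
  | true, true => h
  | true, false => by simp [bp]
  | false, true => by simp [bp]
  | false, false => by simp [bp]

/-- A block of a pair. -/
def block (x y : P) (a b : Bool) : P := bp y b * bp x a

theorem block_mul {x y z : P} (hP : Pair 2 x y z) (hx : x * x = 1) (hy : y * y = 1) :
    ∀ a b a' b' : Bool,
      block x y a b * block x y a' b' =
        block x y (Bool.xor a a') (Bool.xor b b') * bp z (a && b') := by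
  have hzz : z * z = 1 := by rw [← sq, ← hP.order, pow_orderOf_eq_one]
  have hc := hP.comm
  have hxy : x * y = y * x * z := by rw [hc, mul_assoc, hzz, mul_one]
  intro a b a' b'
  cases a <;> cases b' <;> simp only [block, bp, mul_one, one_mul, Bool.false_and, Bool.and_false,
    Bool.and_true, Bool.xor_false, Bool.false_xor, Bool.xor_true, Bool.true_xor, if_true,
    Bool.not_true, Bool.not_false]
  · cases a' <;> cases b <;> simp [mul_assoc]
  · cases a' <;> cases b <;> simp [← mul_assoc, hy]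
  · cases a' <;> cases b <;> simp [mul_assoc, hx]
  · cases a' <;> cases b <;>
      simp only [Bool.false_eq_true, if_false, if_true, mul_one, one_mul, Bool.not_false,
        Bool.not_true]
    · rw [hxy]
    · calc y * x * y = y * (y * x * z) := by rw [mul_assoc, hxy]
        _ = y * y * x * z := by simp only [mul_assoc]
        _ = x * z := by rw [hy, one_mul]
    · calc x * (y * x) = x * y * x := by rw [mul_assoc]
        _ = y * x * z * x := by rw [hxy]
        _ = y * (x * x) * z := by rw [mul_assoc (y * x), ← (hP.commute_z x).eq]; simp only [mul_assoc]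
        _ = y * z := by rw [hx, mul_one]
    · calc y * x * (y * x) = y * (x * y) * x := by simp only [mul_assoc]
        _ = y * (y * x * z) * x := by rw [hxy]
        _ = y * y * (x * (z * x)) := by simp only [mul_assoc]
        _ = z := by rw [hy, one_mul, ← (hP.commute_z x).eq, ← mul_assoc, hx, one_mul]

theorem block_mem {x y : P} {K : Subgroup P} (hx : x ∈ K) (hy : y ∈ K) (a b : Bool) :
    block x y a b ∈ K := mul_mem (bp_mem hy b) (bp_mem hx a)

theorem dot_bits : ∀ v w : Fin 64,
    beta v w = Bool.xor (Bool.xor (v.val.testBit 0 && w.val.testBit 3)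
      (v.val.testBit 1 && w.val.testBit 4)) (v.val.testBit 2 && w.val.testBit 5) := by
  decide +kernel

theorem bit_vadd : ∀ (v w : Fin 64) (i : Fin 6),
    (vadd v w).val.testBit i.val = Bool.xor (v.val.testBit i.val) (w.val.testBit i.val) := by
  intro v w i
  rw [val_vadd, Nat.testBit_xor]

theorem move_centre {p q : P} (hp : ∀ g : P, Commute g p) (hq : ∀ g : P, Commute g q)
    (A B C r s t : P) :
    A * p * (B * q) * (C * r) * s * t = A * B * C * (p * q * r * s * t) := by
  calc A * p * (B * q) * (C * r) * s * t = A * (p * B) * (q * C) * (r * s * t) := by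
        simp only [mul_assoc]
    _ = A * (B * p) * (C * q) * (r * s * t) := by rw [← (hp B).eq, ← (hq C).eq]
    _ = A * B * (p * C) * q * (r * s * t) := by simp only [mul_assoc]
    _ = A * B * (C * p) * q * (r * s * t) := by rw [← (hp C).eq]
    _ = A * B * C * (p * q * r * s * t) := by simp only [mul_assoc]

/-- Coordinates from three pairs. -/
theorem exists_hom {z : P} (x y : Fin 3 → P) (hP : ∀ i, Pair 2 (x i) (y i) z)
    (hx : ∀ i, x i * x i = 1) (hy : ∀ i, y i * y i = 1)
    (hcom : ∀ i j, i < j → ∀ a b a' b' : Bool,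
      Commute (block (x i) (y i) a b) (block (x j) (y j) a' b')) :
    ∃ φ : E7 →* P, φ E7.zc = z ∧ ∀ i : Fin 3, φ ⟨Fin.ofNat 64 (2 ^ i.val), false⟩ = x i ∧
      φ ⟨Fin.ofNat 64 (2 ^ (i.val + 3)), false⟩ = y i := by
  have hz : ∀ (g : P) (e : Bool), Commute g (bp z e) := fun g e => by
    cases e
    · exact Commute.one_right g
    · exact (hP 0).commute_z g
  have hzz : z * z = 1 := by rw [← sq, ← (hP 0).order, pow_orderOf_eq_one]
  let B (i : Fin 3) (v : Fin 64) : P :=
    block (x i) (y i) (v.val.testBit i.val) (v.val.testBit (i.val + 3))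
  let f (u : E7) : P := B 0 u.v * B 1 u.v * B 2 u.v * bp z u.c
  have hB : ∀ (i : Fin 3) (v w : Fin 64), B i v * B i w = B i (vadd v w) *
      bp z (v.val.testBit i.val && w.val.testBit (i.val + 3)) := by
    intro i v w
    simp only [B]
    rw [block_mul (hP i) (hx i) (hy i), bit_vadd v w ⟨i.val, by omega⟩,
      bit_vadd v w ⟨i.val + 3, by omega⟩]
  have hf : ∀ u u' : E7, f (u * u') = f u * f u' := by
    intro u u'
    have c01 : Commute (B 1 u.v) (B 0 u'.v) := (hcom 0 1 (by decide) _ _ _ _).symm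
    have c02 : Commute (B 2 u.v) (B 0 u'.v) := (hcom 0 2 (by decide) _ _ _ _).symm
    have c12 : Commute (B 2 u.v) (B 1 u'.v) := (hcom 1 2 (by decide) _ _ _ _).symm
    have key : B 0 u.v * B 1 u.v * B 2 u.v * (B 0 u'.v * B 1 u'.v * B 2 u'.v) =
        (B 0 u.v * B 0 u'.v) * (B 1 u.v * B 1 u'.v) * (B 2 u.v * B 2 u'.v) := by
      calc B 0 u.v * B 1 u.v * B 2 u.v * (B 0 u'.v * B 1 u'.v * B 2 u'.v)
          = B 0 u.v * B 1 u.v * (B 2 u.v * B 0 u'.v) * (B 1 u'.v * B 2 u'.v) := by
            simp only [mul_assoc]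
        _ = B 0 u.v * (B 1 u.v * B 0 u'.v) * (B 2 u.v * B 1 u'.v) * B 2 u'.v := by
            rw [c02.eq]; simp only [mul_assoc]
        _ = _ := by rw [c01.eq, c12.eq]; simp only [mul_assoc]
    have hbits : Bool.xor (Bool.xor u.c u'.c) (beta u.v u'.v) =
        Bool.xor (Bool.xor (Bool.xor (Bool.xor (u.v.val.testBit 0 && u'.v.val.testBit 3)
          (u.v.val.testBit 1 && u'.v.val.testBit 4))
          (u.v.val.testBit 2 && u'.v.val.testBit 5)) u.c) u'.c := by
      rw [dot_bits, Bool.xor_comm, ← Bool.xor_assoc]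
    symm
    calc f u * f u' = B 0 u.v * B 1 u.v * B 2 u.v * (B 0 u'.v * B 1 u'.v * B 2 u'.v) *
          bp z u.c * bp z u'.c := by
          simp only [f]
          rw [mul_assoc (B 0 u.v * B 1 u.v * B 2 u.v) (bp z u.c), ← mul_assoc (bp z u.c),
            ← (hz _ u.c).eq]
          simp only [mul_assoc]
      _ = (B 0 (vadd u.v u'.v) * bp z (u.v.val.testBit 0 && u'.v.val.testBit 3)) *
          (B 1 (vadd u.v u'.v) * bp z (u.v.val.testBit 1 && u'.v.val.testBit 4)) *
          (B 2 (vadd u.v u'.v) * bp z (u.v.val.testBit 2 && u'.v.val.testBit 5)) *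
          bp z u.c * bp z u'.c := by
          rw [key, hB 0, hB 1, hB 2]
          rfl
      _ = B 0 (vadd u.v u'.v) * B 1 (vadd u.v u'.v) * B 2 (vadd u.v u'.v) *
          (bp z (u.v.val.testBit 0 && u'.v.val.testBit 3) *
            bp z (u.v.val.testBit 1 && u'.v.val.testBit 4) *
            bp z (u.v.val.testBit 2 && u'.v.val.testBit 5) * bp z u.c * bp z u'.c) := by
          exact move_centre (fun g => hz g _) (fun g => hz g _) _ _ _ _ _ _
      _ = f (u * u') := by
          simp only [f, E7.mul_def]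
          rw [bp_mul hzz, bp_mul hzz, bp_mul hzz, bp_mul hzz, hbits]
  refine ⟨⟨⟨f, ?_⟩, hf⟩, ?_, fun i => ⟨?_, ?_⟩⟩
  · simp [f, B, block, bp, E7.one_def]
  · show f E7.zc = z
    simp [f, B, block, bp, E7.zc]
  · show f _ = x i
    fin_cases i <;> simp [f, B, block, bp, Fin.ofNat, Nat.testBit, Nat.shiftRight_eq_div_pow]
  · show f _ = y i
    fin_cases i <;> simp [f, B, block, bp, Fin.ofNat, Nat.testBit, Nat.shiftRight_eq_div_pow]

/-- The coordinates. -/
theorem exists_code (hP : Cfsg.IsExtraspecial 2 P) (hcard : Nat.card P = 2 ^ 7)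
    (hE : ∃ E : Subgroup P, Cfsg.IsElementaryAbelian 2 E ∧ Nat.card E = 2 ^ 4) :
    ∃ φ : E7 →* P, Function.Bijective φ ∧ φ E7.zc ∈ center P := by
  haveI : Fact (Nat.Prime 2) := ⟨Nat.prime_two⟩
  haveI : Finite P := Nat.finite_of_card_ne_zero (by omega)
  obtain ⟨z, hg⟩ := exists_gen hP
  obtain ⟨E, hE1, hE2⟩ := hE
  have h3 : HasElem (⊤ : Subgroup P) (2 + 2) := ⟨E, le_top, hE1.1, hE1.2, by omega⟩
  obtain ⟨x0, y0, K0, p0, a0, b0, n0, c0, m0, -, s0, e0⟩ :=
    hg.exists_plus_split nondeg_top (n := 2) (by rw [card_top]; exact hcard) h3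
  obtain ⟨x1, y1, K1, p1, a1, b1, n1, c1, m1, -, s1, e1⟩ := hg.exists_plus_split n0 (n := 1) c0 e0
  obtain ⟨x2, y2, K2, p2, a2, b2, n2, c2, m2, -, s2, e2⟩ := hg.exists_plus_split n1 (n := 0) c1 e1
  have hK2 : K2 = zpowers z := hg.eq_of_card n2 (by simpa using c2)
  have hK1le : K1 ≤ K0 := s1 ▸ le_sup_right
  have hmem : ∀ (x y : P), x ∈ closure ({x, y, z} : Set P) ∧ y ∈ closure ({x, y, z} : Set P) :=
    fun _ _ => ⟨subset_closure (by simp), subset_closure (by simp)⟩
  have hin1 : x1 ∈ K0 ∧ y1 ∈ K0 :=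
    ⟨s1 ▸ mem_sup_left (hmem _ _).1, s1 ▸ mem_sup_left (hmem _ _).2⟩
  have hin2 : x2 ∈ K1 ∧ y2 ∈ K1 :=
    ⟨s2 ▸ mem_sup_left (hmem _ _).1, s2 ▸ mem_sup_left (hmem _ _).2⟩
  have hsq : ∀ g : P, g ^ 2 = 1 → g * g = 1 := fun g h => by rw [← sq]; exact h
  obtain ⟨φ, hφz, hφ⟩ := exists_hom (z := z) ![x0, x1, x2] ![y0, y1, y2]
    (fun i => by fin_cases i <;> assumption)
    (fun i => by fin_cases i <;> exact hsq _ (by assumption))
    (fun i => by fin_cases i <;> exact hsq _ (by assumption))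
    (fun i j hij a b a' b' => by
      fin_cases i <;> fin_cases j <;> first
        | (exfalso; revert hij; decide)
        | exact m0 _ (block_mem (hmem _ _).1 (hmem _ _).2 a b) _
            (block_mem hin1.1 hin1.2 a' b')
        | exact m0 _ (block_mem (hmem _ _).1 (hmem _ _).2 a b) _
            (block_mem (hK1le hin2.1) (hK1le hin2.2) a' b')
        | exact m1 _ (block_mem (hmem _ _).1 (hmem _ _).2 a b) _
            (block_mem hin2.1 hin2.2 a' b'))
  have hzR : z ∈ φ.range := ⟨_, hφz⟩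
  have hcl : ∀ {x y : P}, x ∈ φ.range → y ∈ φ.range → closure {x, y, z} ≤ φ.range := fun hx hy =>
    (closure_le _).2 fun u hu => by
      rcases hu with rfl | rfl | rfl
      · exact hx
      · exact hy
      · exact hzR
  have hsurj : φ.range = ⊤ := by
    rw [eq_top_iff, ← s0, ← s1, ← s2, hK2]
    exact sup_le (hcl ⟨_, (hφ 0).1⟩ ⟨_, (hφ 0).2⟩) (sup_le (hcl ⟨_, (hφ 1).1⟩ ⟨_, (hφ 1).2⟩)
      (sup_le (hcl ⟨_, (hφ 2).1⟩ ⟨_, (hφ 2).2⟩) (zpowers_le.2 hzR)))
  refine ⟨φ, ?_, hφz ▸ hg.mem⟩
  haveI : Fintype P := Fintype.ofFinite P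
  refine (Fintype.bijective_iff_surjective_and_card _).2
    ⟨MonoidHom.range_eq_top.1 hsurj, ?_⟩
  rw [← Nat.card_eq_fintype_card, ← Nat.card_eq_fintype_card, E7.nat_card, hcard]
  rfl

end CfsgLib.HeldCentre
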