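import Cfsg.Agent.HeldCentre.Basis
import Cfsg.Agent.HeldCentre.Coord

/-!
The three faithful actions of `SL₃(2)` on the orthogonal space of plus type in dimension 6, and
lifts of isometries to the extraspecial group.
-/

set_option autoImplicit false

namespace CfsgLib.HeldCentre

/-- The vector of a code. -/
def vW (x : E7) : W := ⟨x.v⟩

theorem vW_mul (x y : E7) : vW (x * y) = vW x + vW y := rfl

theorem vW_one : vW 1 = 0 := rfl

theorem E7.commute_of_form {x y : E7} (h : bform (vW x) (vW y) = false) : Commute x y := by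
  show x * y = y * x
  have h' : form x.v y.v = false := h
  rw [E7.comm_mul x y, h']
  exact (mul_one _).symm

theorem E7.zc_commute (x : E7) : Commute x E7.zc :=
  E7.commute_of_form (bform_zero_right (vW x))

theorem E7.order_zc : orderOf E7.zc = 2 := by
  rw [orderOf_eq_prime_iff]
  decide +kernel

theorem E7.eq_or_eq_of_v {x y : E7} (h : vW x = vW y) : x = y ∨ x = y * E7.zc := by
  have hv : x.v = y.v := congrArg W.v h
  rw [E7.mul_zc]
  cases hx : x.c <;> cases hy : y.c <;> simp [E7.ext_iff, hv, hx, hy]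

/-- An isometry lifts to an automorphism. -/
theorem exists_lift (T : W →+ W) (hT : Function.Injective T)
    (hq : ∀ a, qform (T a) = qform a) :
    ∃ ψ : E7 →* E7, Function.Injective ψ ∧ ψ E7.zc = E7.zc ∧ ∀ x, vW (ψ x) = T (vW x) := by
  haveI : Fact (Nat.Prime 2) := ⟨Nat.prime_two⟩
  have hB : ∀ a b, bform (T a) (T b) = bform a b := bform_map hq
  let X (i : Fin 3) : E7 := ⟨(T (std ⟨i.val, by omega⟩)).v, false⟩
  let Y (i : Fin 3) : E7 := ⟨(T (std ⟨i.val + 3, by omega⟩)).v, false⟩
  have hXY : ∀ i, ExtraspecialIso.Pair 2 (X i) (Y i) E7.zc := by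
    intro i
    refine ⟨?_, ?_, E7.order_zc⟩
    · have h1 : bform (T (std ⟨i.val, by omega⟩)) (T (std ⟨i.val + 3, by omega⟩)) = true := by
        rw [hB]
        fin_cases i <;> decide +kernel
      rw [E7.comm_mul (X i) (Y i)]
      congr 1
      exact E7.ext rfl h1
    · exact Subgroup.mem_center_iff.2 fun g => E7.zc_commute g
  have hsq : ∀ i : Fin 6, (⟨(T (std i)).v, false⟩ : E7) * ⟨(T (std i)).v, false⟩ = 1 := by
    intro i
    rw [E7.sq_eq]
    have : qform (T (std i)) = false := by
      rw [hq]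
      revert i
      decide +kernel
    exact E7.ext rfl this
  have hblk : ∀ i a b, vW (block (X i) (Y i) a b) =
      T (sel b (std ⟨i.val + 3, by omega⟩) + sel a (std ⟨i.val, by omega⟩)) := by
    intro i a b
    cases a <;> cases b <;>
      simp [block, bp, sel, vW_mul, vW_one] <;> rfl
  obtain ⟨ψ, hz, hψ⟩ := exists_hom X Y hXY (fun i => hsq _) (fun i => hsq _) (by
    intro i j hij a b a' b'
    apply E7.commute_of_form
    rw [hblk, hblk, hB]
    fin_cases i <;> fin_cases j <;> first
      | (exfalso; revert hij; decide)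
      | (cases a <;> cases b <;> cases a' <;> cases b' <;> decide +kernel))
  let g : W →+ W := AddMonoidHom.mk' (fun a => vW (ψ ⟨a.v, false⟩)) (by
    intro a b
    rw [← vW_mul, ← map_mul]
    have hh : vW (⟨a.v, false⟩ * ⟨b.v, false⟩ : E7) = vW ⟨(a + b).v, false⟩ := rfl
    rcases E7.eq_or_eq_of_v hh with h | h <;> rw [h]
    rw [map_mul, hz, vW_mul]
    exact (add_zero _).symm)
  have hg : g = T := by
    apply hom_ext
    intro i
    show vW (ψ ⟨(std i).v, false⟩) = T (std i)
    fin_cases i
    · exact congrArg vW (hψ 0).1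
    · exact congrArg vW (hψ 1).1
    · exact congrArg vW (hψ 2).1
    · exact congrArg vW (hψ 0).2
    · exact congrArg vW (hψ 1).2
    · exact congrArg vW (hψ 2).2
  have hv : ∀ x, vW (ψ x) = T (vW x) := by
    intro x
    rw [← hg]
    show vW (ψ x) = vW (ψ ⟨x.v, false⟩)
    rcases E7.eq_or_eq_of_v (x := x) (y := ⟨x.v, false⟩) rfl with h | h <;> conv_lhs => rw [h]
    rw [map_mul, hz, vW_mul]
    exact add_zero _
  refine ⟨ψ, ?_, hz, hv⟩
  rw [injective_iff_map_eq_one]
  intro x hx
  have h0 : vW x = vW 1 := hT (by rw [← hv, hx, vW_one, map_zero])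
  rcases E7.eq_or_eq_of_v h0 with h | h
  · exact h
  · rw [h, one_mul, hz] at hx
    exact absurd hx (by decide +kernel)

/-- The squared element of order 3 on vectors. -/
def hh (a : W) : W := ⟨actV 0 10 (actV 0 10 a.v)⟩

/-- A candidate for the involution. -/
def cand (a b d g : W) : Fin 6 → W := ![a, b, hh b, d, g, hh g + g]

theorem classify_tab : ∀ a : W, qform a = false → (⟨actV 0 10 a.v⟩ : W) = a →
    ∀ d : W, qform d = false → (⟨actV 0 10 d.v⟩ : W) = d → bform a d = true →
    ∀ b : W, qform b = false → bform a b = false → bform d b = false →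
    ∀ g : W, qform g = false → bform a g = false → bform d g = false → bform b g = true →
    (∀ i, comb (cand a b d g) (comb (cand a b d g) (std i)) = std i) →
    (∀ i, comb (cand a b d g) ⟨actV 0 33 (comb (cand a b d g) ⟨actV 0 33
      (comb (cand a b d g) ⟨actV 0 33 (std i).v⟩).v⟩).v⟩ = std i) →
    ∃ k : Fin 3, ∀ i, cand a b d g i = ⟨actV k 8 (std i).v⟩ := by
  decide +kernel

/-- The classification. -/
theorem exists_model (V : Fin 168 → (W →+ W)) (h1 : ∀ a, V 0 a = a)
    (hm : ∀ l m a, V l (V m a) = V (mulL l m) a) (hq : ∀ l a, qform (V l a) = qform a)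
    (hne : ∃ a, V 33 a ≠ a) :
    ∃ (k : Fin 3) (T : W →+ W), Function.Bijective T ∧ (∀ a, qform (T a) = qform a) ∧
      ∀ l a, V l (T a) = T (stdHom k l a) := by
  have r7 : mulL 33 (mulL 33 (mulL 33 (mulL 33 (mulL 33 (mulL 33 33))))) = 0 := by decide +kernel
  have r3 : mulL 10 (mulL 10 10) = 0 := by decide +kernel
  have rhf : mulL 10 33 = mulL 33 (mulL 33 10) := by decide +kernel
  have r2 : mulL 8 8 = 0 := by decide +kernel
  have rsh : mulL 10 8 = mulL 8 (mulL 10 10) := by decide +kernel
  have rsh2 : mulL 8 10 = mulL (mulL 10 10) 8 := by decide +kernel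
  have rsf : mulL 8 (mulL 33 (mulL 8 (mulL 33 (mulL 8 33)))) = 0 := by decide +kernel
  obtain ⟨T, hT, hTq, hF, hH⟩ := exists_basis (f := V 33) (h := V 10)
    (fun a => by simp only [hm, r7, h1]) (fun a => by simp only [hm, r3, h1])
    (fun a => by simp only [hm, rhf]) (hq 33) (hq 10) 0 hne
  have inj : ∀ {a b}, T a = T b → a = b := fun h => hT.1 h
  let e : W ≃+ W := AddEquiv.ofBijective T hT
  let S : W →+ W := e.symm.toAddMonoidHom.comp ((V 8).comp T)
  have hS : ∀ a, T (S a) = V 8 (T a) := fun a => e.apply_symm_apply _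
  have hSq : ∀ a, qform (S a) = qform a := fun a => by rw [← hTq, hS, hq, hTq]
  have hSB := bform_map hSq
  have hSS : ∀ a, S (S a) = a := fun a => inj (by rw [hS, hS, hm, r2, h1])
  have hSF : ∀ a, S (stdHom 0 33 (S (stdHom 0 33 (S (stdHom 0 33 a))))) = a := fun a => inj (by
    simp only [hS]
    rw [show stdHom 0 33 = stdHom 0 (genL 0) from rfl, ← hF, hS, ← hF, hS, ← hF]
    simp only [show genL 0 = 33 from rfl, hm, rsf, h1])
  have hHS : ∀ a, stdHom 0 10 (S a) = S (stdHom 0 10 (stdHom 0 10 a)) := fun a => inj (by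
    rw [show stdHom 0 10 = stdHom 0 (genL 1) from rfl, ← hH, hS, hS, ← hH, ← hH]
    simp only [show genL 1 = 10 from rfl, hm, rsh])
  have hSH : ∀ a, S (stdHom 0 10 a) = stdHom 0 10 (stdHom 0 10 (S a)) := fun a => inj (by
    rw [show stdHom 0 10 = stdHom 0 (genL 1) from rfl, ← hH, ← hH, hS, hS, ← hH]
    simp only [show genL 1 = 10 from rfl, hm, rsh2, mulL_assoc])
  have hfix : ∀ i, stdHom 0 10 (std i) = std i →
      (⟨actV 0 10 (S (std i)).v⟩ : W) = S (std i) := by
    intro i hi
    rw [← stdHom_apply, hHS, hi, hi]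
  have hu : ∀ i, S (std i) = cand (S (std 0)) (S (std 1)) (S (std 3)) (S (std 4)) i := by
    intro i
    have e2 : S (std 2) = hh (S (std 1)) := by
      rw [show std 2 = stdHom 0 10 (std 1) by decide +kernel, hSH, stdHom_apply, stdHom_apply]
      rfl
    have e5 : S (std 5) = hh (S (std 4)) + S (std 4) := by
      have : std 5 = stdHom 0 10 (std 4) + std 4 := by decide +kernel
      rw [this, map_add, hSH, stdHom_apply, stdHom_apply]
      rfl
    fin_cases i
    · rfl
    · rfl
    · exact e2
    · rfl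
    · rfl
    · exact e5
  have hq0 : ∀ i, qform (S (std i)) = false := by
    intro i
    rw [hSq]
    revert i
    decide +kernel
  have hSc : ∀ a, S a = comb (cand (S (std 0)) (S (std 1)) (S (std 3)) (S (std 4))) a := fun a =>
    DFunLike.congr_fun (hom_ext (f := S) (g := combHom _) fun i => by rw [combHom_std]; exact hu i) a
  obtain ⟨k, hk⟩ := classify_tab _ (hq0 0) (hfix 0 (by decide +kernel)) _ (hq0 3)
    (hfix 3 (by decide +kernel)) (by rw [hSB]; decide +kernel) _ (hq0 1)
    (by rw [hSB]; decide +kernel) (by rw [hSB]; decide +kernel) _ (hq0 4)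
    (by rw [hSB]; decide +kernel) (by rw [hSB]; decide +kernel) (by rw [hSB]; decide +kernel)
    (fun i => by rw [← hSc, ← hSc, hSS])
    (fun i => by simp only [← hSc, ← stdHom_apply, hSF])
  have hgen : ∀ (j : Fin 3) a, V (genL j) (T a) = T (stdHom k (genL j) a) := by
    intro j a
    have hk0 : ∀ (k : Fin 3) (i : Fin 6) (j : Fin 2), actV k (genL j.castSucc) (std i).v =
        actV 0 (genL j.castSucc) (std i).v := by decide +kernel
    have hsame : ∀ j : Fin 2, stdHom k (genL j.castSucc) = stdHom 0 (genL j.castSucc) := fun j =>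
      hom_ext fun i => by rw [stdHom_apply, stdHom_apply, hk0]
    fin_cases j
    · exact (hF a).trans (congrArg T (DFunLike.congr_fun (hsame 0).symm a))
    · exact (hH a).trans (congrArg T (DFunLike.congr_fun (hsame 1).symm a))
    · show V 8 (T a) = T (stdHom k 8 a)
      rw [← hS]
      congr 1
      exact DFunLike.congr_fun (hom_ext fun i => by rw [hu i, hk i, stdHom_apply]) a
  refine ⟨k, T, hT, hTq, fun l a => ?_⟩
  suffices h : ∀ w : List ℕ, ∀ a, V (evalL w) (T a) = T (stdHom k (evalL w) a) by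
    simpa only [evalL_word] using h (wordL l) a
  intro w
  induction w with
  | nil =>
    intro a
    rw [show evalL [] = 0 from rfl, h1, stdHom_apply, (gen_zero k a.v).1]
  | cons i w ih =>
    intro a
    simp only [evalL]
    rw [← hm, ih, hgen, ← stdHom_mul]
    rfl

end CfsgLib.HeldCentre
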