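import Cfsg.Agent.HeldCentre.Fusion
import Cfsg.Agent.HeldCentre.Exclude
import Cfsg.Agent.HeldCentre.Iso
import Cfsg.Agent.Solvable.Gaschutz
import Mathlib.LinearAlgebra.Matrix.ToLin

/-!
A closed fused side: if every element moving the involution into an elementary abelian normal
subgroup `E` of order 16 of the centraliser normalises `E`, the normaliser of `E` is the split
extension `2⁴ : L₄(2)`, a vector stabiliser in `SL₅(2)`.
-/

set_option autoImplicit false
set_option maxRecDepth 4000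

namespace CfsgLib.HeldCentre

open Subgroup Matrix

/-- The vectors of a side. -/
abbrev V4 := Fin 4 → ZMod 2

/-- The code of a vector of a side. -/
def enc (b : Bool) (r : V4) : E7 :=
  ⟨Fin.ofNat 64 (((r 0).val + 2 * (r 1).val + 4 * (r 2).val) * (if b then 1 else 8)),
    decide (r 3 = 1)⟩

theorem enc_side : ∀ (b : Bool) (r : V4), side b (enc b r).v = true := by decide +kernel

theorem enc_surj : ∀ (b : Bool) (v : Fin 64) (c : Bool), side b v = true →
    ∃ r, enc b r = ⟨v, c⟩ := by decide +kernel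

theorem enc_inj (b : Bool) : Function.Injective (enc b) := by
  have key : ∀ (b : Bool) (r r' : V4), enc b r = enc b r' → r = r' := by decide +kernel
  exact fun r r' => key b r r'

theorem enc_add : ∀ (b : Bool) (r r' : V4), enc b (r + r') = enc b r * enc b r' := by decide +kernel

theorem enc_zc : ∀ b : Bool, enc b ![0, 0, 0, 1] = E7.zc := by decide +kernel

/-- The side as a group. -/
def encHom (b : Bool) : Multiplicative V4 →* E7 :=
  MonoidHom.mk' (fun r => enc b r.toAdd) fun r r' => enc_add b r.toAdd r'.toAdd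

theorem side_act_faithful : ∀ (b : Bool) (l : Fin 168), l ≠ 0 →
    ∃ v : Fin 64, side b v = true ∧ actV 0 l v ≠ v := by
  decide +kernel

theorem side_perp : ∀ (b : Bool) (u : Fin 64), side b u = false →
    ∃ v : Fin 64, side b v = true ∧ form v u = true := by
  decide +kernel

theorem enc_opp : ∀ (b : Bool) (v w : Fin 64), side b v = true → side b w = true →
    side b (vadd v w) = true ∧ beta v w = false := by
  decide +kernel

variable {G : Type*} [Group G] {z : G} (F : Frame (centralizer ({z} : Set G)))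

/-- A side inside the group. -/
def sideHom (b : Bool) : Multiplicative V4 →* G :=
  ((centralizer ({z} : Set G)).subtype.comp F.φ).comp (encHom b)

/-- The side as a subgroup. -/
def sideGroup (b : Bool) : Subgroup G := (sideHom F b).range

theorem sideHom_injective (b : Bool) : Function.Injective (sideHom F b) := fun r r' h =>
  Multiplicative.toAdd.injective (enc_inj b (F.inj (Subtype.ext h)))

theorem mem_sideGroup {b : Bool} {x : G} :
    x ∈ sideGroup F b ↔ ∃ u : E7, side b u.v = true ∧ (F.φ u : G) = x := by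
  constructor
  · rintro ⟨r, rfl⟩
    exact ⟨enc b r.toAdd, enc_side b _, rfl⟩
  · rintro ⟨⟨v, c⟩, hu, rfl⟩
    obtain ⟨r, hr⟩ := enc_surj b v c hu
    exact ⟨Multiplicative.ofAdd r, congrArg (fun u => (F.φ u : G)) hr⟩

theorem card_sideGroup (b : Bool) : Nat.card (sideGroup F b) = 16 := by
  rw [sideGroup, Nat.card_congr (MonoidHom.ofInjective (sideHom_injective F b)).toEquiv.symm,
    Nat.card_congr Multiplicative.toAdd, Nat.card_eq_fintype_card]
  rfl

variable (hk : F.k = 0) (htw : F.tw = false) (hz : (F.φ E7.zc : G) = z)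

include hz in
theorem z_mem_sideGroup (b : Bool) : z ∈ sideGroup F b :=
  ⟨Multiplicative.ofAdd ![0, 0, 0, 1], by
    show (F.φ (enc b ![0, 0, 0, 1]) : G) = z
    rw [enc_zc, hz]⟩

include hk in
theorem conj_mem_sideGroup (b : Bool) (c : centralizer ({z} : Set G)) {x : G}
    (hx : x ∈ sideGroup F b) : (c : G) * x * (c : G)⁻¹ ∈ sideGroup F b := by
  obtain ⟨u, hu, rfl⟩ := (mem_sideGroup F).1 hx
  obtain ⟨r, l, rfl⟩ := F.el_surj c
  rw [conj_phi]
  refine (mem_sideGroup F).2 ⟨_, ?_, rfl⟩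
  rw [E7.conj_eq, hk]
  exact (side_act b l u.v).trans hu

/-- Every element moving the involution into the side normalises it. -/
def ClosedSide (b : Bool) : Prop :=
  ∀ g : G, g * z * g⁻¹ ∈ sideGroup F b → ∀ x ∈ sideGroup F b, g * x * g⁻¹ ∈ sideGroup F b

/-- Some conjugate other than the involution itself lies on the side. -/
def FusedSide (b : Bool) : Prop :=
  ∃ g : G, g * z * g⁻¹ ∈ sideGroup F b ∧ g * z * g⁻¹ ≠ z

/-- The normaliser of the side. -/
abbrev sideNorm (b : Bool) : Subgroup G := normalizer (sideGroup F b : Set G)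

variable {b : Bool}

include hz hk in
/-- All involutions of a fused side are conjugate. -/
theorem sideGroup_transitive (hz1 : z ≠ 1) (hf : FusedSide F b) {x : G} (hx : x ∈ sideGroup F b)
    (hx1 : x ≠ 1) : ∃ g : G, g * z * g⁻¹ = x := by
  obtain ⟨g, hg, hgz⟩ := hf
  obtain ⟨u, hub, hu⟩ := (mem_sideGroup F).1 hg
  obtain ⟨w, hwb, rfl⟩ := (mem_sideGroup F).1 hx
  by_cases hwz : (F.φ w : G) = z
  · exact ⟨1, by simp [hwz]⟩
  have hne : g * z * g⁻¹ ≠ 1 := fun e => hz1 (by
    have := congrArg (fun t => g⁻¹ * t * g) e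
    simpa [mul_assoc] using this)
  have hu0 := v_ne_zero F hz (by rw [hu]; exact hne) (by rw [hu]; exact hgz)
  obtain ⟨c, hc⟩ := side_all F hk hu hu0 hub (v_ne_zero F hz hx1 hwz) hwb
  exact ⟨(c : G) * g, hc⟩

variable [Finite G]

theorem mem_sideNorm {g : G} (h : ∀ x ∈ sideGroup F b, g * x * g⁻¹ ∈ sideGroup F b) :
    g ∈ sideNorm F b := by
  refine mem_set_normalizer_iff.2 fun x => ⟨h x, fun hx => ?_⟩
  have hsurj := ((Set.toFinite (sideGroup F b : Set G)).injOn_iff_bijOn_of_mapsTo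
    (f := fun x => g * x * g⁻¹) h).1
    (fun a _ c _ e => mul_left_cancel (mul_right_cancel e)) |>.surjOn
  obtain ⟨y, hy, hyx⟩ := hsurj hx
  rwa [← mul_left_cancel (mul_right_cancel hyx)]

include hk in
theorem centralizer_le_sideNorm : centralizer ({z} : Set G) ≤ sideNorm F b := fun c hc =>
  mem_sideNorm F fun _ hx => conj_mem_sideGroup F hk b ⟨c, hc⟩ hx

include hz hk in
/-- The order of the normaliser of a closed fused side. -/
theorem card_sideNorm (hz1 : z ≠ 1) (hf : FusedSide F b) (hc : ClosedSide F b) :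
    Nat.card (sideNorm F b) = 15 * 21504 := by
  classical
  let S := {x : sideGroup F b // x ≠ 1}
  have hS : ∀ x : S, ∃ g : G, g * z * g⁻¹ = ((x.1 : G)) := fun x =>
    sideGroup_transitive F hk hz hz1 hf x.1.2 fun e => x.2 (Subtype.ext e)
  choose n hn using hS
  have hnN : ∀ x : S, n x ∈ sideNorm F b := fun x =>
    mem_sideNorm F (hc _ (by rw [hn]; exact x.1.2))
  have hcz : ∀ c : centralizer ({z} : Set G), (c : G) * z * (c : G)⁻¹ = z := fun c =>
    mul_inv_eq_iff_eq_mul.2 (z_commute c)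
  let f : S × centralizer ({z} : Set G) → sideNorm F b := fun p =>
    ⟨n p.1 * p.2, mul_mem (hnN p.1) (centralizer_le_sideNorm F hk p.2.2)⟩
  have hf' : Function.Bijective f := by
    constructor
    · rintro ⟨x, c⟩ ⟨y, d⟩ e
      have e' : n x * (c : G) = n y * (d : G) := congrArg Subtype.val e
      have key : ∀ (x : S) (c : centralizer ({z} : Set G)),
          n x * (c : G) * z * (n x * (c : G))⁻¹ = (x.1 : G) := fun x c => by
        calc n x * (c : G) * z * (n x * (c : G))⁻¹
            = n x * ((c : G) * z * (c : G)⁻¹) * (n x)⁻¹ := by group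
          _ = _ := by rw [hcz, hn]
      have hxy : x = y := Subtype.ext (Subtype.ext (by rw [← key x c, e', key y d]))
      subst hxy
      exact Prod.ext rfl (Subtype.ext (mul_left_cancel e'))
    · rintro ⟨g, hg⟩
      have hmem : g * z * g⁻¹ ∈ sideGroup F b :=
        (mem_set_normalizer_iff.1 hg z).1 (z_mem_sideGroup F hz b)
      have hne : g * z * g⁻¹ ≠ 1 := fun e => hz1 (by
        have := congrArg (fun t => g⁻¹ * t * g) e
        simpa [mul_assoc] using this)
      let x : S := ⟨⟨_, hmem⟩, fun e => hne (congrArg Subtype.val e)⟩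
      have hd : (n x)⁻¹ * g ∈ centralizer ({z} : Set G) := by
        rw [mem_centralizer_singleton_iff]
        calc (n x)⁻¹ * g * z = (n x)⁻¹ * (g * z * g⁻¹) * g := by group
          _ = (n x)⁻¹ * (n x * z * (n x)⁻¹) * g := by rw [hn x]
          _ = z * ((n x)⁻¹ * g) := by group
      exact ⟨(x, ⟨_, hd⟩), Subtype.ext (mul_inv_cancel_left _ _)⟩
  rw [← Nat.card_congr (Equiv.ofBijective f hf'), Nat.card_prod, card_centralizer F hz]
  congr 1
  haveI : Fintype (sideGroup F b) := Fintype.ofFinite _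
  show Nat.card {x : sideGroup F b // x ≠ 1} = 15
  rw [Nat.card_eq_fintype_card, Fintype.card_subtype_compl, Fintype.card_subtype_eq,
    ← Nat.card_eq_fintype_card, card_sideGroup]

include hk htw in
/-- The side has a complement in the centraliser. -/
theorem exists_centralizer_complement (b : Bool) : ∃ A : Subgroup G,
    A ≤ centralizer ({z} : Set G) ∧ (∀ x ∈ A, x ∈ sideGroup F b → x = 1) ∧
      ∀ c ∈ centralizer ({z} : Set G), ∃ e ∈ sideGroup F b, ∃ a ∈ A, c = e * a := by
  obtain ⟨χ, hχ⟩ := exists_section F htw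
  let τ (v : Fin 64) (l : Fin 168) : G := (F.φ ⟨v, false⟩ * F.el ⟨0, χ l⟩ l : centralizer ({z} : Set G))
  have hτel : ∀ v l, τ v l = (F.el (⟨v, false⟩ * ⟨0, χ l⟩) l : G) := fun v l => by
    simp [τ, Frame.el, mul_assoc]
  have hmul : ∀ v w l m, side (!b) v = true → side (!b) w = true →
      τ v l * τ w m = τ (vadd v (actV 0 l w)) (mulL l m) ∧
        side (!b) (vadd v (actV 0 l w)) = true := by
    intro v w l m hv hw
    have hw' : side (!b) (actV 0 l w) = true := (side_act _ l w).trans hw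
    obtain ⟨hs, hβ⟩ := enc_opp _ _ _ hv hw'
    refine ⟨?_, hs⟩
    have hsg : sgnT 0 l w = false := (act_zero_model l w).1
    have hc : F.el ⟨0, χ l⟩ l * F.φ ⟨w, false⟩ =
        F.φ (act 0 l ⟨w, false⟩) * F.el ⟨0, χ l⟩ l := by
      rw [← hk, ← F.conj]
      unfold Frame.el
      calc F.φ ⟨0, χ l⟩ * F.σ l * F.φ ⟨w, false⟩
          = F.φ ⟨0, χ l⟩ * (F.σ l * F.φ ⟨w, false⟩ * (F.σ l)⁻¹) * F.σ l := by group
        _ = _ := by
          rw [← (F.commute_c (F.σ l * F.φ ⟨w, false⟩ * (F.σ l)⁻¹) _).eq]; group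
    have hp : (⟨v, false⟩ : E7) * act 0 l ⟨w, false⟩ = ⟨vadd v (actV 0 l w), false⟩ := by
      simp [E7.mul_def, act, hsg, hβ]
    simp only [τ, ← Subgroup.coe_mul]
    congr 1
    calc F.φ ⟨v, false⟩ * F.el ⟨0, χ l⟩ l * (F.φ ⟨w, false⟩ * F.el ⟨0, χ m⟩ m)
        = F.φ ⟨v, false⟩ * (F.el ⟨0, χ l⟩ l * F.φ ⟨w, false⟩) * F.el ⟨0, χ m⟩ m := by
          simp only [mul_assoc]
      _ = F.φ ⟨v, false⟩ * F.φ (act 0 l ⟨w, false⟩) *
            (F.el ⟨0, χ l⟩ l * F.el ⟨0, χ m⟩ m) := by rw [hc]; simp only [mul_assoc]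
      _ = _ := by rw [← map_mul, hχ, hp]
  have h0 : side (!b) 0 = true := by cases b <;> decide +kernel
  have hone : τ 0 0 = 1 := by
    have h := (hmul 0 0 0 0 h0 h0).1
    rw [show actV 0 0 0 = 0 from (gen_zero 0 0).1, vadd_self,
      show mulL 0 0 = 0 by decide +kernel] at h
    exact mul_eq_left.1 h
  let A : Subgroup G :=
    { carrier := {x | ∃ v l, side (!b) v = true ∧ x = τ v l}
      one_mem' := ⟨0, 0, h0, hone.symm⟩
      mul_mem' := by
        rintro _ _ ⟨v, l, hv, rfl⟩ ⟨w, m, hw, rfl⟩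
        exact ⟨_, _, (hmul v w l m hv hw).2, (hmul v w l m hv hw).1⟩
      inv_mem' := by
        rintro _ ⟨v, l, hv, rfl⟩
        have hw : side (!b) (actV 0 (invL l) v) = true := (side_act _ _ _).trans hv
        refine ⟨actV 0 (invL l) v, invL l, hw, inv_eq_of_mul_eq_one_right ?_⟩
        rw [(hmul _ _ _ _ hv hw).1, (entry_inv l).1]
        have : actV 0 l (actV 0 (invL l) v) = v := by
          have := congrArg E7.v (act_mul 0 l (invL l) ⟨v, false⟩)
          rw [(entry_inv l).1, act_one] at this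
          exact this
        rw [this, vadd_self, hone] }
  refine ⟨A, ?_, ?_, ?_⟩
  · rintro _ ⟨v, l, -, rfl⟩
    exact Subtype.prop _
  · rintro _ ⟨v, l, hv, rfl⟩ hx
    obtain ⟨u, hu, he⟩ := (mem_sideGroup F).1 hx
    rw [hτel, ← F.el_zero] at he
    obtain ⟨hu', hl⟩ := F.el_inj (Subtype.ext he)
    subst hl
    have hv0 : v = 0 := by
      have : u.v = v := by rw [hu']; exact vadd_zero v
      rw [this] at hu
      cases b
      · exact side_apart v hv hu
      · exact side_apart v hu hv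
    rw [hv0, hone]
  · intro c hc
    obtain ⟨u, l, hcl⟩ := F.el_surj ⟨c, hc⟩
    let pj : Bool → Fin 64 → Fin 64 := fun b v =>
      Fin.ofNat 64 (if b then v.val % 8 else 8 * (v.val / 8))
    have key : ∀ (b : Bool) (v : Fin 64) (c d : Bool), side b (pj b v) = true ∧
        side (!b) (pj (!b) v) = true ∧
          (⟨pj b v, Bool.xor (Bool.xor c d) (beta (pj b v) (pj (!b) v))⟩ : E7) *
            (⟨pj (!b) v, false⟩ * ⟨0, d⟩) = ⟨v, c⟩ := by
      decide +kernel
    have hdec : ∀ (b : Bool) (v : Fin 64) (c d : Bool), ∃ (p : Fin 64) (e : Bool) (q : Fin 64),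
        side b p = true ∧ side (!b) q = true ∧
          (⟨p, e⟩ : E7) * (⟨q, false⟩ * ⟨0, d⟩) = ⟨v, c⟩ := fun b v c d =>
      ⟨_, _, _, (key b v c d).1, (key b v c d).2.1, (key b v c d).2.2⟩
    obtain ⟨p, e, q, hp, hq, hpq⟩ := hdec b u.v u.c (χ l)
    refine ⟨(F.φ ⟨p, e⟩ : G), (mem_sideGroup F).2 ⟨_, hp, rfl⟩, τ q l, ⟨q, l, hq, rfl⟩, ?_⟩
    show ((⟨c, hc⟩ : centralizer ({z} : Set G)) : G) = _
    rw [hτel, ← Subgroup.coe_mul, hcl]
    congr 1
    unfold Frame.el
    rw [← mul_assoc, ← map_mul, hpq]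

include hz hk in
/-- The side is its own centraliser. -/
theorem sideGroup_centralizer {g : G} (hg : ∀ x ∈ sideGroup F b, g * x = x * g) :
    g ∈ sideGroup F b := by
  have hgC : g ∈ centralizer ({z} : Set G) :=
    mem_centralizer_singleton_iff.2 (hg z (z_mem_sideGroup F hz b))
  obtain ⟨u, l, hgl⟩ := F.el_surj ⟨g, hgC⟩
  have hg' : g = (F.el u l : G) := congrArg Subtype.val hgl
  have hcomm : ∀ v : Fin 64, side b v = true →
      u * act 0 l ⟨v, false⟩ * u⁻¹ = ⟨v, false⟩ := by
    intro v hv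
    apply F.inj
    apply Subtype.ext
    have h := hg _ ((mem_sideGroup F).2 ⟨(⟨v, false⟩ : E7), hv, rfl⟩)
    rw [← hk, ← conj_phi, ← hg', h, mul_inv_cancel_right]
  have hl : l = 0 := by
    by_contra hl
    obtain ⟨v, hv, hne⟩ := side_act_faithful b l hl
    have := congrArg E7.v (hcomm v hv)
    rw [E7.conj_eq] at this
    exact hne this
  subst hl
  refine (mem_sideGroup F).2 ⟨u, ?_, by rw [hg', F.el_zero]⟩
  by_contra hu
  obtain ⟨v, hv, hf⟩ := side_perp b u.v (by simpa using hu)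
  have := congrArg E7.c (hcomm v hv)
  rw [act_one, E7.conj_eq, hf] at this
  exact Bool.noConfusion this

/-- The matrix of an element of the vector stabiliser. -/
def blockM (r : V4) (B : Matrix (Fin 4) (Fin 4) (ZMod 2)) : Matrix (Fin 5) (Fin 5) (ZMod 2) :=
  Matrix.reindexAlgEquiv (ZMod 2) (ZMod 2) finSumFinEquiv
    (Matrix.fromBlocks (1 : Matrix (Fin 1) (Fin 1) (ZMod 2)) (Matrix.replicateRow (Fin 1) r) 0 B)

theorem blockM_mul (r r' : V4) (B B' : Matrix (Fin 4) (Fin 4) (ZMod 2)) :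
    blockM r B * blockM r' B' = blockM (r' + r ᵥ* B') (B * B') := by
  unfold blockM
  rw [← map_mul, Matrix.fromBlocks_multiply]
  congr 1
  simp only [Matrix.one_mul, Matrix.mul_zero, Matrix.zero_mul, add_zero, zero_add,
    Matrix.mul_one]
  congr 1

theorem blockM_inj {r r' : V4} {B B' : Matrix (Fin 4) (Fin 4) (ZMod 2)}
    (h : blockM r B = blockM r' B') : r = r' ∧ B = B' := by
  obtain ⟨-, h1, -, h2⟩ := Matrix.fromBlocks_inj.1 ((Matrix.reindexAlgEquiv _ _ _).injective h)
  exact ⟨funext fun j => congrFun (congrFun h1 0) j, h2⟩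

theorem blockM_det (r : V4) (B : Matrix (Fin 4) (Fin 4) (ZMod 2)) :
    (blockM r B).det = B.det := by
  unfold blockM
  rw [Matrix.coe_reindexAlgEquiv, Matrix.det_reindex_self, Matrix.det_fromBlocks_zero₂₁,
    Matrix.det_one, one_mul]

/-- The first vector. -/
def e0 : Fin 5 → ZMod 2 := ![1, 0, 0, 0, 0]

theorem blockM_e0 (r : V4) (B : Matrix (Fin 4) (Fin 4) (ZMod 2)) :
    blockM r B *ᵥ e0 = e0 := by
  ext i
  fin_cases i <;> simp [blockM, e0, Matrix.mulVec, dotProduct, Fin.sum_univ_five,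
    finSumFinEquiv, Fin.addCases, Matrix.one_apply]

theorem exists_blockM {M : Matrix (Fin 5) (Fin 5) (ZMod 2)} (h : M *ᵥ e0 = e0) :
    ∃ r B, blockM r B = M := by
  refine ⟨fun j => M 0 j.succ, fun i j => M i.succ j.succ, ?_⟩
  have hcol : ∀ i, M i 0 = e0 i := fun i => by
    rw [← h]
    simp [e0, Matrix.mulVec, dotProduct, Fin.sum_univ_five]
  ext i j
  obtain ⟨i, rfl⟩ := (finSumFinEquiv (m := 1) (n := 4)).surjective i
  obtain ⟨j, rfl⟩ := (finSumFinEquiv (m := 1) (n := 4)).surjective j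
  unfold blockM
  rw [Matrix.coe_reindexAlgEquiv, Matrix.reindex_apply, Matrix.submatrix_apply,
    Equiv.symm_apply_apply, Equiv.symm_apply_apply]
  rcases i with i | i <;> rcases j with j | j
  · fin_cases i; fin_cases j; exact (hcol 0).symm
  · fin_cases i; fin_cases j <;> rfl
  · fin_cases j; fin_cases i <;>
      first
      | exact (hcol 1).symm
      | exact (hcol 2).symm
      | exact (hcol 3).symm
      | exact (hcol 4).symm
  · fin_cases i <;> fin_cases j <;> rfl

include hz hk htw in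
/-- The normaliser of a closed fused side is a vector stabiliser. -/
theorem sideNorm_equiv (hz1 : z ≠ 1) (hf : FusedSide F b) (hc : ClosedSide F b) :
    ∃ v : Fin 5 → ZMod 2, v ≠ 0 ∧ Nonempty (sideNorm F b ≃*
      MulAction.stabilizer (Matrix.SpecialLinearGroup (Fin 5) (ZMod 2)) v) := by
  classical
  haveI : Fact (Nat.Prime 2) := ⟨Nat.prime_two⟩
  set N := sideNorm F b with hN
  have hEN : sideGroup F b ≤ N := le_normalizer
  let EN : Subgroup N := (sideGroup F b).subgroupOf N
  haveI : EN.Normal := Subgroup.normal_subgroupOf_iff hEN |>.2 fun x g hx hg =>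
    (mem_set_normalizer_iff.1 hg x).1 hx
  have hENc : Nat.card EN = 16 := by
    rw [Nat.card_congr (Subgroup.subgroupOfEquivOfLe hEN).toEquiv, card_sideGroup]
  haveI : IsMulCommutative EN := ⟨⟨by
    rintro ⟨x, hx⟩ ⟨y, hy⟩
    obtain ⟨r, hr⟩ := hx
    obtain ⟨s, hs⟩ := hy
    apply Subtype.ext
    apply Subtype.ext
    show (x : G) * y = y * x
    simp only [Subgroup.coe_subtype] at hr hs
    rw [← hr, ← hs, ← map_mul, mul_comm, map_mul]⟩⟩
  have hCN : centralizer ({z} : Set G) ≤ N := centralizer_le_sideNorm F hk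
  let U : Subgroup N := (centralizer ({z} : Set G)).subgroupOf N
  have hUc : Nat.card U = 21504 := by
    rw [Nat.card_congr (Subgroup.subgroupOfEquivOfLe hCN).toEquiv, card_centralizer F hz]
  have hNc := card_sideNorm F hk hz hz1 hf hc
  have hUi : U.index = 15 := by
    have := U.card_mul_index
    rw [hUc, hNc] at this
    omega
  obtain ⟨A, hAC, hAE, hCA⟩ := exists_centralizer_complement F hk htw b
  have hEC : sideGroup F b ≤ centralizer ({z} : Set G) := by
    intro x hx
    obtain ⟨u, -, rfl⟩ := (mem_sideGroup F).1 hx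
    exact (F.φ u).2
  obtain ⟨H, hH⟩ := CfsgLib.Solvable.exists_complement_of_gaschutz (K := EN) (U := U)
    (fun x hx => hEC hx) (by rw [hENc, hUi]; decide) (A := A.subgroupOf N)
    (by
      refine eq_bot_iff.2 fun x hx => ?_
      exact Subtype.ext (hAE _ hx.1 hx.2))
    (by
      refine le_antisymm (sup_le (fun x hx => hEC hx) (fun x hx => hAC hx)) fun x hx => ?_
      obtain ⟨e, he, a, ha, hea⟩ := hCA _ hx
      have hx' : x = (⟨e, hEN he⟩ : N) * ⟨a, hCN (hAC ha)⟩ := Subtype.ext hea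
      rw [hx']
      exact mul_mem (mem_sup_left he) (mem_sup_right ha))
  -- coordinates of the side
  let ε : V4 → N := fun r => ⟨sideHom F b (Multiplicative.ofAdd r), hEN ⟨_, rfl⟩⟩
  have hε : ∀ r s, ε (r + s) = ε r * ε s := fun r s =>
    Subtype.ext (map_mul (sideHom F b) (Multiplicative.ofAdd r) (Multiplicative.ofAdd s))
  have hεi : Function.Injective ε := fun r s e =>
    Multiplicative.ofAdd.injective (sideHom_injective F b (congrArg (fun x : N => (x : G)) e))
  have hεE : ∀ r, ε r ∈ EN := fun r => ⟨_, rfl⟩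
  have hεs : ∀ x ∈ EN, ∃ r, ε r = x := by
    rintro x ⟨r, hr⟩
    exact ⟨r.toAdd, Subtype.ext hr⟩
  have hcj : ∀ (h : N) (r : V4), ∃ s, ε s = h * ε r * h⁻¹ := fun h r =>
    hεs _ (Subgroup.Normal.conj_mem inferInstance _ (hεE r) h)
  choose cj hcj' using hcj
  have cj_add : ∀ h r s, cj h (r + s) = cj h r + cj h s := fun h r s => hεi (by
    rw [hε, hcj', hcj', hcj', hε]; group)
  let L (h : N) : V4 →ₗ[ZMod 2] V4 := (AddMonoidHom.mk' (cj h) (cj_add h)).toZModLinearMap 2
  let M (h : N) : Matrix (Fin 4) (Fin 4) (ZMod 2) := LinearMap.toMatrix' (L h)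
  have hM : ∀ h r, M h *ᵥ r = cj h r := fun h r => by
    rw [LinearMap.toMatrix'_mulVec]
    rfl
  have hMmul : ∀ h k, M (h * k) = M h * M k := fun h k => by
    apply Matrix.ext_of_mulVec_single
    intro i
    rw [← Matrix.mulVec_mulVec, hM, hM, hM]
    apply hεi
    rw [hcj', hcj', hcj']
    group
  have hM1 : M 1 = 1 := by
    apply Matrix.ext_of_mulVec_single
    intro i
    rw [hM, Matrix.one_mulVec]
    apply hεi
    rw [hcj']
    group
  let B (h : N) : Matrix (Fin 4) (Fin 4) (ZMod 2) := (M h⁻¹)ᵀ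
  have hBmul : ∀ h k, B (h * k) = B h * B k := fun h k => by
    show (M (h * k)⁻¹)ᵀ = (M h⁻¹)ᵀ * (M k⁻¹)ᵀ
    rw [_root_.mul_inv_rev, hMmul, Matrix.transpose_mul]
  have hB1 : B 1 = 1 := by
    show (M 1⁻¹)ᵀ = 1
    rw [inv_one, hM1, Matrix.transpose_one]
  have hBker : ∀ h : H, B h = 1 → h = 1 := by
    intro h hh
    have hM' : M (h : N)⁻¹ = 1 := by
      have := congrArg Matrix.transpose hh
      simpa [B] using this
    have hinE : (h : N)⁻¹ ∈ EN := by
      refine sideGroup_centralizer F hk hz (fun x hx => ?_)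
      obtain ⟨r, hr⟩ := hεs ⟨x, hEN hx⟩ hx
      have h2 := hcj' (h : N)⁻¹ r
      rw [← hM, hM', Matrix.one_mulVec] at h2
      have h3 : ε r * (h : N)⁻¹ = (h : N)⁻¹ * ε r := by
        conv_lhs => rw [h2]
        group
      rw [hr] at h3
      exact (congrArg Subtype.val h3).symm
    have := hH.disjoint
    rw [Subgroup.disjoint_def] at this
    exact Subtype.ext (inv_eq_one.1 (this hinE (inv_mem h.2)))
  let Bu : H →* GL (Fin 4) (ZMod 2) :=
    { toFun := fun h => ⟨B h, B (h : N)⁻¹, by rw [← hBmul, mul_inv_cancel, hB1],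
        by rw [← hBmul, inv_mul_cancel, hB1]⟩
      map_one' := Units.ext hB1
      map_mul' := fun h k => Units.ext (hBmul h k) }
  have hHc : Nat.card H = 20160 := by
    have h1 := hH.card_mul_card
    rw [hENc, hNc] at h1
    omega
  have hBu : Function.Bijective Bu := by
    refine (Nat.bijective_iff_injective_and_card Bu).2
      ⟨(injective_iff_map_eq_one Bu).2 fun h hh => hBker h (congrArg Units.val hh), ?_⟩
    rw [hHc, Matrix.card_GL_field, ZMod.card]
    simp [Fin.prod_univ_succ]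
  -- the isomorphism
  let θ : V4 × H → N := fun p => ε p.1 * p.2
  have hθ : Function.Bijective θ := by
    constructor
    · rintro ⟨r, h⟩ ⟨s, k⟩ e
      have := hH.1 (a₁ := (⟨ε r, hεE r⟩, h)) (a₂ := (⟨ε s, hεE s⟩, k)) e
      rw [Prod.mk.injEq, Subtype.mk.injEq] at this
      exact Prod.ext (hεi this.1) this.2
    · intro n
      obtain ⟨⟨⟨x, hx⟩, h⟩, rfl⟩ := hH.2 n
      obtain ⟨r, rfl⟩ := hεs x hx
      exact ⟨(r, h), rfl⟩
  choose q hq using hθ.2
  have hquniq : ∀ (r : V4) (h : H), q (ε r * (h : N)) = (r, h) := fun r h => hθ.1 (hq _)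
  let Φ : N → Matrix (Fin 5) (Fin 5) (ZMod 2) := fun n =>
    blockM ((q n).1 ᵥ* B (q n).2) (B (q n).2)
  have hΦmul : ∀ m n, Φ (m * n) = Φ m * Φ n := by
    intro m n
    conv_lhs => rw [← hq m, ← hq n]
    show Φ (ε (q m).1 * (q m).2 * (ε (q n).1 * (q n).2)) =
      blockM ((q m).1 ᵥ* B (q m).2) (B (q m).2) * blockM ((q n).1 ᵥ* B (q n).2) (B (q n).2)
    have hprod : ε (q m).1 * ((q m).2 : N) * (ε (q n).1 * ((q n).2 : N)) =
        ε ((q m).1 + cj (q m).2 (q n).1) * (((q m).2 * (q n).2 : H) : N) := by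
      rw [hε, hcj', Subgroup.coe_mul]
      group
    rw [hprod]
    show blockM ((q _).1 ᵥ* B (q _).2) (B (q _).2) = _
    rw [hquniq, blockM_mul]
    dsimp only
    rw [Subgroup.coe_mul, hBmul]
    congr 1
    have h1 : cj ((q m).2 : N) (q n).1 ᵥ* B ((q m).2 : N) = (q n).1 := by
      show cj _ _ ᵥ* (M _⁻¹)ᵀ = _
      rw [Matrix.vecMul_transpose, ← hM, Matrix.mulVec_mulVec, ← hMmul, inv_mul_cancel, hM1,
        Matrix.one_mulVec]
    rw [Matrix.add_vecMul, ← Matrix.vecMul_vecMul, ← Matrix.vecMul_vecMul, h1, add_comm]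
  have hΦdet : ∀ n, (Φ n).det = 1 := fun n => by
    rw [blockM_det]
    have hne : (B ((q n).2 : N)).det ≠ 0 := fun h0 => by
      have := congrArg Matrix.det ((hBmul ((q n).2 : N) ((q n).2 : N)⁻¹).symm.trans
        (by rw [mul_inv_cancel, hB1] : _ = (1 : Matrix (Fin 4) (Fin 4) (ZMod 2))))
      rw [Matrix.det_mul, h0, zero_mul, Matrix.det_one] at this
      exact zero_ne_one this
    exact CfsgLib.LargeExtraspecial.Transvection.f2_eq_one _ hne
  let ΦS : N →* MulAction.stabilizer (Matrix.SpecialLinearGroup (Fin 5) (ZMod 2)) e0 :=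
    MonoidHom.mk' (fun n => ⟨⟨Φ n, hΦdet n⟩, blockM_e0 _ _⟩)
      fun m n => Subtype.ext (Subtype.ext (hΦmul m n))
  refine ⟨e0, by decide, ⟨MulEquiv.ofBijective ΦS ⟨fun m n e => ?_, fun g => ?_⟩⟩⟩
  · have e' : Φ m = Φ n := congrArg (fun t => ((t.1 : Matrix.SpecialLinearGroup (Fin 5)
      (ZMod 2)) : Matrix (Fin 5) (Fin 5) (ZMod 2))) e
    obtain ⟨h1, h2⟩ := blockM_inj e'
    have hh : (q m).2 = (q n).2 := hBu.1 (Units.ext h2)
    rw [hh] at h1
    have hr : (q m).1 = (q n).1 := by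
      have := congrArg (fun v => v ᵥ* B ((q n).2 : N)⁻¹) h1
      simpa only [Matrix.vecMul_vecMul, ← hBmul, mul_inv_cancel, hB1, Matrix.vecMul_one] using this
    rw [← hq m, ← hq n, Prod.ext hr hh]
  · obtain ⟨r, B', hrB⟩ := exists_blockM (M := (g.1 : Matrix (Fin 5) (Fin 5) (ZMod 2))) g.2
    have hdet : B'.det ≠ 0 := by
      rw [← blockM_det r B', hrB, g.1.2]
      exact one_ne_zero
    obtain ⟨h, hh⟩ := hBu.2 (Matrix.GeneralLinearGroup.mkOfDetNeZero B' hdet)
    have hh' : B (h : N) = B' := congrArg Units.val hh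
    refine ⟨ε (r ᵥ* B (h : N)⁻¹) * h, Subtype.ext (Subtype.ext ?_)⟩
    show blockM ((q _).1 ᵥ* B (q _).2) (B (q _).2) = _
    rw [hquniq]
    dsimp only
    rw [Matrix.vecMul_vecMul, ← hBmul, inv_mul_cancel, hB1, Matrix.vecMul_one, hh', hrB]

end CfsgLib.HeldCentre
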