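import Cfsg.Agent.HeldCentre.Data

/-!
The extraspecial group `2^{1+6}` of plus type on codes `(v, c)`, `v < 64`, and the tables of the
three actions of `SL₃(2)` on it.
-/

set_option autoImplicit false

namespace CfsgLib.HeldCentre

/-! ### Codes -/

/-- Addition of vectors. -/
def vadd (v w : Fin 64) : Fin 64 := v ^^^ w

/-- The parity of a number below eight. -/
def par (n : ℕ) : Bool := (n ^^^ n >>> 1 ^^^ n >>> 2) % 2 == 1

/-- The cocycle: the dot product of the low half of `v` and the high half of `w`. -/
def beta (v w : Fin 64) : Bool := par ((v.val % 8) &&& (w.val / 8))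

theorem vadd_comm : ∀ v w : Fin 64, vadd v w = vadd w v := by decide +kernel

theorem vadd_self : ∀ v : Fin 64, vadd v v = 0 := by decide +kernel

theorem vadd_zero : ∀ v : Fin 64, vadd v 0 = v := by decide +kernel

theorem zero_vadd (v : Fin 64) : vadd 0 v = v := by rw [vadd_comm, vadd_zero]

theorem val_vadd : ∀ v w : Fin 64, (vadd v w).val = v.val ^^^ w.val := by decide +kernel

theorem vadd_assoc (u v w : Fin 64) : vadd (vadd u v) w = vadd u (vadd v w) := by
  apply Fin.ext
  rw [val_vadd, val_vadd, val_vadd, val_vadd, Nat.xor_assoc]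

theorem vadd_cancel (u v : Fin 64) : vadd (vadd u v) v = u := by
  rw [vadd_assoc, vadd_self, vadd_zero]

theorem vadd_mod : ∀ v w : Fin 64, (vadd v w).val % 8 = (v.val % 8) ^^^ (w.val % 8) ∧
    (vadd v w).val / 8 = (v.val / 8) ^^^ (w.val / 8) := by decide +kernel

theorem par_xor_left : ∀ a b c : Fin 8,
    par ((a.val ^^^ b.val) &&& c.val) = Bool.xor (par (a.val &&& c.val)) (par (b.val &&& c.val)) := by
  decide +kernel

theorem beta_left (u v w : Fin 64) : beta (vadd u v) w = Bool.xor (beta u w) (beta v w) := by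
  unfold beta
  rw [(vadd_mod u v).1]
  exact par_xor_left ⟨_, Nat.mod_lt _ (by omega)⟩ ⟨_, Nat.mod_lt _ (by omega)⟩
    ⟨w.val / 8, by omega⟩

theorem beta_right (u v w : Fin 64) : beta u (vadd v w) = Bool.xor (beta u v) (beta u w) := by
  unfold beta
  rw [(vadd_mod v w).2, Nat.and_comm]
  rw [Nat.and_comm (u.val % 8), Nat.and_comm (u.val % 8)]
  exact par_xor_left ⟨v.val / 8, by omega⟩ ⟨w.val / 8, by omega⟩
    ⟨_, Nat.mod_lt _ (by omega)⟩

theorem beta_zero_left : ∀ v : Fin 64, beta 0 v = false := by decide +kernel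

theorem beta_zero_right : ∀ v : Fin 64, beta v 0 = false := by decide +kernel

/-- The quadratic form. -/
def quad (v : Fin 64) : Bool := beta v v

/-- The symplectic form. -/
def form (v w : Fin 64) : Bool := Bool.xor (beta v w) (beta w v)

/-! ### The group -/

/-- An element of the extraspecial group. -/
@[ext] structure E7 where
  /-- The vector. -/
  v : Fin 64
  /-- The central part. -/
  c : Bool
  deriving DecidableEq

namespace E7

/-- Codes as pairs. -/
def equivProd : E7 ≃ Fin 64 × Bool where
  toFun x := (x.v, x.c)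
  invFun p := ⟨p.1, p.2⟩
  left_inv _ := rfl
  right_inv _ := rfl

instance : Fintype E7 := Fintype.ofEquiv _ equivProd.symm

theorem nat_card : Nat.card E7 = 128 := by
  rw [Nat.card_congr equivProd, Nat.card_prod, Nat.card_fin, Nat.card_eq_fintype_card,
    Fintype.card_bool]

instance : One E7 := ⟨⟨0, false⟩⟩

instance : Mul E7 :=
  ⟨fun x y => ⟨vadd x.v y.v, Bool.xor (Bool.xor x.c y.c) (beta x.v y.v)⟩⟩

instance : Inv E7 := ⟨fun x => ⟨x.v, Bool.xor x.c (quad x.v)⟩⟩

theorem one_def : (1 : E7) = ⟨0, false⟩ := rfl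

theorem mul_def (x y : E7) :
    x * y = ⟨vadd x.v y.v, Bool.xor (Bool.xor x.c y.c) (beta x.v y.v)⟩ := rfl

theorem inv_def (x : E7) : x⁻¹ = ⟨x.v, Bool.xor x.c (quad x.v)⟩ := rfl

instance : Group E7 where
  mul_assoc x y w := by
    simp only [mul_def, vadd_assoc, beta_left, beta_right]
    congr 1
    cases x.c <;> cases y.c <;> cases w.c <;> cases beta x.v y.v <;> cases beta x.v w.v <;>
      cases beta y.v w.v <;> rfl
  one_mul x := by simp [mul_def, one_def, zero_vadd, beta_zero_left]
  mul_one x := by simp [mul_def, one_def, vadd_zero, beta_zero_right]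
  inv_mul_cancel x := by
    simp only [mul_def, inv_def, one_def, vadd_self, quad]
    congr 1
    cases x.c <;> cases beta x.v x.v <;> rfl

/-- The central involution. -/
def zc : E7 := ⟨0, true⟩

theorem comm_mul (x y : E7) : y * x = x * y * ⟨0, form x.v y.v⟩ := by
  simp only [mul_def, form, vadd_zero, beta_zero_right, vadd_comm y.v x.v]
  congr 1
  cases x.c <;> cases y.c <;> cases beta x.v y.v <;> cases beta y.v x.v <;> rfl

theorem mul_zc (x : E7) : x * zc = ⟨x.v, !x.c⟩ := by
  simp [zc, mul_def, vadd_zero, beta_zero_right]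

theorem sq_eq (x : E7) : x * x = ⟨0, quad x.v⟩ := by
  simp only [mul_def, vadd_self, quad]
  congr 1
  cases x.c <;> cases beta x.v x.v <;> rfl

theorem conj_eq (r x : E7) : r * x * r⁻¹ = ⟨x.v, Bool.xor x.c (form x.v r.v)⟩ := by
  simp only [mul_def, inv_def, beta_left, form, quad, vadd_comm r.v x.v, vadd_cancel]
  congr 1
  cases x.c <;> cases r.c <;> cases beta x.v r.v <;> cases beta r.v x.v <;> cases beta r.v r.v <;>
    rfl

end E7

/-! ### Tables -/

/-- A linear map from the images of the basis, six bits each. -/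
def lin (T : ℕ) (v : Fin 64) : Fin 64 :=
  Fin.ofNat 64
    ((if v.val.testBit 0 then T % 64 else 0) ^^^ (if v.val.testBit 1 then (T >>> 6) % 64 else 0)
      ^^^ (if v.val.testBit 2 then (T >>> 12) % 64 else 0)
      ^^^ (if v.val.testBit 3 then (T >>> 18) % 64 else 0)
      ^^^ (if v.val.testBit 4 then (T >>> 24) % 64 else 0)
      ^^^ (if v.val.testBit 5 then (T >>> 30) % 64 else 0))

/-- The images of the basis under `l` in the action `k`. -/
def vecT (k : Fin 3) (l : Fin 168) : ℕ := (vecP.getD k.val 0 >>> (36 * l.val)) % 68719476736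

/-- The signs of `l` in the action `k`. -/
def sgnT (k : Fin 3) (l : Fin 168) (v : Fin 64) : Bool :=
  (sgnP.getD k.val 0 >>> (64 * l.val + v.val)) % 2 == 1

/-- The action `k` of `l` on vectors. -/
def actV (k : Fin 3) (l : Fin 168) (v : Fin 64) : Fin 64 := lin (vecT k l) v

/-- The action `k` of `l`. -/
def act (k : Fin 3) (l : Fin 168) (x : E7) : E7 :=
  ⟨actV k l x.v, Bool.xor x.c (sgnT k l x.v)⟩

/-- The product in `SL₃(2)`. -/
def mulL (a b : Fin 168) : Fin 168 := Fin.ofNat 168 ((mulP.getD a.val 0 >>> (8 * b.val)) % 256)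

/-- The inverse in `SL₃(2)`. -/
def invL (a : Fin 168) : Fin 168 := Fin.ofNat 168 ((invP >>> (8 * a.val)) % 256)

/-- The generators: an element of order 7, one of order 3 normalising it, an involution. -/
def genL : Fin 3 → Fin 168
  | 0 => 33
  | 1 => 10
  | _ => 8

/-- The word of an element. -/
def wordL (l : Fin 168) : List ℕ := words.getD l.val []

/-- The value of a word. -/
def evalL : List ℕ → Fin 168
  | [] => 0
  | i :: w => mulL (genL (Fin.ofNat 3 i)) (evalL w)

/-- An entry of a matrix. -/
def entry (l : Fin 168) (i j : Fin 3) : ZMod 2 :=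
  if (matP >>> (9 * l.val + 3 * i.val + j.val)) % 2 = 1 then 1 else 0

theorem evalL_word : ∀ l : Fin 168, evalL (wordL l) = l := by decide +kernel

theorem gen_zero : ∀ (k : Fin 3) (v : Fin 64), actV k 0 v = v ∧ sgnT k 0 v = false := by
  decide +kernel

theorem gen_auto : ∀ (k i : Fin 3) (v w : Fin 64),
    actV k (genL i) (vadd v w) = vadd (actV k (genL i) v) (actV k (genL i) w) ∧
      Bool.xor (sgnT k (genL i) (vadd v w)) (beta v w) =
        Bool.xor (Bool.xor (sgnT k (genL i) v) (sgnT k (genL i) w))
          (beta (actV k (genL i) v) (actV k (genL i) w)) := by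
  decide +kernel

theorem gen_comp : ∀ (k i : Fin 3) (l : Fin 168) (v : Fin 64),
    actV k (genL i) (actV k l v) = actV k (mulL (genL i) l) v ∧
      Bool.xor (sgnT k l v) (sgnT k (genL i) (actV k l v)) = sgnT k (mulL (genL i) l) v := by
  decide +kernel

/-- The code of a matrix product. -/
theorem entry_mul : ∀ a b : Fin 168, ∀ i j : Fin 3,
    entry (mulL a b) i j =
      entry a i 0 * entry b 0 j + entry a i 1 * entry b 1 j + entry a i 2 * entry b 2 j := by
  decide +kernel

theorem entry_inv : ∀ a : Fin 168, mulL a (invL a) = 0 ∧ mulL (invL a) a = 0 := by decide +kernel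

theorem entry_one : ∀ i j : Fin 3, entry 0 i j = if i = j then 1 else 0 := by decide +kernel

theorem act_one (k : Fin 3) (x : E7) : act k 0 x = x := by
  simp [act, gen_zero k x.v]

theorem act_gen_mul (k i : Fin 3) (l : Fin 168) (x : E7) :
    act k (genL i) (act k l x) = act k (mulL (genL i) l) x := by
  obtain ⟨h1, h2⟩ := gen_comp k i l x.v
  simp only [act, h1]
  rw [Bool.xor_assoc, h2]

theorem act_gen_hom (k i : Fin 3) (x y : E7) :
    act k (genL i) (x * y) = act k (genL i) x * act k (genL i) y := by
  obtain ⟨h1, h2⟩ := gen_auto k i x.v y.v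
  simp only [act, E7.mul_def, h1]
  congr 1
  revert h2
  generalize sgnT k (genL i) (vadd x.v y.v) = a
  generalize beta x.v y.v = b
  generalize sgnT k (genL i) x.v = p
  generalize sgnT k (genL i) y.v = q
  generalize beta (actV k (genL i) x.v) (actV k (genL i) y.v) = r
  generalize x.c = s
  generalize y.c = t
  revert a b p q r s t
  decide

theorem act_hom (k : Fin 3) (l : Fin 168) (x y : E7) : act k l (x * y) = act k l x * act k l y := by
  suffices h : ∀ w : List ℕ, act k (evalL w) (x * y) = act k (evalL w) x * act k (evalL w) y by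
    simpa only [evalL_word] using h (wordL l)
  intro w
  induction w with
  | nil => simp [evalL, act_one]
  | cons i w ih => simp only [evalL, ← act_gen_mul, ih, act_gen_hom]

theorem mulL_ext {a b : Fin 168} (h : ∀ i j, entry a i j = entry b i j) : a = b := by
  have key : ∀ a b : Fin 168, (matP >>> (9 * a.val)) % 512 = (matP >>> (9 * b.val)) % 512 → a = b := by
    decide +kernel
  have key2 : ∀ a : Fin 168, (matP >>> (9 * a.val)) % 512 =
      ∑ i : Fin 3, ∑ j : Fin 3, (entry a i j).val * 2 ^ (3 * i.val + j.val) := by decide +kernel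
  apply key
  rw [key2, key2]
  simp only [h]

theorem mulL_assoc (a b c : Fin 168) : mulL (mulL a b) c = mulL a (mulL b c) := by
  apply mulL_ext
  intro i j
  simp only [entry_mul]
  ring

theorem mulL_one : ∀ a : Fin 168, mulL a 0 = a ∧ mulL 0 a = a := by decide +kernel

theorem act_mul (k : Fin 3) (a b : Fin 168) (x : E7) : act k a (act k b x) = act k (mulL a b) x := by
  suffices h : ∀ w : List ℕ, act k (evalL w) (act k b x) = act k (mulL (evalL w) b) x by
    simpa only [evalL_word] using h (wordL a)
  intro w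
  induction w with
  | nil => simp [evalL, act_one, mulL_one]
  | cons i w ih => simp only [evalL, ← act_gen_mul, ih, mulL_assoc]

end CfsgLib.HeldCentre
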