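import Cfsg.Agent.HeldCentre.Counts

/-!
Centralisers and commutators in the radical of the involutions over the standard one, in the
split decomposable model.
-/

set_option autoImplicit false
set_option synthInstance.maxSize 2000
set_option maxSynthPendingDepth 4
set_option maxRecDepth 4000

namespace CfsgLib.HeldCentre

/-- The vectors of the centraliser. -/
def cqL : ℕ → List (Fin 64)
  | 0 => [0, 1, 6, 7, 8, 9, 14, 15, 48, 49, 54, 55, 56, 57, 62, 63]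
  | 1 => [0, 1, 6, 7, 48, 49, 54, 55]
  | 6 => [0, 1, 6, 7, 8, 9, 14, 15, 48, 49, 54, 55, 56, 57, 62, 63]
  | 7 => [0, 1, 6, 7, 48, 49, 54, 55]
  | 8 => [0, 6, 8, 14, 48, 54, 56, 62]
  | 14 => [0, 6, 8, 14, 48, 54, 56, 62]
  | 48 => [0, 1, 6, 7, 8, 9, 14, 15, 48, 49, 54, 55, 56, 57, 62, 63]
  | 49 => [0, 1, 6, 7, 48, 49, 54, 55]
  | 54 => [0, 1, 6, 7, 8, 9, 14, 15, 48, 49, 54, 55, 56, 57, 62, 63]
  | 55 => [0, 1, 6, 7, 48, 49, 54, 55]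
  | 56 => [0, 6, 8, 14, 48, 54, 56, 62]
  | 62 => [0, 6, 8, 14, 48, 54, 56, 62]
  | _ => []

/-- The vectors of its centre. -/
def zqL : ℕ → List (Fin 64)
  | 0 => [0, 6, 48, 54]
  | 1 => [0, 1, 6, 7, 48, 49, 54, 55]
  | 6 => [0, 6, 48, 54]
  | 7 => [0, 1, 6, 7, 48, 49, 54, 55]
  | 8 => [0, 6, 8, 14, 48, 54, 56, 62]
  | 14 => [0, 6, 8, 14, 48, 54, 56, 62]
  | 48 => [0, 6, 48, 54]
  | 49 => [0, 1, 6, 7, 48, 49, 54, 55]
  | 54 => [0, 6, 48, 54]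
  | 55 => [0, 1, 6, 7, 48, 49, 54, 55]
  | 56 => [0, 6, 8, 14, 48, 54, 56, 62]
  | 62 => [0, 6, 8, 14, 48, 54, 56, 62]
  | _ => []

/-- The commutators. -/
def cmL : ℕ → List E7
  | 0 => [⟨0, false⟩, ⟨6, false⟩, ⟨48, false⟩, ⟨54, true⟩]
  | 1 => [⟨0, false⟩, ⟨6, false⟩, ⟨48, false⟩, ⟨54, false⟩, ⟨0, true⟩, ⟨6, true⟩, ⟨48, true⟩, ⟨54, true⟩]
  | 6 => [⟨0, false⟩, ⟨6, false⟩, ⟨54, false⟩, ⟨48, true⟩]
  | 7 => [⟨0, false⟩, ⟨6, false⟩, ⟨48, false⟩, ⟨54, false⟩, ⟨0, true⟩, ⟨6, true⟩, ⟨48, true⟩, ⟨54, true⟩]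
  | 8 => [⟨0, false⟩, ⟨6, false⟩, ⟨48, false⟩, ⟨54, false⟩, ⟨0, true⟩, ⟨6, true⟩, ⟨48, true⟩, ⟨54, true⟩]
  | 14 => [⟨0, false⟩, ⟨6, false⟩, ⟨48, false⟩, ⟨54, false⟩, ⟨0, true⟩, ⟨6, true⟩, ⟨48, true⟩, ⟨54, true⟩]
  | 48 => [⟨0, false⟩, ⟨48, false⟩, ⟨54, false⟩, ⟨6, true⟩]
  | 49 => [⟨0, false⟩, ⟨6, false⟩, ⟨48, false⟩, ⟨54, false⟩, ⟨0, true⟩, ⟨6, true⟩, ⟨48, true⟩, ⟨54, true⟩]
  | 54 => [⟨0, false⟩, ⟨6, true⟩, ⟨48, true⟩, ⟨54, true⟩]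
  | 55 => [⟨0, false⟩, ⟨6, false⟩, ⟨48, false⟩, ⟨54, false⟩, ⟨0, true⟩, ⟨6, true⟩, ⟨48, true⟩, ⟨54, true⟩]
  | 56 => [⟨0, false⟩, ⟨6, false⟩, ⟨48, false⟩, ⟨54, false⟩, ⟨0, true⟩, ⟨6, true⟩, ⟨48, true⟩, ⟨54, true⟩]
  | 62 => [⟨0, false⟩, ⟨6, false⟩, ⟨48, false⟩, ⟨54, false⟩, ⟨0, true⟩, ⟨6, true⟩, ⟨48, true⟩, ⟨54, true⟩]
  | _ => []

/-- The centraliser of `(u, 8)` in the radical. -/
def cq (u : E7) : Finset E7 := Finset.univ.filter fun v => v * u = u * act 0 8 v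

/-- The commutator of `v` and `(u, 8)`. -/
def cm (u v : E7) : E7 := v * u * act 0 8 v⁻¹ * u⁻¹

/-- The set of commutators. -/
def cms (u : E7) : Finset E7 := Finset.univ.image (cm u)

/-- The centre of the centraliser. -/
def zcq (u : E7) : Finset E7 := (cq u).filter fun v => ∀ w ∈ cq u, v * w = w * v

theorem cqL_spec : ∀ (u : Fin 64) (c : Bool), (⟨u, c⟩ : E7) * act 0 8 ⟨u, c⟩ = 1 →
    (∀ (v : Fin 64) (d : Bool), ((⟨v, d⟩ : E7) * ⟨u, c⟩ = ⟨u, c⟩ * act 0 8 ⟨v, d⟩) ↔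
      v ∈ cqL u.val) ∧
      (cqL u.val).Nodup := by
  decide +kernel

theorem zqL_spec : ∀ (u : Fin 64) (c : Bool), (⟨u, c⟩ : E7) * act 0 8 ⟨u, c⟩ = 1 →
    (∀ v ∈ cqL u.val, v ∈ zqL u.val ↔ ∀ w ∈ cqL u.val, form v w = false) ∧
      (zqL u.val).Nodup ∧ ∀ v ∈ zqL u.val, v ∈ cqL u.val := by
  decide +kernel

theorem cmL_spec : ∀ (u : Fin 64) (c : Bool), (⟨u, c⟩ : E7) * act 0 8 ⟨u, c⟩ = 1 →
    (∀ (v : Fin 64) (d : Bool), cm ⟨u, c⟩ ⟨v, d⟩ ∈ cmL u.val) ∧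
      (∀ a ∈ cmL u.val, ∃ v : Fin 64, cm ⟨u, c⟩ ⟨v, false⟩ = a) ∧ (cmL u.val).Nodup := by
  decide +kernel

theorem small_lists : ∀ (u : Fin 64) (c : Bool), (⟨u, c⟩ : E7) * act 0 8 ⟨u, c⟩ = 1 →
    countOn invs8 (rootZ 0 false ⟨u, c⟩ 8) = 4 →
    (cqL u.val).length = 8 ∧ (∀ a ∈ cqL u.val, ∀ b ∈ cqL u.val, form a b = false) ∧
      (cmL u.val).length = 8 ∧ (∀ a ∈ cmL u.val, a.v ∈ cqL u.val) ∧
      ∀ a ∈ cmL u.val, ∀ b ∈ cmL u.val, a⁻¹ * b ∈ cmL u.val := by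
  decide +kernel

theorem large_lists : ∀ (u : Fin 64) (c : Bool), (⟨u, c⟩ : E7) * act 0 8 ⟨u, c⟩ = 1 →
    countOn invs8 (rootZ 0 false ⟨u, c⟩ 8) = 8 →
    (cqL u.val).length = 16 ∧ (zqL u.val).length = 4 ∧ (cmL u.val).length = 4 ∧
      (∀ a ∈ cmL u.val, a.v ∈ zqL u.val) ∧ E7.zc ∉ cmL u.val ∧ (0 : Fin 64) ∈ zqL u.val := by
  decide +kernel

/-- The elements over a list of vectors. -/
theorem card_over {S : Finset E7} {L : List (Fin 64)} (hL : L.Nodup)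
    (h : ∀ v, v ∈ S ↔ v.v ∈ L) : S.card = L.length * 2 := by
  have : S = (L.toFinset ×ˢ (Finset.univ : Finset Bool)).map E7.equivProd.symm.toEmbedding := by
    ext v
    simp only [h, Finset.mem_map_equiv, Equiv.symm_symm, Finset.mem_product, List.mem_toFinset,
      Finset.mem_univ, and_true]
    rfl
  rw [this, Finset.card_map, Finset.card_product, List.toFinset_card_of_nodup hL]
  rfl

theorem commute_iff_form (a b : E7) : a * b = b * a ↔ form a.v b.v = false := by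
  constructor
  · intro h
    rw [E7.comm_mul a b] at h
    have h' : (⟨0, form a.v b.v⟩ : E7) = 1 := mul_left_cancel (h.symm.trans (mul_one _).symm)
    exact congrArg E7.c h'
  · intro h
    rw [E7.comm_mul a b, h]
    exact (mul_one _).symm

theorem cq_small (u : E7) (hu : u * act 0 8 u = 1) (h : countOn invs8 (rootZ 0 false u 8) = 4) :
    (cq u).card = 16 ∧ (∀ a ∈ cq u, ∀ b ∈ cq u, a * b = b * a) ∧ (cms u).card = 8 ∧
      (∀ a ∈ cms u, a ∈ cq u) ∧ ∀ a ∈ cms u, ∀ b ∈ cms u, a⁻¹ * b ∈ cms u := by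
  obtain ⟨v, c⟩ := u
  obtain ⟨h1, h2⟩ := cqL_spec v c hu
  obtain ⟨s1, s2, s3⟩ := cmL_spec v c hu
  obtain ⟨l1, l2, l3, l4, l5⟩ := small_lists v c hu h
  have hq' : ∀ w, w ∈ cq ⟨v, c⟩ ↔ w.v ∈ cqL v.val := fun w => by
    simp only [cq, Finset.mem_filter, Finset.mem_univ, true_and]
    exact h1 w.v w.c
  obtain ⟨L, hL⟩ : ∃ L, L = cqL v.val := ⟨_, rfl⟩
  simp only [← hL] at *
  have hq := hq'
  have hs : cms ⟨v, c⟩ = (cmL v.val).toFinset := by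
    ext a
    simp only [cms, Finset.mem_image, Finset.mem_univ, true_and, List.mem_toFinset]
    exact ⟨fun ⟨w, hw⟩ => hw ▸ s1 w.v w.c, fun ha => (s2 a ha).elim fun w hw => ⟨_, hw⟩⟩
  refine ⟨by rw [card_over h2 hq, l1], fun a ha b hb => ?_, ?_, ?_, ?_⟩
  · exact (commute_iff_form a b).2 (l2 _ ((hq a).1 ha) _ ((hq b).1 hb))
  · rw [hs, List.toFinset_card_of_nodup s3, l3]
  · intro a ha
    rw [hs, List.mem_toFinset] at ha
    exact (hq a).2 (l4 a ha)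
  · intro a ha b hb
    rw [hs, List.mem_toFinset] at ha hb ⊢
    exact l5 a ha b hb

theorem cq_large (u : E7) (hu : u * act 0 8 u = 1) (h : countOn invs8 (rootZ 0 false u 8) = 8) :
    (cq u).card = 32 ∧ (zcq u).card = 8 ∧ (cms u).card = 4 ∧ (∀ a ∈ cms u, a ∈ zcq u) ∧
      E7.zc ∉ cms u ∧ E7.zc ∈ zcq u := by
  obtain ⟨v, c⟩ := u
  obtain ⟨h1, h2⟩ := cqL_spec v c hu
  obtain ⟨z1, z2, z3⟩ := zqL_spec v c hu
  obtain ⟨s1, s2, s3⟩ := cmL_spec v c hu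
  obtain ⟨l1, l2, l3, l4, l5, l6⟩ := large_lists v c hu h
  have hq' : ∀ w, w ∈ cq ⟨v, c⟩ ↔ w.v ∈ cqL v.val := fun w => by
    simp only [cq, Finset.mem_filter, Finset.mem_univ, true_and]
    exact h1 w.v w.c
  obtain ⟨L, hL⟩ : ∃ L, L = cqL v.val := ⟨_, rfl⟩
  simp only [← hL] at *
  have hq := hq'
  have hzq : ∀ w, w ∈ zcq ⟨v, c⟩ ↔ w.v ∈ zqL v.val := fun w => by
    simp only [zcq, Finset.mem_filter, hq, commute_iff_form]
    constructor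
    · rintro ⟨hw, hall⟩
      exact (z1 _ hw).2 fun b hb => hall ⟨b, false⟩ hb
    · intro hw
      exact ⟨z3 _ hw, fun b hb => (z1 _ (z3 _ hw)).1 hw _ hb⟩
  have hs : cms ⟨v, c⟩ = (cmL v.val).toFinset := by
    ext a
    simp only [cms, Finset.mem_image, Finset.mem_univ, true_and, List.mem_toFinset]
    exact ⟨fun ⟨w, hw⟩ => hw ▸ s1 w.v w.c, fun ha => (s2 a ha).elim fun w hw => ⟨_, hw⟩⟩
  refine ⟨by rw [card_over h2 hq, l1], by rw [card_over z2 hzq, l2], ?_, ?_, ?_, (hzq _).2 l6⟩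
  · rw [hs, List.toFinset_card_of_nodup s3, l3]
  · intro a ha
    rw [hs, List.mem_toFinset] at ha
    exact (hzq a).2 (l4 a ha)
  · rw [hs, List.mem_toFinset]
    exact l5

theorem mem_cq {u v : E7} : v ∈ cq u ↔ v * u = u * act 0 8 v := by
  simp only [cq, Finset.mem_filter, Finset.mem_univ, true_and]

theorem mem_cms {u a : E7} : a ∈ cms u ↔ ∃ v, cm u v = a := by
  simp only [cms, Finset.mem_image, Finset.mem_univ, true_and]

theorem mem_zcq {u v : E7} : v ∈ zcq u ↔ v ∈ cq u ∧ ∀ w ∈ cq u, v * w = w * v := by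
  simp only [zcq, Finset.mem_filter]

attribute [irreducible] cq cms zcq

/-- The classes commuting with the standard involution. -/
def cent8 : Finset (Fin 168) := {0, 5, 8, 13, 150, 154, 157, 161}

theorem mem_cent8 : ∀ l : Fin 168, mulL l 8 = mulL 8 l → l ∈ cent8 := by decide +kernel

theorem cent8_pow : ∀ l : Fin 168, mulL l 8 = mulL 8 l → mulL (mulL l l) (mulL l l) = 0 := by
  decide +kernel

theorem cent8_card : cent8.card = 8 := by decide +kernel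

/-- Pairwise commuting classes among eight form a set of at most four. -/
theorem cent8_abelian (S : Finset (Fin 168)) (hS : S ⊆ cent8)
    (h : ∀ a ∈ S, ∀ b ∈ S, mulL a b = mulL b a) : S.card ≤ 4 := by
  have key : ∀ a ∈ cent8, (cent8.filter fun b => mulL a b = mulL b a).card ≤ 4 ∨
      mulL a a = 0 ∧ ∀ b ∈ cent8, mulL a b = mulL b a := by
    decide +kernel
  by_cases hex : ∃ a ∈ S, (cent8.filter fun b => mulL a b = mulL b a).card ≤ 4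
  · obtain ⟨a, ha, hc⟩ := hex
    exact (Finset.card_le_card fun b hb => Finset.mem_filter.2 ⟨hS hb, h a ha b hb⟩).trans hc
  · have hsub : S ⊆ cent8.filter fun a =>
        ¬ (cent8.filter fun b => mulL a b = mulL b a).card ≤ 4 := fun a ha =>
      Finset.mem_filter.2 ⟨hS ha, fun hc => hex ⟨a, ha, hc⟩⟩
    refine (Finset.card_le_card hsub).trans ?_
    decide +kernel

end CfsgLib.HeldCentre
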