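import Cfsg.Agent.HeldCentre.Code

/-!
Square roots in the centraliser of an involution of the models, by tables.
-/

set_option autoImplicit false

namespace CfsgLib.HeldCentre

/-- The elements of the quotient of order at most two. -/
def invs : List (Fin 168) :=
  [0, 1, 2, 3, 4, 5, 8, 13, 18, 22, 24, 27, 52, 54, 76, 92, 102, 114, 125, 138, 150, 157]

/-- Those commuting with the standard involution. -/
def invs8 : List (Fin 168) := [0, 5, 8, 13, 150, 157]

theorem mem_invs : ∀ l : Fin 168, mulL l l = 0 ↔ l ∈ invs := by decide +kernel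

theorem mem_invs8 : ∀ l : Fin 168, mulL l l = 0 → mulL l 8 = mulL 8 l → l ∈ invs8 := by
  decide +kernel

theorem roots_eight : ∀ l : Fin 168, mulL l l = 8 ↔ l = 154 ∨ l = 161 := by decide +kernel

/-- The sign of the square of a lift. -/
def tz (tw : Bool) (l : Fin 168) : Bool := tw && decide (l ≠ 0)

/-- The commutator sign of two lifts. -/
def eta (tw : Bool) (l s : Fin 168) : Bool :=
  tw && decide (l ≠ 0) && decide (s ≠ 0) && decide (l ≠ s)

/-- The square of an element. -/
def sqE (k : Fin 3) (l : Fin 168) (v : E7) (e : Bool) : E7 := v * act k l v * ⟨0, e⟩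

/-- A square root of the centre commuting with `(u, s)`. -/
def rootZ (k : Fin 3) (tw : Bool) (u : E7) (s : Fin 168) (p : Fin 168 × Fin 64) : Bool :=
  decide (mulL p.1 p.1 = 0) && decide (mulL p.1 s = mulL s p.1) &&
    decide (sqE k p.1 ⟨p.2, false⟩ (tz tw p.1) = E7.zc) &&
    decide (⟨p.2, false⟩ * act k p.1 u = u * act k s ⟨p.2, false⟩ * ⟨0, eta tw p.1 s⟩)

/-- A square root of `u`. -/
def rootX (k : Fin 3) (tw : Bool) (u : E7) (p : Fin 168 × Fin 64) : Bool :=
  decide (mulL p.1 p.1 = 0) && decide (sqE k p.1 ⟨p.2, false⟩ (tz tw p.1) = u)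

/-- A square root of `(u, 8)` over `l`, whose lift squares to the lift of `8` times `z^e`. -/
def rootS (k : Fin 3) (u : E7) (l : Fin 168) (e : Bool) (v : Fin 64) : Bool :=
  decide (sqE k l ⟨v, false⟩ e = u)

/-- A count over a list of possible classes. -/
def countOn (L : List (Fin 168)) (p : Fin 168 × Fin 64 → Bool) : ℕ :=
  (L ×ˢ List.finRange 64).countP p

theorem countOn_eq (L : List (Fin 168)) (p : Fin 168 × Fin 64 → Bool) (hL : L.Nodup)
    (h : ∀ x, p x = true → x.1 ∈ L) : Nat.card {x // p x = true} = countOn L p := by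
  classical
  rw [countOn, List.countP_eq_length_filter, Nat.card_eq_fintype_card, Fintype.card_subtype,
    ← List.toFinset_card_of_nodup ((hL.product (List.nodup_finRange 64)).filter _)]
  refine congrArg Finset.card (Finset.ext fun x => ?_)
  simp only [Finset.mem_filter, Finset.mem_univ, true_and, List.mem_toFinset, List.mem_filter]
  exact ⟨fun hx => ⟨List.mem_product.2 ⟨h x hx, List.mem_finRange _⟩, hx⟩, fun hx => hx.2⟩

/-- The profile of an element inside. -/
def profQ (k : Fin 3) (tw : Bool) (u : E7) : ℕ × ℕ :=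
  (countOn invs (rootZ k tw u 0), countOn invs (rootX k tw u))

/-- The profile of an element over the standard involution. -/
def profS (k : Fin 3) (tw : Bool) (u : E7) (e e' : Bool) : ℕ × ℕ :=
  (countOn invs8 (rootZ k tw u 8),
    (List.finRange 64).countP (rootS k u 154 e) + (List.finRange 64).countP (rootS k u 161 e'))

/-- The profiles that occur inside. -/
def inList (k : Fin 3) (tw : Bool) : List (ℕ × ℕ) :=
  if tw then (if k = 0 then [(96, 24), (56, 8)] else [(96, 24), (36, 0)])
  else (if k = 0 then [(24, 24), (16, 8)] else [(24, 24), (12, 0)])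

/-- The profiles that occur outside. -/
def outList (k : Fin 3) (tw : Bool) : List (ℕ × ℕ) :=
  if tw then (if k = 0 then [(16, 4)] else [(28, 4)])
  else (if k = 0 then [(8, 0), (8, 4), (8, 8), (4, 4)] else [(8, 4), (4, 0)])

/-- Representatives of the orbits on singular vectors. -/
def singReps (k : Fin 3) : List (Fin 64) := if k = 0 then [1, 8, 10] else [1, 8]

theorem sing_reps : ∀ (k : Fin 3) (v : Fin 64), quad v = false → v ≠ 0 →
    ∃ a, actV k a v ∈ singReps k := by decide +kernel

/-- The distinguished singular subspace for the indecomposable actions. -/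
def inE (k : Fin 3) (v : Fin 64) : Bool := if k = 1 then v.val < 8 else v.val % 8 == 0

theorem inE_act : ∀ (k : Fin 3) (a : Fin 168) (v : Fin 64), k ≠ 0 →
    inE k (actV k a v) = inE k v := by decide +kernel

theorem tab_in : ∀ (k : Fin 3) (tw : Bool), ∀ v ∈ singReps k, ∀ c : Bool,
    profQ k tw ⟨v, c⟩ ∈ inList k tw ∧
      (k ≠ 0 → profQ k tw ⟨v, c⟩ = (24, 24) → inE k v = true) := by
  decide +kernel

theorem tab_out : ∀ (k : Fin 3) (tw : Bool) (v : Fin 64) (c : Bool),
    (⟨v, c⟩ : E7) * act k 8 ⟨v, c⟩ * ⟨0, tw⟩ = 1 → ∀ e e' : Bool,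
    profS k tw ⟨v, c⟩ e e' ∈ outList k tw := by
  decide +kernel

theorem tab_swap : ∀ (k : Fin 3) (tw : Bool), ∀ p ∈ inList k tw ++ outList k tw,
    (p.2, p.1) ∈ inList k tw ++ outList k tw →
    tw = false ∧ p.2 = p.1 ∧ (p.1 = 24 ∨ k = 0 ∧ (p.1 = 8 ∨ p.1 = 4)) := by
  decide +kernel

theorem lists_apart : ∀ (k : Fin 3) (tw : Bool), ∀ p ∈ outList k tw, p.1 ≠ 24 := by decide +kernel

end CfsgLib.HeldCentre
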