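import Cfsg.Agent.HeldCentre.ClosedSide

/-!
The two sides are exchanged by the duality of the model.
-/

set_option autoImplicit false
set_option maxRecDepth 4000

namespace CfsgLib.HeldCentre

open Subgroup

/-- The inverse transpose on the codes. -/
def thetaList : List (Fin 168) :=
  [0, 102, 18, 114, 52, 150, 166, 66, 8, 57, 16, 65, 108, 157, 164, 113, 10, 159, 2, 151, 110, 59, 54, 103, 24, 38, 122, 138, 48, 162, 146, 62, 32, 56, 36, 60, 34, 158, 25, 147, 132, 156, 160, 136, 134, 58, 49, 123, 28, 46, 142, 130, 4, 118, 22, 106, 33, 9, 45, 21, 35, 111, 31, 107, 135, 11, 7, 131, 133, 109, 117, 141, 72, 81, 120, 129, 76, 80, 100, 104, 77, 73, 149, 145, 96, 153, 144, 105, 124, 152, 148, 128, 125, 97, 101, 121, 84, 93, 140, 137, 78, 94, 1, 23, 79, 87, 55, 63, 12, 69, 20, 61, 127, 15, 3, 139, 126, 70, 53, 143, 74, 95, 26, 47, 88, 92, 116, 112, 91, 75, 51, 67, 40, 68, 44, 64, 43, 99, 27, 115, 98, 71, 50, 119, 86, 83, 30, 39, 90, 82, 5, 19, 89, 85, 161, 165, 41, 13, 37, 17, 42, 154, 29, 167, 14, 155,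 6, 163]

/-- The inverse transpose. -/
def theta (l : Fin 168) : Fin 168 := thetaList.getD l.val 0

/-- The exchange of the halves of a vector. -/
def swapV (v : Fin 64) : Fin 64 := Fin.ofNat 64 (v.val % 8 * 8 + v.val / 8)

/-- The duality of the extraspecial group. -/
def dual (x : E7) : E7 := ⟨swapV x.v, Bool.xor x.c (quad x.v)⟩

theorem dual_hom : ∀ (v w : Fin 64) (c d : Bool),
    dual (⟨v, c⟩ * ⟨w, d⟩) = dual ⟨v, c⟩ * dual ⟨w, d⟩ := by
  decide +kernel

/-- The duality as a homomorphism. -/
def dualHom : E7 →* E7 := MonoidHom.mk' dual fun x y => dual_hom x.v y.v x.c y.c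

theorem dual_dual : ∀ (v : Fin 64) (c : Bool), dual (dual ⟨v, c⟩) = ⟨v, c⟩ := by decide +kernel

theorem theta_theta : ∀ l : Fin 168, theta (theta l) = l := by decide +kernel

theorem theta_mul : ∀ a b : Fin 168, mulL (theta a) (theta b) = theta (mulL a b) := by
  decide +kernel

theorem dual_act : ∀ (l : Fin 168) (v : Fin 64) (c : Bool),
    dual (act 0 l ⟨v, c⟩) = act 0 (theta l) (dual ⟨v, c⟩) := by
  decide +kernel

theorem swapV_side : ∀ (b : Bool) (v : Fin 64), side b (swapV v) = side (!b) v := by decide +kernel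

variable {C : Type*} [Group C]

/-- The coordinates with the two sides exchanged. -/
def flip (F : Frame C) (hk : F.k = 0) : Frame C where
  k := 0
  tw := F.tw
  φ := F.φ.comp dualHom
  σ := fun l => F.σ (theta l)
  inj := fun x y e => by
    have h : dual x = dual y := F.inj e
    have := congrArg dual h
    rwa [dual_dual, dual_dual] at this
  central := fun g => by
    show Commute g (F.φ (dual E7.zc))
    rw [show dual E7.zc = E7.zc by decide +kernel]
    exact F.central g
  σ_zero := by
    rw [show theta 0 = 0 by decide +kernel]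
    exact F.σ_zero
  conj := fun l x => by
    show F.σ (theta l) * F.φ (dual x) * (F.σ (theta l))⁻¹ = F.φ (dual (act 0 l x))
    rw [F.conj, hk, dual_act]
  mul := fun a b => by
    obtain ⟨e, he⟩ := F.mul (theta a) (theta b)
    refine ⟨e, ?_⟩
    show F.σ (theta a) * F.σ (theta b) = F.σ (theta (mulL a b)) * F.φ (dual ⟨0, e⟩)
    rw [he, theta_mul, show dual ⟨0, e⟩ = ⟨0, e⟩ by cases e <;> decide +kernel]
  invol := fun l h h0 => by
    show F.σ (theta l) * F.σ (theta l) = F.φ (dual ⟨0, F.tw⟩)
    rw [show dual ⟨0, F.tw⟩ = ⟨0, F.tw⟩ by cases F.tw <;> decide +kernel]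
    refine F.invol _ ?_ fun e => h0 ?_
    · rw [theta_mul, h, show theta 0 = 0 by decide +kernel]
    · rw [← theta_theta l, e, show theta 0 = 0 by decide +kernel]
  cover := fun g => by
    obtain ⟨x, l, rfl⟩ := F.cover g
    refine ⟨dual x, theta l, ?_⟩
    show _ = F.φ (dual (dual x)) * F.σ (theta (theta l))
    rw [dual_dual, theta_theta]
  uniq := fun x l h => by
    rw [← theta_theta l, F.uniq _ _ h, show theta 0 = 0 by decide +kernel]

theorem flip_center {G : Type*} [Group G] {z : G} (F : Frame (centralizer ({z} : Set G)))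
    (hk : F.k = 0) (hz : (F.φ E7.zc : G) = z) : ((flip F hk).φ E7.zc : G) = z := by
  show (F.φ (dual E7.zc) : G) = z
  rw [show dual E7.zc = E7.zc by decide +kernel, hz]

/-- The exchanged sides. -/
theorem sideGroup_flip {G : Type*} [Group G] {z : G} (F : Frame (centralizer ({z} : Set G)))
    (hk : F.k = 0) (b : Bool) : sideGroup (flip F hk) b = sideGroup F (!b) := by
  ext x
  rw [mem_sideGroup, mem_sideGroup]
  constructor
  · rintro ⟨u, hu, rfl⟩
    exact ⟨dual u, (swapV_side (!b) u.v).trans (by rwa [Bool.not_not]), rfl⟩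
  · rintro ⟨u, hu, rfl⟩
    refine ⟨dual u, (swapV_side b u.v).trans hu, ?_⟩
    show (F.φ (dual (dual u)) : G) = _
    rw [dual_dual]

end CfsgLib.HeldCentre
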