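import Cfsg.Agent.HeldCentre.Classify
import Cfsg.Agent.SL3Pres.Concrete

/-!
The structure of a group with an extraspecial subgroup `2^{1+6}` of plus type, containing its
centraliser and with quotient `SL₃(2)`.
-/

set_option autoImplicit false

namespace CfsgLib.HeldCentre

open Subgroup

/-- Coordinates on the group: an action and a twist. -/
structure Frame (C : Type*) [Group C] where
  /-- The action. -/
  k : Fin 3
  /-- Whether involutions of the quotient lift to elements of order 4. -/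
  tw : Bool
  /-- The coordinates of the normal subgroup. -/
  φ : E7 →* C
  /-- The lifts. -/
  σ : Fin 168 → C
  inj : Function.Injective φ
  central : ∀ g : C, Commute g (φ E7.zc)
  σ_zero : σ 0 = 1
  conj : ∀ l x, σ l * φ x * (σ l)⁻¹ = φ (act k l x)
  mul : ∀ a b, ∃ e, σ a * σ b = σ (mulL a b) * φ ⟨0, e⟩
  invol : ∀ l, mulL l l = 0 → l ≠ 0 → σ l * σ l = φ ⟨0, tw⟩
  cover : ∀ g, ∃ x l, g = φ x * σ l
  uniq : ∀ x l, φ x * σ l = 1 → l = 0

/-! ### The codes of `SL₃(2)` -/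

theorem entry_det : ∀ l : Fin 168,
    entry l 0 0 * entry l 1 1 * entry l 2 2 - entry l 0 0 * entry l 1 2 * entry l 2 1 -
      entry l 0 1 * entry l 1 0 * entry l 2 2 + entry l 0 1 * entry l 1 2 * entry l 2 0 +
      entry l 0 2 * entry l 1 0 * entry l 2 1 - entry l 0 2 * entry l 1 1 * entry l 2 0 = 1 := by
  decide +kernel

/-- The matrix of a code. -/
def slMat (l : Fin 168) : Matrix.SpecialLinearGroup (Fin 3) (ZMod 2) :=
  ⟨Matrix.of (entry l), by rw [Matrix.det_fin_three]; exact entry_det l⟩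

theorem slMat_mul (a b : Fin 168) : slMat a * slMat b = slMat (mulL a b) := by
  apply Subtype.ext
  ext i j
  show (Matrix.of (entry a) * Matrix.of (entry b) : Matrix (Fin 3) (Fin 3) (ZMod 2)) i j =
    entry (mulL a b) i j
  simp [Matrix.mul_apply, Fin.sum_univ_three, entry_mul]

theorem slMat_zero : slMat 0 = 1 := by
  apply Subtype.ext
  ext i j
  simp [slMat, entry_one, Matrix.one_apply]

theorem slMat_bijective : Function.Bijective slMat := by
  haveI : Fact (Nat.Prime 2) := ⟨Nat.prime_two⟩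
  have hinj : Function.Injective slMat := fun a b h => mulL_ext fun i j =>
    congrFun (congrFun (congrArg Subtype.val h) i) j
  haveI : Fintype (Matrix.SpecialLinearGroup (Fin 3) (ZMod 2)) := Fintype.ofFinite _
  refine (Fintype.bijective_iff_injective_and_card _).2 ⟨hinj, ?_⟩
  rw [Fintype.card_fin, ← Nat.card_eq_fintype_card, SL3Pres.card_SL_three, ZMod.card]
  norm_num

/-! ### Automorphisms fixing the centre -/

theorem form_right_add (r : W) (a b : W) :
    bform (a + b) r = Bool.xor (bform a r) (bform b r) := bform_add_left a b r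

theorem qform_of_auto {ψ : E7 →* E7} (hz : ψ E7.zc = E7.zc) (x : E7) :
    qform (vW (ψ x)) = qform (vW x) := by
  have h := congrArg ψ (E7.sq_eq x)
  rw [map_mul, E7.sq_eq] at h
  have h' : ψ ⟨0, quad x.v⟩ = ⟨0, quad x.v⟩ := by
    cases quad x.v
    · exact map_one ψ
    · exact hz
  exact congrArg E7.c (h.trans h')

/-- The map on vectors. -/
def projHom (ψ : E7 →* E7) (hz : ψ E7.zc = E7.zc) : W →+ W :=
  AddMonoidHom.mk' (fun a => vW (ψ ⟨a.v, false⟩)) fun a b => by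
    rw [← vW_mul, ← map_mul]
    have hh : vW (⟨a.v, false⟩ * ⟨b.v, false⟩ : E7) = vW ⟨(a + b).v, false⟩ := rfl
    rcases E7.eq_or_eq_of_v hh with h | h <;> rw [h]
    rw [map_mul, hz, vW_mul]
    exact (add_zero _).symm

theorem vW_proj (ψ : E7 →* E7) (hz : ψ E7.zc = E7.zc) (x : E7) :
    vW (ψ x) = projHom ψ hz (vW x) := by
  show vW (ψ x) = vW (ψ ⟨x.v, false⟩)
  rcases E7.eq_or_eq_of_v (x := x) (y := ⟨x.v, false⟩) rfl with h | h <;> conv_lhs => rw [h]
  rw [map_mul, hz, vW_mul]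
  exact add_zero _

/-- An automorphism trivial on vectors is inner. -/
theorem exists_inner (ψ : E7 →* E7) (hz : ψ E7.zc = E7.zc) (hv : ∀ x, vW (ψ x) = vW x) :
    ∃ r : E7, ∀ x, ψ x = r * x * r⁻¹ := by
  let δ (i : Fin 6) : Bool := (ψ ⟨(std i).v, false⟩).c
  obtain ⟨r, hr⟩ : ∃ r : Fin 64, ∀ i : Fin 6, form (Fin.ofNat 64 (2 ^ i.val)) r = δ i := by
    have hb : ∀ d : Fin 6 → Bool, ∀ i : Fin 6, (bvec d).val.testBit i.val = d i := by decide +kernel
    obtain ⟨r, hr⟩ := exists_form_eq (bvec δ)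
    exact ⟨r, fun i => (hr i).trans (hb δ i)⟩
  refine ⟨⟨r, false⟩, fun x => ?_⟩
  have hzconj : ∀ y : E7, (⟨r, false⟩ : E7) * (y * E7.zc) * ⟨r, false⟩⁻¹ =
      ⟨r, false⟩ * y * ⟨r, false⟩⁻¹ * E7.zc := fun y => by
    rw [← mul_assoc, mul_assoc _ E7.zc, ← (E7.zc_commute (⟨r, false⟩ : E7)⁻¹).eq, ← mul_assoc]
  suffices h : ∀ a : W, ∀ x, vW x = a → ψ x = ⟨r, false⟩ * x * (⟨r, false⟩ : E7)⁻¹ from h _ x rfl
  intro a
  induction a using W.induction_std with
  | h0 =>
    intro y hy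
    rcases E7.eq_or_eq_of_v (y := 1) hy with h | h <;> rw [h]
    · simp
    · rw [map_mul, map_one, hz, hzconj]
      simp
  | hs i =>
    intro y hy
    have key : ψ ⟨(std i).v, false⟩ = ⟨r, false⟩ * ⟨(std i).v, false⟩ * (⟨r, false⟩ : E7)⁻¹ := by
      rw [E7.conj_eq]
      refine E7.ext (congrArg W.v (hv _)) ?_
      show δ i = Bool.xor false (form (std i).v r)
      rw [Bool.false_xor]
      exact (hr i).symm
    rcases E7.eq_or_eq_of_v (y := ⟨(std i).v, false⟩) hy with h | h <;> rw [h]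
    · exact key
    · rw [map_mul, hz, hzconj, key]
  | hadd a b ha hb =>
    intro y hy
    have ha' := ha ⟨a.v, false⟩ rfl
    have hb' := hb ⟨b.v, false⟩ rfl
    rcases E7.eq_or_eq_of_v (y := ⟨a.v, false⟩ * ⟨b.v, false⟩) hy with h | h <;> rw [h]
    · rw [map_mul, ha', hb']
      simp [mul_assoc]
    · rw [map_mul, hz, hzconj, map_mul, ha', hb']
      simp [mul_assoc]

theorem E7.eq_central_of_commute {u : E7} (h : ∀ x, u * x * u⁻¹ = x) : u = ⟨0, u.c⟩ := by
  have h0 : vW u = 0 := bform_nondeg fun b => by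
    have h1 := congrArg E7.c (h ⟨b.v, false⟩)
    rw [E7.conj_eq] at h1
    rw [bform_comm]
    simpa [bform, vW] using h1
  exact E7.ext (congrArg W.v h0) rfl

/-- The coordinate action as a homomorphism. -/
def actHom (k : Fin 3) (l : Fin 168) : E7 →* E7 := MonoidHom.mk' (act k l) (act_hom k l)

theorem act_zc (k : Fin 3) (l : Fin 168) : act k l E7.zc = E7.zc := by
  have key : ∀ (k : Fin 3) (l : Fin 168), act k l E7.zc = E7.zc := by decide +kernel
  exact key k l

theorem involutions_conj : ∀ m : Fin 168, mulL m m = 0 → m ≠ 0 →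
    ∃ a, mulL (mulL a 8) (invL a) = m := by
  decide +kernel

/-- Existence of the coordinates. -/
theorem exists_frame {C : Type*} [Group C] [Finite C] {z : C} (hz : z ∈ center C) (hz2 : orderOf z = 2)
    (P : Subgroup C) [P.Normal] (hP : Cfsg.IsExtraspecial 2 P) (hcard : Nat.card P = 2 ^ 7)
    (hE : ∃ E : Subgroup P, Cfsg.IsElementaryAbelian 2 E ∧ Nat.card E = 2 ^ 4)
    (h2c : centralizer (P : Set C) ≤ P)
    (e : C ⧸ P ≃* Matrix.SpecialLinearGroup (Fin 3) (ZMod 2)) :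
    ∃ F : Frame C, F.φ E7.zc = z ∧ F.φ.range = P := by
  classical
  haveI : Fact (Nat.Prime 2) := ⟨Nat.prime_two⟩
  obtain ⟨φ0, hφ0, hφc⟩ := exists_code hP hcard hE
  let eφ : E7 ≃* P := MulEquiv.ofBijective φ0 hφ0
  let φ1 : E7 →* C := P.subtype.comp φ0
  have hzP : z ∈ P := h2c fun x _ => (mem_center_iff.1 hz x)
  have hφz : φ1 E7.zc = z := by
    have hzc : (⟨z, hzP⟩ : P) ∈ center P :=
      mem_center_iff.2 fun g => Subtype.ext (mem_center_iff.1 hz g)
    have h2 := Nat.card_eq_two_iff' (1 : center P) |>.1 hP.2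
    have n1 : (⟨φ0 E7.zc, hφc⟩ : center P) ≠ 1 := fun h => by
      have h' : φ0 E7.zc = φ0 1 := by rw [map_one]; exact congrArg Subtype.val h
      exact absurd (hφ0.1 h') (by decide +kernel)
    have n2 : (⟨⟨z, hzP⟩, hzc⟩ : center P) ≠ 1 := fun h => by
      have h' : z = 1 := congrArg (fun u : center P => ((u : P) : C)) h
      rw [h', orderOf_one] at hz2
      omega
    obtain ⟨w, -, hw⟩ := h2
    exact congrArg (fun u : center P => ((u : P) : C)) ((hw _ n1).trans (hw _ n2).symm)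
  have hinj1 : Function.Injective φ1 := P.subtype_injective.comp hφ0.1
  have hrange1 : φ1.range = P := by
    ext g
    refine ⟨?_, fun hg => ?_⟩
    · rintro ⟨x, rfl⟩
      exact (φ0 x).2
    · obtain ⟨x, hx⟩ := hφ0.2 ⟨g, hg⟩
      exact ⟨x, congrArg Subtype.val hx⟩
  let π : C →* Matrix.SpecialLinearGroup (Fin 3) (ZMod 2) :=
    e.toMonoidHom.comp (QuotientGroup.mk' P)
  have hπ : ∀ g, π g = 1 ↔ g ∈ P := fun g => by simp [π]
  have hπsurj : Function.Surjective π := e.surjective.comp (QuotientGroup.mk'_surjective P)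
  choose g hg using fun l => hπsurj (slMat l)
  have hgP : ∀ a b, slMat a = slMat b → a = b := fun a b h => slMat_bijective.1 h
  let α (c : C) : E7 →* E7 :=
    (eφ.symm.toMonoidHom.comp (MulAut.conjNormal c : MulAut P).toMonoidHom).comp φ0
  have hα : ∀ c x, φ1 (α c x) = c * φ1 x * c⁻¹ := fun c x => by
    show ((eφ (eφ.symm ((MulAut.conjNormal c : MulAut P) (φ0 x))) : P) : C) = _
    rw [eφ.apply_symm_apply, MulAut.conjNormal_apply]
    rfl
  have hαz : ∀ c, α c E7.zc = E7.zc := fun c => hinj1 (by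
    rw [hα, hφz, mem_center_iff.1 hz c, mul_inv_cancel_right])
  have hαP : ∀ c c', π c = π c' → ∀ x, vW (α c x) = vW (α c' x) := by
    intro c c' h x
    have hm : c'⁻¹ * c ∈ P := (hπ _).1 (by rw [map_mul, map_inv, h, inv_mul_cancel])
    rw [← hrange1] at hm
    obtain ⟨r, hr⟩ := hm
    have hc : c = c' * φ1 r := by rw [hr, mul_inv_cancel_left]
    have : α c x = α c' (r * x * r⁻¹) := hinj1 (by
      rw [hα, hα, map_mul, map_mul, map_inv, hc]
      group)
    rw [this, vW_proj _ (hαz c'), vW_proj _ (hαz c'), E7.conj_eq]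
    rfl
  let V (l : Fin 168) : W →+ W := projHom (α (g l)) (hαz _)
  have hV : ∀ l x, vW (α (g l) x) = V l (vW x) := fun l x => vW_proj _ _ x
  have hV1 : ∀ a, V 0 a = a := fun a => by
    show vW (α (g 0) ⟨a.v, false⟩) = a
    rw [hαP (g 0) 1 (by rw [hg, slMat_zero, map_one])]
    have : α 1 ⟨a.v, false⟩ = (⟨a.v, false⟩ : E7) := hinj1 (by rw [hα]; simp)
    rw [this]
    rfl
  have hVm : ∀ l m a, V l (V m a) = V (mulL l m) a := fun l m a => by
    show V l (vW (α (g m) ⟨a.v, false⟩)) = vW (α (g (mulL l m)) ⟨a.v, false⟩)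
    rw [← hV, hαP (g (mulL l m)) (g l * g m) (by rw [map_mul, hg, hg, hg, slMat_mul])]
    congr 1
    exact hinj1 (by rw [hα, hα, hα]; group)
  have hVq : ∀ l a, qform (V l a) = qform a := fun l a => qform_of_auto (hαz _) ⟨a.v, false⟩
  have hne : ∃ a, V 33 a ≠ a := by
    by_contra hcon
    push Not at hcon
    obtain ⟨r, hr⟩ := exists_inner (α (g 33)) (hαz _) fun x => by rw [hV, hcon]
    have hm : (φ1 r)⁻¹ * g 33 ∈ centralizer (P : Set C) := fun p hp => by
      have hp' : p ∈ φ1.range := by rw [hrange1]; exact hp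
      obtain ⟨x, rfl⟩ := hp'
      have h1 : g 33 * φ1 x = φ1 r * φ1 x * (φ1 r)⁻¹ * g 33 := by
        rw [← map_inv, ← map_mul, ← map_mul, ← hr, hα, inv_mul_cancel_right]
      calc φ1 x * ((φ1 r)⁻¹ * g 33) = (φ1 r)⁻¹ * (φ1 r * φ1 x * (φ1 r)⁻¹ * g 33) := by group
        _ = (φ1 r)⁻¹ * (g 33 * φ1 x) := by rw [h1]
        _ = (φ1 r)⁻¹ * g 33 * φ1 x := by rw [mul_assoc]
    have h33 : g 33 ∈ P := by
      have := mul_mem (show φ1 r ∈ P from (φ0 r).2) (h2c hm)
      rwa [mul_inv_cancel_left] at this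
    have h := (hπ _).2 h33
    rw [hg, ← slMat_zero] at h
    exact absurd (hgP _ _ h) (by decide +kernel)
  obtain ⟨k, T, hT, hTq, hTV⟩ := exists_model V hV1 hVm hVq hne
  obtain ⟨ψ, hψ, hψz, hψv⟩ := exists_lift T hT.1 hTq
  have hψb : Function.Bijective ψ := Finite.injective_iff_bijective.1 hψ
  let eψ : E7 ≃* E7 := MulEquiv.ofBijective ψ hψb
  let φ : E7 →* C := φ1.comp ψ
  let β (l : Fin 168) : E7 →* E7 :=
    (actHom k (invL l)).comp ((eψ.symm.toMonoidHom.comp (α (g l))).comp ψ)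
  have hβz : ∀ l, β l E7.zc = E7.zc := fun l => by
    show act k (invL l) (eψ.symm (α (g l) (ψ E7.zc))) = E7.zc
    rw [hψz, hαz]
    have : eψ.symm E7.zc = E7.zc := by rw [MulEquiv.symm_apply_eq]; exact hψz.symm
    rw [this, act_zc]
  have hβv : ∀ l x, vW (β l x) = vW x := fun l x => by
    show (⟨actV k (invL l) (eψ.symm (α (g l) (ψ x))).v⟩ : W) = vW x
    have h1 : vW (eψ.symm (α (g l) (ψ x))) = stdHom k l (vW x) := hT.1 (by
      rw [← hψv, ← hTV, ← hψv, ← hV]
      exact congrArg vW (eψ.apply_symm_apply _))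
    refine (stdHom_apply k (invL l) (vW (eψ.symm (α (g l) (ψ x))))).symm.trans ?_
    rw [h1, ← AddMonoidHom.comp_apply, stdHom_mul, (entry_inv l).2, stdHom_apply,
      (gen_zero k (vW x).v).1]
  choose r hr using fun l => exists_inner (β l) (hβz l) (hβv l)
  let σ (l : Fin 168) : C := if l = 0 then 1 else g l * φ (r l)⁻¹
  have hσπ : ∀ l, π (σ l) = slMat l := fun l => by
    show π (if l = 0 then 1 else g l * φ (r l)⁻¹) = slMat l
    split
    · next h => rw [h, slMat_zero, map_one]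
    · rw [map_mul, hg, (hπ (φ (r l)⁻¹)).2 (φ0 _).2, mul_one]
  have hconj : ∀ l x, σ l * φ x * (σ l)⁻¹ = φ (act k l x) := by
    intro l x
    show (if l = 0 then 1 else g l * φ (r l)⁻¹) * φ x *
      (if l = 0 then 1 else g l * φ (r l)⁻¹)⁻¹ = φ (act k l x)
    split
    · next h => simp [h, act_one]
    · have h1 : g l * φ (r l)⁻¹ * φ x * (g l * φ (r l)⁻¹)⁻¹ =
          φ1 (α (g l) (ψ ((r l)⁻¹ * x * r l))) := by
        rw [hα]
        simp only [φ, MonoidHom.comp_apply, map_mul, map_inv]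
        group
      rw [h1]
      have h2 : act k (invL l) (eψ.symm (α (g l) (ψ ((r l)⁻¹ * x * r l)))) = x := by
        have := hr l ((r l)⁻¹ * x * r l)
        have e2 : r l * ((r l)⁻¹ * x * r l) * (r l)⁻¹ = x := by group
        rw [e2] at this
        exact this
      show φ1 _ = φ1 (ψ (act k l x))
      congr 1
      conv_rhs => rw [← h2, act_mul, (entry_inv l).1, act_one]
      exact (eψ.apply_symm_apply _).symm
  have hrange : φ.range = P := by
    rw [← hrange1]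
    show (φ1.comp ψ).range = φ1.range
    rw [MonoidHom.range_comp, MonoidHom.range_eq_top.2 hψb.2, MonoidHom.range_eq_map]
  have hφzc : φ E7.zc = z := by
    show φ1 (ψ E7.zc) = z
    rw [hψz, hφz]
  have hcen : ∀ (c : C) (b : Bool), Commute c (φ ⟨0, b⟩) := fun c b => by
    cases b
    · show Commute c (φ 1)
      rw [map_one]
      exact Commute.one_right c
    · show Commute c (φ E7.zc)
      rw [hφzc]
      exact mem_center_iff.1 hz c
  have hφinj : Function.Injective φ := hinj1.comp hψ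
  have hmul : ∀ a b, ∃ e, σ a * σ b = σ (mulL a b) * φ ⟨0, e⟩ := by
    intro a b
    have hd : (σ (mulL a b))⁻¹ * (σ a * σ b) ∈ P :=
      (hπ _).1 (by rw [map_mul, map_inv, map_mul, hσπ, hσπ, hσπ, slMat_mul, inv_mul_cancel])
    rw [← hrange] at hd
    obtain ⟨u, hu⟩ := hd
    have hu0 : u = ⟨0, u.c⟩ := E7.eq_central_of_commute fun x => hφinj (by
      have h1 : φ (u * x * u⁻¹) = φ u * φ x * (φ u)⁻¹ := by simp
      rw [h1, hu]
      have h2 : σ a * σ b * φ x * (σ a * σ b)⁻¹ = σ (mulL a b) * φ x * (σ (mulL a b))⁻¹ := by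
        calc σ a * σ b * φ x * (σ a * σ b)⁻¹ = σ a * (σ b * φ x * (σ b)⁻¹) * (σ a)⁻¹ := by group
          _ = σ (mulL a b) * φ x * (σ (mulL a b))⁻¹ := by rw [hconj, hconj, hconj, act_mul]
      calc (σ (mulL a b))⁻¹ * (σ a * σ b) * φ x * ((σ (mulL a b))⁻¹ * (σ a * σ b))⁻¹
          = (σ (mulL a b))⁻¹ * (σ a * σ b * φ x * (σ a * σ b)⁻¹) * σ (mulL a b) := by group
        _ = φ x := by rw [h2]; group)
    exact ⟨u.c, by rw [← hu0, hu, mul_inv_cancel_left]⟩
  have hσ0 : σ 0 = 1 := if_pos rfl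
  obtain ⟨tw, htw⟩ := hmul 8 8
  rw [show mulL 8 8 = 0 by decide +kernel, hσ0, one_mul] at htw
  refine ⟨⟨k, tw, φ, σ, hφinj, fun c => hcen c true, hσ0, hconj, hmul, ?_, ?_, ?_⟩, hφzc, hrange⟩
  · intro m hm hm0
    obtain ⟨a, ha⟩ := involutions_conj m hm hm0
    obtain ⟨e1, h1⟩ := hmul a 8
    obtain ⟨e2, h2⟩ := hmul (mulL a 8) (invL a)
    obtain ⟨e3, h3⟩ := hmul a (invL a)
    rw [(entry_inv a).1, hσ0, one_mul] at h3
    rw [ha] at h2
    have sqc : ∀ b, φ ⟨0, b⟩ * φ ⟨0, b⟩ = 1 := fun b => by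
      rw [← map_mul, ← map_one φ]
      congr 1
      cases b <;> decide +kernel
    have hinvc : ∀ b, (φ ⟨0, b⟩)⁻¹ = φ ⟨0, b⟩ := fun b => inv_eq_of_mul_eq_one_right (sqc b)
    obtain ⟨c, hc, hc2, hmeq⟩ : ∃ c, (∀ y, Commute y c) ∧ c * c = 1 ∧
        σ m = σ a * σ 8 * (σ a)⁻¹ * c := by
      refine ⟨φ ⟨0, e3⟩ * φ ⟨0, e1⟩ * φ ⟨0, e2⟩,
        fun y => ((hcen y e3).mul_right (hcen y e1)).mul_right (hcen y e2), ?_, ?_⟩
      · rw [← map_mul, ← map_mul, ← map_mul, ← map_one φ]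
        congr 1
        cases e1 <;> cases e2 <;> cases e3 <;> decide +kernel
      · have hi : σ (invL a) = (σ a)⁻¹ * φ ⟨0, e3⟩ := by rw [← h3, inv_mul_cancel_left]
        have hab : σ (mulL a 8) = σ a * σ 8 * φ ⟨0, e1⟩ := by
          rw [h1, mul_assoc, sqc, mul_one]
        calc σ m = σ (mulL a 8) * σ (invL a) * φ ⟨0, e2⟩ := by rw [h2, mul_assoc, sqc, mul_one]
          _ = σ a * σ 8 * (φ ⟨0, e1⟩ * (σ a)⁻¹) * φ ⟨0, e3⟩ * φ ⟨0, e2⟩ := by
              rw [hi, hab]; simp only [mul_assoc]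
          _ = σ a * σ 8 * (σ a)⁻¹ * (φ ⟨0, e1⟩ * φ ⟨0, e3⟩) * φ ⟨0, e2⟩ := by
              rw [← (hcen (σ a)⁻¹ e1).eq]; simp only [mul_assoc]
          _ = _ := by rw [(hcen (φ ⟨0, e1⟩) e3).eq]; simp only [mul_assoc]
    calc σ m * σ m = σ a * σ 8 * (σ a)⁻¹ * (σ a * σ 8 * (σ a)⁻¹) * (c * c) := by
          rw [hmeq, mul_assoc _ c (_ * c), ← mul_assoc c, ← (hc (σ a * σ 8 * (σ a)⁻¹)).eq]
          simp only [mul_assoc]
      _ = σ a * (σ 8 * σ 8) * (σ a)⁻¹ := by rw [hc2]; group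
      _ = φ ⟨0, tw⟩ := by rw [htw, (hcen (σ a) tw).eq, mul_inv_cancel_right]
  · intro c
    obtain ⟨l, hl⟩ := slMat_bijective.2 (π c)
    have hd : c * (σ l)⁻¹ ∈ P := (hπ _).1 (by rw [map_mul, map_inv, hσπ, hl, mul_inv_cancel])
    rw [← hrange] at hd
    obtain ⟨x, hx⟩ := hd
    exact ⟨x, l, by rw [hx, inv_mul_cancel_right]⟩
  · intro x l h
    have h' := congrArg π h
    rw [map_mul, hσπ, (hπ (φ x)).2 (φ0 _).2, one_mul, map_one, ← slMat_zero] at h'
    exact hgP _ _ h'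

end CfsgLib.HeldCentre
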