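import Cfsg.Agent.HeldCentre.NwcFinal
import Cfsg.Agent.LargeExtraspecial.Basic

/-!
Fusion of the involution into its radical: the conjugates lie on the two sides (the elementary
abelian normal subgroups of order 16), a side is fused completely or not at all, and the
involution can be swapped with each of them.
-/

set_option autoImplicit false
set_option maxRecDepth 4000

namespace CfsgLib.HeldCentre

open Subgroup

/-- The two coordinate subspaces. -/
def side (b : Bool) (v : Fin 64) : Bool := if b then v.val < 8 else v.val % 8 == 0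

theorem side_act : ∀ (b : Bool) (l : Fin 168) (v : Fin 64), side b (actV 0 l v) = side b v := by
  decide +kernel

theorem side_trans : ∀ (b : Bool) (v w : Fin 64), side b v = true → side b w = true → v ≠ 0 →
    w ≠ 0 → ∃ l, actV 0 l v = w := by
  decide +kernel

theorem side_apart : ∀ v : Fin 64, side true v = true → side false v = true → v = 0 := by
  decide +kernel

theorem side_rep : ∀ v ∈ singReps 0, ∀ c : Bool, profQ 0 false ⟨v, c⟩ = (24, 24) →
    side true v = true ∨ side false v = true := by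
  decide +kernel

theorem form_flip : ∀ v : Fin 64, v ≠ 0 → ∃ r : Fin 64, form v r = true := by decide +kernel

variable {G : Type*} [Group G] {z : G} (F : Frame (centralizer ({z} : Set G)))

/-- Conjugation of the radical in coordinates. -/
theorem conj_phi (r : E7) (l : Fin 168) (w : E7) :
    (F.el r l : G) * (F.φ w : G) * (F.el r l : G)⁻¹ = (F.φ (r * act F.k l w * r⁻¹) : G) := by
  rw [map_mul, map_mul, map_inv, ← F.conj]
  unfold Frame.el
  simp [mul_assoc]

/-- Elements of the radical outside the centre. -/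
theorem v_ne_zero (hz : (F.φ E7.zc : G) = z) {u : E7} (h1 : (F.φ u : G) ≠ 1)
    (hzu : (F.φ u : G) ≠ z) : u.v ≠ 0 := fun h0 => by
  rcases E7.eq_or_eq_of_v (x := u) (y := 1) (congrArg W.mk h0) with h | h
  · exact h1 (by rw [h, map_one]; rfl)
  · exact hzu (by rw [h, one_mul, hz])

/-- A noncentral element of the radical is conjugate to its product with the centre. -/
theorem exists_flip (hz : (F.φ E7.zc : G) = z) {u : E7} (hu : u.v ≠ 0) :
    ∃ q : centralizer ({z} : Set G),
      (q : G) * (F.φ u : G) * (q : G)⁻¹ = (F.φ u : G) * z := by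
  obtain ⟨r, hr⟩ := form_flip u.v hu
  refine ⟨F.el ⟨r, false⟩ 0, ?_⟩
  rw [conj_phi, act_one, E7.conj_eq, hr, Bool.xor_true, ← E7.mul_zc, map_mul, Subgroup.coe_mul, hz]

variable (hk : F.k = 0) (htw : F.tw = false) (hz : (F.φ E7.zc : G) = z)

include hz in
theorem sq_z : z * z = 1 := by
  rw [← hz, ← Subgroup.coe_mul, ← map_mul, show E7.zc * E7.zc = 1 by decide +kernel, map_one]
  rfl

include hz in
/-- The two directions of fusion stay inside or outside together. -/
theorem inQ_back (hz1 : z ≠ 1) {g : G} (hi : InQ F (g * z * g⁻¹)) (hgz : g * z * g⁻¹ ≠ z) :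
    InQ F (g⁻¹ * z * g) := by
  have hgC : g * z * g⁻¹ * z = z * (g * z * g⁻¹) := by
    obtain ⟨u, hu⟩ := hi
    rw [← hu]
    exact z_commute _
  have hg'C : g⁻¹ * z * g * z = z * (g⁻¹ * z * g) := by
    have := congrArg (fun t => g⁻¹ * t * g) hgC
    simp only [mul_assoc, inv_mul_cancel_left, inv_mul_cancel, mul_one] at this ⊢
    exact this.symm
  have hg'z : g⁻¹ * z * g ≠ z := fun h => hgz (by
    have := congrArg (fun t => g * t * g⁻¹) h
    simpa [mul_assoc] using this.symm)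
  have hf := fusion F hz (sq_z F hz) hz1 (g := g⁻¹) (by rw [inv_inv]; exact hg'C)
    (by rw [inv_inv]; exact hg'z)
  rw [inv_inv] at hf
  rcases hf.2 with ⟨h, -⟩ | ⟨-, -, h, -⟩
  · exact h
  · exact absurd hi h

include hz in
/-- The involution and a conjugate of it in the radical can be swapped. -/
theorem exists_swap (hz1 : z ≠ 1) {g : G} (hi : InQ F (g * z * g⁻¹)) (hgz : g * z * g⁻¹ ≠ z) :
    ∃ s : G, s * z * s⁻¹ = g * z * g⁻¹ ∧ s * (g * z * g⁻¹) * s⁻¹ = z := by
  obtain ⟨u, hu⟩ := id hi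
  obtain ⟨u', hu'⟩ := inQ_back F hz hz1 hi hgz
  have hzz := sq_z F hz
  have hne : ∀ h : G, h * z * h⁻¹ ≠ 1 := fun h e => hz1 (by
    have := congrArg (fun t => h⁻¹ * t * h) e
    simpa [mul_assoc] using this)
  have hg'z : g⁻¹ * z * g ≠ z := fun h => hgz (by
    have := congrArg (fun t => g * t * g⁻¹) h
    simpa [mul_assoc] using this.symm)
  have hu0 := v_ne_zero F hz (by rw [hu]; exact hne g) (by rw [hu]; exact hgz)
  have hu0' := v_ne_zero F hz (u := u') (by
    rw [hu']; have := hne g⁻¹; rwa [inv_inv] at this) (by rw [hu']; exact hg'z)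
  obtain ⟨q, hq⟩ := exists_flip F hz hu0
  obtain ⟨r, hr⟩ := exists_flip F hz hu0'
  rw [hu] at hq
  rw [hu'] at hr
  set a := g * z * g⁻¹ with ha
  set a' := g⁻¹ * z * g with ha'
  set n := (q : G) * g with hn
  have hqz : (q : G) * z * (q : G)⁻¹ = z := mul_inv_eq_iff_eq_mul.2 (z_commute q)
  have hrz : (r : G) * z * (r : G)⁻¹ = z := mul_inv_eq_iff_eq_mul.2 (z_commute r)
  have haz : a * z = z * a := by rw [← hu]; exact z_commute _
  have h1 : n * z * n⁻¹ = a * z := by rw [hn, ← hq, ha]; group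
  have h2 : n * a' * n⁻¹ = z := by
    rw [hn, ha']
    refine Eq.trans ?_ hqz
    group
  have h3 : n * (a' * z) * n⁻¹ = a := by
    calc n * (a' * z) * n⁻¹ = n * a' * n⁻¹ * (n * z * n⁻¹) := by group
      _ = z * (a * z) := by rw [h1, h2]
      _ = a := by rw [haz, ← mul_assoc, hzz, one_mul]
  have h4 : (r : G) * (a' * z) * (r : G)⁻¹ = a' := by
    calc (r : G) * (a' * z) * (r : G)⁻¹
        = (r : G) * a' * (r : G)⁻¹ * ((r : G) * z * (r : G)⁻¹) := by group
      _ = a' := by rw [hr, hrz, mul_assoc, hzz, mul_one]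
  refine ⟨n * (r : G) * n⁻¹, ?_, ?_⟩
  · calc n * (r : G) * n⁻¹ * z * (n * (r : G) * n⁻¹)⁻¹
        = n * (r : G) * (n⁻¹ * z * n) * (r : G)⁻¹ * n⁻¹ := by group
      _ = n * ((r : G) * a' * (r : G)⁻¹) * n⁻¹ := by
          rw [show n⁻¹ * z * n = a' from by rw [← h2]; group]
          group
      _ = a := by rw [hr, h3]
  · calc n * (r : G) * n⁻¹ * a * (n * (r : G) * n⁻¹)⁻¹
        = n * (r : G) * (n⁻¹ * a * n) * (r : G)⁻¹ * n⁻¹ := by group
      _ = n * ((r : G) * (a' * z) * (r : G)⁻¹) * n⁻¹ := by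
          rw [show n⁻¹ * a * n = a' * z from by rw [← h3]; group]
          group
      _ = z := by rw [h4, h2]

include hk htw hz in
/-- A conjugate in the radical lies on one of the sides. -/
theorem side_of_conj (hz1 : z ≠ 1) {g : G} {u : E7} (hu : (F.φ u : G) = g * z * g⁻¹)
    (hgz : g * z * g⁻¹ ≠ z) : u.v ≠ 0 ∧ ∃ b, side b u.v = true := by
  have hzz := sq_z F hz
  have sq : ∀ h : G, h * z * h⁻¹ * (h * z * h⁻¹) = 1 := fun h => by
    rw [show h * z * h⁻¹ * (h * z * h⁻¹) = h * (z * z) * h⁻¹ by group, hzz]; group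
  have ne1 : ∀ h : G, h * z * h⁻¹ ≠ 1 := fun h e => hz1 (by
    have := congrArg (fun t => h⁻¹ * t * h) e
    simpa [mul_assoc] using this)
  have hv0 := v_ne_zero F hz (by rw [hu]; exact ne1 g) (by rw [hu]; exact hgz)
  refine ⟨hv0, ?_⟩
  obtain ⟨u', hu'⟩ := inQ_back F hz hz1 (g := g) ⟨u, hu⟩ hgz
  have hg'z : g⁻¹ * z * g ≠ z := fun h => hgz (by
    have := congrArg (fun t => g * t * g⁻¹) h
    simpa [mul_assoc] using this.symm)
  have sq' := sq g⁻¹
  have ne1' := ne1 g⁻¹
  rw [inv_inv] at sq' ne1'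
  obtain ⟨q, hq1, hq2, hq⟩ := profile F hz sq' ne1' hg'z (by rw [← hu']; exact z_commute _)
  have hquad : quad u.v = false := by
    have h : F.φ (u * u) = F.φ 1 := by
      rw [map_mul, map_one]
      exact Subtype.ext (by rw [Subgroup.coe_mul, hu]; exact sq g)
    have := congrArg E7.c (F.inj h)
    rw [E7.sq_eq] at this
    exact this
  obtain ⟨a, ha⟩ := sing_reps F.k u.v hquad hv0
  have hmv : (F.el 1 a : G) * (F.φ u : G) * (F.el 1 a : G)⁻¹ = (F.φ (act F.k a u) : G) := by
    rw [conj_phi]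
    simp
  obtain ⟨h1, h2⟩ := rootCount_move (F.el 1 a) (F.φ u : G)
  rw [hmv, hu] at h1 h2
  obtain ⟨p1, p2⟩ := prof_inner F hz (act F.k a u)
  rw [h1] at p1
  rw [h2] at p2
  have c1 := rootCount_conj g⁻¹ z (g * z * g⁻¹)
  have c2 := rootCount_conj g⁻¹ (g * z * g⁻¹) z
  rw [inv_inv, show g⁻¹ * (g * z * g⁻¹) * g = z by group] at c1 c2
  set p := profQ F.k F.tw (act F.k a u) with hp
  have e1 : q.2 = p.1 := by omega
  have e2 : q.1 = p.2 := by omega
  have hpm : p ∈ inList F.k F.tw := (tab_in F.k F.tw (act F.k a u).v ha (act F.k a u).c).1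
  have hqm : (p.2, p.1) ∈ inList F.k F.tw ++ outList F.k F.tw := by
    rw [← e1, ← e2]
    exact List.mem_append.2 (hq.imp (fun h => h.2.1) fun h => h.2)
  obtain ⟨-, hpp, hcase⟩ := tab_swap F.k F.tw p (List.mem_append.2 (Or.inl hpm)) hqm
  have hin : ∀ r ∈ inList F.k F.tw, r.1 ≠ 8 ∧ r.1 ≠ 4 := by
    rw [hk, htw]
    decide +kernel
  have hp24 : p = (24, 24) := by
    rcases hcase with h | ⟨-, h | h⟩
    · exact Prod.ext h (hpp.trans h)
    · exact absurd h (hin p hpm).1
    · exact absurd h (hin p hpm).2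
  rw [hp, hk, htw] at hp24
  rw [hk] at ha
  rcases side_rep _ ha (act 0 a u).c hp24 with h | h
  · exact ⟨true, (side_act true a u.v).symm.trans h⟩
  · exact ⟨false, (side_act false a u.v).symm.trans h⟩

include hk in
/-- A side is fused completely or not at all. -/
theorem side_all {g : G} {u w : E7} {b : Bool} (hu : (F.φ u : G) = g * z * g⁻¹)
    (hu0 : u.v ≠ 0) (hub : side b u.v = true) (hw0 : w.v ≠ 0) (hwb : side b w.v = true) :
    ∃ c : centralizer ({z} : Set G), (c : G) * g * z * ((c : G) * g)⁻¹ = (F.φ w : G) := by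
  obtain ⟨l, hl⟩ := side_trans b u.v w.v hub hwb hu0 hw0
  obtain ⟨r, hr⟩ : ∃ r : E7, r * act F.k l u * r⁻¹ = w := by
    obtain ⟨r, hr⟩ := form_flip w.v hw0
    have hv : (act F.k l u).v = w.v := by rw [hk]; exact hl
    rcases E7.eq_or_eq_of_v (x := w) (y := act F.k l u) (congrArg W.mk hv.symm) with e | e
    · exact ⟨1, by rw [e]; group⟩
    · refine ⟨⟨r, false⟩, ?_⟩
      rw [e, E7.conj_eq, E7.mul_zc, hv, hr, Bool.xor_true]
  refine ⟨F.el r l, ?_⟩
  calc (F.el r l : G) * g * z * ((F.el r l : G) * g)⁻¹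
      = (F.el r l : G) * (g * z * g⁻¹) * (F.el r l : G)⁻¹ := by group
    _ = (F.φ w : G) := by rw [← hu, conj_phi, hr]

/-- An element of the quotient outside a normal 2-subgroup. -/
theorem odd_product : ∀ l : Fin 168, l ≠ 0 → ∃ a : Fin 168,
    let m := mulL (mulL (mulL a l) (invL a)) l
    m ≠ 0 ∧ (mulL (mulL m m) m = 0 ∨
      mulL (mulL (mulL m m) (mulL m m)) (mulL (mulL m m) m) = 0) := by
  decide +kernel

/-- The 2-radical of the centraliser lies in the extraspecial subgroup. -/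
theorem inQ_of_pCore [Finite G] {x : centralizer ({z} : Set G)}
    (hx : x ∈ Cfsg.pCore 2 (centralizer ({z} : Set G))) : InQ F (x : G) := by
  haveI : Fact (Nat.Prime 2) := ⟨Nat.prime_two⟩
  set P := Cfsg.pCore 2 (centralizer ({z} : Set G)) with hP
  haveI hN : P.Normal := CfsgLib.LargeExtraspecial.pCore_normal' 2 _
  have hP2 : IsPGroup 2 P := CfsgLib.LargeExtraspecial.isPGroup_pCore 2 _
  obtain ⟨u, l, rfl⟩ := F.el_surj x
  by_contra hxQ
  have hl : l ≠ 0 := fun h => hxQ ⟨u, by rw [h, F.el_zero]⟩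
  obtain ⟨a, hm0, hm⟩ := odd_product l hl
  obtain ⟨v, hv⟩ := F.el_conj_exists u l a
  have hy : F.el 1 a * F.el u l * (F.el 1 a)⁻¹ * F.el u l ∈ P :=
    mul_mem (hN.conj_mem _ hx _) hx
  rw [hv, F.el_mul] at hy
  generalize mulL (mulL (mulL a l) (invL a)) l = m at hm0 hm hy
  generalize v * act F.k (mulL (mulL a l) (invL a)) u *
    ⟨0, F.sgn (mulL (mulL a l) (invL a)) l⟩ = w at hy
  obtain ⟨k, hk⟩ := hP2 ⟨_, hy⟩
  have hord : F.el w m ^ (2 ^ k) = 1 := congrArg Subtype.val hk
  have hker : ∀ n : ℕ, (∃ t, F.el w m ^ n = F.el t 0) → Nat.Coprime n (2 ^ k) → False := by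
    rintro n ⟨t, ht⟩ hco
    have hmem : F.el w m ∈ F.φ.range := by
      have hco' : n.Coprime (orderOf (F.el w m)) :=
        Nat.Coprime.coprime_dvd_right (orderOf_dvd_of_pow_eq_one hord) hco
      obtain ⟨j, hj⟩ := exists_pow_eq_self_of_coprime hco'
      rw [← hj, ht, F.el_zero, ← map_pow]
      exact ⟨_, rfl⟩
    obtain ⟨t, ht⟩ := hmem
    exact hm0 (F.el_inj (ht.symm.trans (F.el_zero t).symm)).2
  rcases hm with h | h
  · refine hker 3 ?_ (Nat.Coprime.pow_right k (by norm_num))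
    rw [pow_three, F.el_mul, F.el_mul, ← mulL_assoc, h]
    exact ⟨_, rfl⟩
  · refine hker 7 ?_ (Nat.Coprime.pow_right k (by norm_num))
    rw [show (7 : ℕ) = 2 + 2 + (2 + 1) from rfl, pow_add, pow_add, pow_add, pow_two, pow_one,
      F.el_mul, F.el_mul, F.el_mul, F.el_mul, h]
    exact ⟨_, rfl⟩

end CfsgLib.HeldCentre
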