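import Cfsg.Agent.HeldCentre.Main
import Cfsg.Agent.CosetEnum.HeSp.Iso
import Cfsg.Agent.S0364

/-!
The Held group from the four groups with the centraliser of a transvection, and its subgroup
`Sp₄(4):2`.
-/

set_option autoImplicit false

namespace CfsgLib.HeldCentre

open Subgroup

theorem card_SL_five_le : Nat.card (Matrix.SpecialLinearGroup (Fin 5) (ZMod 2)) ≤ 33554432 := by
  refine (Nat.card_le_card_of_injective
    (fun m : Matrix.SpecialLinearGroup (Fin 5) (ZMod 2) => fun p : Fin 5 × Fin 5 =>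
      (m : Matrix (Fin 5) (Fin 5) (ZMod 2)) p.1 p.2)
    fun a b h => Subtype.ext (Matrix.ext fun i j => congrFun h (i, j))).trans ?_
  rw [Nat.card_fun, Nat.card_zmod, Nat.card_prod, Nat.card_fin]
  norm_num

/-- Among the four groups only the Held group has its order. -/
theorem isoHe_of_four {G : Type*} [Group G] (hG : Nat.card G = 4030387200)
    (h : (∃ v : Fin 5 → ZMod 2, v ≠ 0 ∧ Nonempty (G ≃* MulAction.stabilizer
        (Matrix.SpecialLinearGroup (Fin 5) (ZMod 2)) v)) ∨
      Nonempty (G ≃* Matrix.SpecialLinearGroup (Fin 5) (ZMod 2)) ∨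
      Nonempty (G ≃* Cfsg.M24) ∨ Cfsg.Spor.IsoHe G) :
    Cfsg.Spor.IsoHe G := by
  have hle := card_SL_five_le
  rcases h with ⟨v, -, ⟨e⟩⟩ | ⟨⟨e⟩⟩ | ⟨⟨e⟩⟩ | h
  · exfalso
    have h1 := Nat.card_congr e.toEquiv
    have h2 := Nat.card_le_card_of_injective _ (MulAction.stabilizer
      (Matrix.SpecialLinearGroup (Fin 5) (ZMod 2)) v).subtype_injective
    rw [← h1, hG] at h2
    omega
  · exfalso
    have h1 := Nat.card_congr e.toEquiv
    rw [hG] at h1
    omega
  · exfalso
    have h1 := Nat.card_congr e.toEquiv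
    rw [hG, Cfsg.Agent.S0364.result] at h1
    omega
  · exact h

/-- Transport of a subgroup with `Sp₄(4)` of index two. -/
theorem spFour_transport {A G : Type*} [Group A] [Group G] (e : A ≃* G) (H : Subgroup A)
    (N : Subgroup H) (hidx : N.index = 2)
    (f : N ≃* Matrix.symplecticGroup (Fin 2) CfsgLib.SporB.FFour) :
    ∃ (H : Subgroup G) (N : Subgroup H) (K : Type) (_ : Field K) (_ : Fintype K),
      N.Normal ∧ N.index = 2 ∧ Fintype.card K = 4 ∧
        Nonempty (N ≃* Matrix.symplecticGroup (Fin 2) K) := by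
  let τ := e.subgroupMap H
  have h2 : (N.map τ.toMonoidHom).index = 2 := (Subgroup.index_map_equiv N τ).trans hidx
  exact ⟨_, N.map τ.toMonoidHom, CfsgLib.SporB.FFour, inferInstance, inferInstance,
    Subgroup.normal_of_index_eq_two h2, h2, CfsgLib.SporB.FFour.card_eq,
    ⟨(τ.subgroupMap N).symm.trans f⟩⟩

/-- The subgroup `Sp₄(4):2`. -/
theorem exists_spFour_of_iso {G : Type*} [Group G] (h : Cfsg.Spor.IsoHe G) :
    ∃ (H : Subgroup G) (N : Subgroup H) (K : Type) (_ : Field K) (_ : Fintype K),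
      N.Normal ∧ N.index = 2 ∧ Fintype.card K = 4 ∧
        Nonempty (N ≃* Matrix.symplecticGroup (Fin 2) K) := by
  obtain ⟨e⟩ := h
  have e' : G ≃* CfsgLib.CosetEnum.He.setup.Grp := e
  obtain ⟨N, -, hidx, ⟨f⟩⟩ := CfsgLib.CosetEnum.HeSp.exists_spFour
  exact spFour_transport e'.symm CfsgLib.CosetEnum.HeH.enum.H N hidx f

end CfsgLib.HeldCentre
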