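import Cfsg.Agent.HeldCentre.Setting
import Cfsg.Agent.HeldCentre.Commutators

/-!
A conjugate of the involution in its centraliser gives one in the radical.
-/

set_option autoImplicit false

namespace CfsgLib.HeldCentre

open Subgroup

variable {G : Type*} [Group G] {z : G} (F : Frame (centralizer ({z} : Set G)))

/-- The conjugation relation of a pair in standard position. -/
structure Std (g : G) (u u' : E7) : Prop where
  fwd : g * z * g⁻¹ = (F.el u 8 : G)
  bwd : g⁻¹ * z * g = (F.el u' 8 : G)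

open scoped Classical in
/-- The intersection of the radical with a conjugate. -/
noncomputable def meet (g : G) : Finset E7 :=
  Finset.univ.filter fun v => InQ F (g⁻¹ * (F.φ v : G) * g)

theorem mem_meet {g : G} {v : E7} : v ∈ meet F g ↔ InQ F (g⁻¹ * (F.φ v : G) * g) := by
  simp [meet]

attribute [irreducible] meet

theorem meet_mul {g : G} {v w : E7} (hv : v ∈ meet F g) (hw : w ∈ meet F g) :
    v * w ∈ meet F g := by
  rw [mem_meet] at hv hw ⊢
  obtain ⟨a, ha⟩ := hv
  obtain ⟨b, hb⟩ := hw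
  refine ⟨a * b, ?_⟩
  rw [map_mul, map_mul, Subgroup.coe_mul, Subgroup.coe_mul, ha, hb]
  group

theorem meet_inv {g : G} {v : E7} (hv : v ∈ meet F g) : v⁻¹ ∈ meet F g := by
  rw [mem_meet] at hv ⊢
  obtain ⟨a, ha⟩ := hv
  refine ⟨a⁻¹, ?_⟩
  rw [map_inv, map_inv, Subgroup.coe_inv, Subgroup.coe_inv, ha]
  group

theorem one_mem_meet {g : G} : (1 : E7) ∈ meet F g := by
  rw [mem_meet]
  exact ⟨1, by simp⟩

theorem commute_phi (v : E7) : (F.φ v : G) * z = z * (F.φ v : G) := z_commute (F.φ v)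

theorem conj_el (u v : E7) :
    F.φ v * F.el u 8 * (F.φ v)⁻¹ = F.el (v * u * act F.k 8 v⁻¹) 8 := by
  rw [← map_inv, ← F.el_zero v, ← F.el_zero v⁻¹, F.el_mul, F.el_mul, F.sgn_zero_left,
    F.sgn_zero_right, (mulL_one 8).2, (mulL_one 8).1, act_one]
  simp only [show (⟨0, false⟩ : E7) = 1 from rfl, mul_one]

theorem commute_el {u v : E7} (h : v * u = u * act F.k 8 v) :
    F.φ v * F.el u 8 = F.el u 8 * F.φ v := by
  rw [← F.el_zero v, F.el_mul, F.el_mul, F.sgn_zero_left, F.sgn_zero_right, (mulL_one 8).2,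
    (mulL_one 8).1, act_one]
  simp only [show (⟨0, false⟩ : E7) = 1 from rfl, mul_one]
  rw [h]

theorem of_commute_el {u v : E7} (h : F.φ v * F.el u 8 = F.el u 8 * F.φ v) :
    v * u = u * act F.k 8 v := by
  rw [← F.el_zero v, F.el_mul, F.el_mul, F.sgn_zero_left, F.sgn_zero_right, (mulL_one 8).2,
    (mulL_one 8).1, act_one] at h
  simpa [show (⟨0, false⟩ : E7) = 1 from rfl] using (F.el_inj h).1

theorem el_commute_class {a : E7} {l : Fin 168} {u : E7}
    (h : F.el a l * F.el u 8 = F.el u 8 * F.el a l) : mulL l 8 = mulL 8 l := by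
  rw [F.el_mul, F.el_mul] at h
  exact (F.el_inj h).2

variable (hk : F.k = 0) (hz : (F.φ E7.zc : G) = z)
  (hno : ∀ g : G, InQ F (g * z * g⁻¹) → g * z * g⁻¹ = z)

theorem std_symm {g : G} {u u' : E7} (h : Std F g u u') : Std F g⁻¹ u' u :=
  ⟨by rw [inv_inv]; exact h.bwd, by rw [inv_inv]; exact h.fwd⟩

include hz hno

theorem zc_not_mem_meet {g : G} {u u' : E7} (h : Std F g u u') : E7.zc ∉ meet F g := by
  rw [mem_meet, hz]
  intro hQ
  have e := hno g⁻¹ (by rwa [inv_inv])
  rw [inv_inv, h.bwd] at e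
  have e' : F.el u' 8 = F.el E7.zc 0 := by rw [F.el_zero]; exact Subtype.ext (e.trans hz.symm)
  exact absurd (F.el_inj e').2 (by decide +kernel)

omit hno

include hk

theorem meet_sub_cq {g : G} {u u' : E7} (h : Std F g u u') {v : E7} (hv : v ∈ meet F g) :
    v ∈ cq u := by
  rw [mem_meet] at hv
  obtain ⟨w, hw⟩ := hv
  rw [mem_cq, ← hk]
  apply of_commute_el
  apply Subtype.ext
  rw [Subgroup.coe_mul, Subgroup.coe_mul, ← h.fwd]
  have hv : (F.φ v : G) = g * (F.φ w : G) * g⁻¹ := by rw [hw]; group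
  rw [hv]
  calc g * (F.φ w : G) * g⁻¹ * (g * z * g⁻¹) = g * ((F.φ w : G) * z) * g⁻¹ := by group
    _ = g * (z * (F.φ w : G)) * g⁻¹ := by rw [commute_phi]
    _ = g * z * g⁻¹ * (g * (F.φ w : G) * g⁻¹) := by group

include hno

theorem meet_central {g : G} {u u' : E7} (h : Std F g u u') {v q : E7} (hv : v ∈ meet F g)
    (hq : q ∈ cq u) : v * q = q * v := by
  have hmem : q * v * q⁻¹ ∈ meet F g := by
    rw [mem_meet] at hv ⊢
    have hc : g⁻¹ * (F.φ q : G) * g ∈ centralizer ({z} : Set G) := by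
      rw [mem_centralizer_singleton_iff]
      rw [mem_cq] at hq
      rw [← hk] at hq
      have h1 : (F.φ q : G) * (g * z * g⁻¹) = g * z * g⁻¹ * (F.φ q : G) := by
        rw [h.fwd]
        exact congrArg Subtype.val (commute_el F hq)
      calc g⁻¹ * (F.φ q : G) * g * z = g⁻¹ * ((F.φ q : G) * (g * z * g⁻¹)) * g := by group
        _ = g⁻¹ * (g * z * g⁻¹ * (F.φ q : G)) * g := by rw [h1]
        _ = z * (g⁻¹ * (F.φ q : G) * g) := by group
    have := inQ_conj F ⟨_, hc⟩ hv
    rw [map_mul, map_mul, map_inv, Subgroup.coe_mul, Subgroup.coe_mul, Subgroup.coe_inv]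
    simpa [mul_assoc] using this
  have hcom := meet_mul F hmem (meet_inv F hv)
  rw [E7.conj_eq] at hcom
  by_contra hne
  have hf : form v.v q.v = true := by
    rw [commute_iff_form] at hne
    simpa using hne
  apply zc_not_mem_meet F hz hno h
  have : (⟨v.v, Bool.xor v.c (form v.v q.v)⟩ : E7) * v⁻¹ = E7.zc := by
    rw [hf, show (⟨v.v, Bool.xor v.c true⟩ : E7) = v * E7.zc by rw [E7.mul_zc, Bool.xor_true],
      (E7.zc_commute v).eq, mul_inv_cancel_right]
  rwa [this] at hcom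

/-- The intersection has at least four elements. -/
theorem four_le_meet {g : G} {u u' : E7} (h : Std F g u u')
    (hcases : (cq u').card = 32 ∨
      (cq u').card = 16 ∧ ∀ a ∈ cq u', ∀ b ∈ cq u', a * b = b * a) :
    4 ≤ (meet F g).card := by
  classical
  have hmemC : ∀ v ∈ cq u', g * (F.φ v : G) * g⁻¹ ∈ centralizer ({z} : Set G) := by
    intro v hv
    rw [mem_cq] at hv
    rw [← hk] at hv
    rw [mem_centralizer_singleton_iff]
    have h1 : (F.φ v : G) * (g⁻¹ * z * g) = g⁻¹ * z * g * (F.φ v : G) := by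
      rw [h.bwd]
      exact congrArg Subtype.val (commute_el F hv)
    calc g * (F.φ v : G) * g⁻¹ * z = g * ((F.φ v : G) * (g⁻¹ * z * g)) * g⁻¹ := by group
      _ = g * (g⁻¹ * z * g * (F.φ v : G)) * g⁻¹ := by rw [h1]
      _ = z * (g * (F.φ v : G) * g⁻¹) := by group
  choose a l hal using fun (v : E7) (hv : v ∈ cq u') =>
    F.el_surj ⟨g * (F.φ v : G) * g⁻¹, hmemC v hv⟩
  let κ (v : E7) : Fin 168 := if hv : v ∈ cq u' then l v hv else 0
  have himg : ∀ v, ∀ hv : v ∈ cq u', (F.el (a v hv) (κ v) : G) = g * (F.φ v : G) * g⁻¹ := by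
    intro v hv
    simp only [κ, dif_pos hv, ← hal v hv]
  have hκ : ∀ v ∈ cq u', κ v ∈ cent8 := by
    intro v hv
    apply mem_cent8
    apply el_commute_class F (a := a v hv) (u := u)
    apply Subtype.ext
    rw [Subgroup.coe_mul, Subgroup.coe_mul, himg v hv, ← h.fwd]
    calc g * (F.φ v : G) * g⁻¹ * (g * z * g⁻¹) = g * ((F.φ v : G) * z) * g⁻¹ := by group
      _ = g * (z * (F.φ v : G)) * g⁻¹ := by rw [commute_phi]
      _ = g * z * g⁻¹ * (g * (F.φ v : G) * g⁻¹) := by group
  have hfib : ∀ b ∈ (cq u').image κ, ((cq u').filter fun v => κ v = b).card ≤ (meet F g).card := by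
    intro b hb
    obtain ⟨v0, hv0, rfl⟩ := Finset.mem_image.1 hb
    have hex : ∀ v, v ∈ cq u' → κ v = κ v0 →
        ∃ w : E7, (F.φ w : G) = g * (F.φ (v * v0⁻¹) : G) * g⁻¹ := by
      intro v hv he
      refine ⟨a v hv * (a v0 hv0)⁻¹, ?_⟩
      have e1 := himg v hv
      have e2 := himg v0 hv0
      rw [he] at e1
      calc (F.φ (a v hv * (a v0 hv0)⁻¹) : G)
          = (F.el (a v hv) (κ v0) : G) * (F.el (a v0 hv0) (κ v0) : G)⁻¹ := by
            simp [Frame.el, mul_assoc]
        _ = _ := by rw [e1, e2, map_mul, map_inv, Subgroup.coe_mul, Subgroup.coe_inv]; group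
    choose w hw using hex
    refine Finset.card_le_card_of_injOn
      (fun v => if hv : v ∈ cq u' ∧ κ v = κ v0 then w v hv.1 hv.2 else 1) ?_ ?_
    · intro v hv
      obtain ⟨hv1, hv2⟩ := Finset.mem_filter.1 hv
      simp only [dif_pos (And.intro hv1 hv2)]
      rw [Finset.mem_coe, mem_meet, hw]
      exact ⟨v * v0⁻¹, by group⟩
    · intro v hv v' hv' e
      obtain ⟨hv1, hv2⟩ := Finset.mem_filter.1 hv
      obtain ⟨hv1', hv2'⟩ := Finset.mem_filter.1 hv'
      simp only [dif_pos (And.intro hv1 hv2), dif_pos (And.intro hv1' hv2')] at e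
      have e' := congrArg (fun t : E7 => (F.φ t : G)) e
      simp only [hw] at e'
      exact mul_right_cancel (F.inj (Subtype.ext (mul_left_cancel (mul_right_cancel e'))))
  have hle := Finset.card_le_mul_card_image (f := κ) (cq u') (meet F g).card hfib
  have himle : ((cq u').image κ) ⊆ cent8 := fun b hb => by
    obtain ⟨v, hv, rfl⟩ := Finset.mem_image.1 hb
    exact hκ v hv
  rcases hcases with h32 | ⟨h16, hab⟩
  · have h8 := Finset.card_le_card himle
    rw [cent8_card] at h8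
    have := Nat.mul_le_mul_left (meet F g).card h8
    omega
  · have h4 : ((cq u').image κ).card ≤ 4 := by
      refine cent8_abelian _ himle fun b hb c hc => ?_
      obtain ⟨v, hv, rfl⟩ := Finset.mem_image.1 hb
      obtain ⟨v', hv', rfl⟩ := Finset.mem_image.1 hc
      have e : F.el (a v hv) (κ v) * F.el (a v' hv') (κ v') =
          F.el (a v' hv') (κ v') * F.el (a v hv) (κ v) := by
        apply Subtype.ext
        rw [Subgroup.coe_mul, Subgroup.coe_mul, himg, himg]
        calc g * (F.φ v : G) * g⁻¹ * (g * (F.φ v' : G) * g⁻¹)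
            = g * (F.φ (v * v') : G) * g⁻¹ := by rw [map_mul, Subgroup.coe_mul]; group
          _ = _ := by rw [hab v hv v' hv', map_mul, Subgroup.coe_mul]; group
      rw [F.el_mul, F.el_mul] at e
      exact (F.el_inj e).2
    have := Nat.mul_le_mul_left (meet F g).card h4
    omega

theorem conj_eq_cm {g : G} {u u' : E7} (h : Std F g u u') (v : E7) :
    (F.φ v : G) * (g * z * g⁻¹) * (F.φ v : G)⁻¹ = (F.φ (cm u v) : G) * (g * z * g⁻¹) := by
  rw [h.fwd]
  have e : F.φ v * F.el u 8 * (F.φ v)⁻¹ = F.φ (cm u v) * F.el u 8 := by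
    rw [conj_el, hk]
    unfold cm Frame.el
    rw [← mul_assoc, ← map_mul, inv_mul_cancel_right]
  exact congrArg Subtype.val e

/-- A commutator in the intersection is trivial. -/
theorem cm_eq_one {g : G} {u u' : E7} (h : Std F g u u') {v : E7} (hv : cm u v ∈ meet F g) :
    cm u v = 1 := by
  obtain ⟨w, hw⟩ := (mem_meet F).1 hv
  have e1 : g⁻¹ * ((F.φ v : G) * (g * z * g⁻¹) * (F.φ v : G)⁻¹) * g = (F.φ (w * E7.zc) : G) := by
    rw [conj_eq_cm F hk hz hno h, map_mul, Subgroup.coe_mul, hz, hw]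
    group
  have e2 : g⁻¹ * (F.φ v : G) * g * z * (g⁻¹ * (F.φ v : G) * g)⁻¹ = (F.φ (w * E7.zc) : G) := by
    rw [← e1]
    group
  have e3 := hno _ ⟨_, e2.symm⟩
  rw [e2, map_mul, Subgroup.coe_mul, hz, hw] at e3
  have : (F.φ (cm u v) : G) = 1 := by
    have e4 : g⁻¹ * (F.φ (cm u v) : G) * g = 1 := mul_eq_right.1 e3
    calc (F.φ (cm u v) : G) = g * (g⁻¹ * (F.φ (cm u v) : G) * g) * g⁻¹ := by group
      _ = 1 := by rw [e4]; group
  exact F.inj (by rw [map_one]; exact Subtype.ext this)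

/-- The small case does not occur. -/
theorem not_small {g : G} {u u' : E7} (h : Std F g u u') (hu : u * act 0 8 u = 1)
    (hu' : u' * act 0 8 u' = 1) (hc : countOn invs8 (rootZ 0 false u 8) = 4)
    (hc' : countOn invs8 (rootZ 0 false u' 8) = 4) : False := by
  classical
  obtain ⟨hcard, -, hS, hsub, hclosed⟩ := cq_small u hu hc
  obtain ⟨hcard', hab', -⟩ := cq_small u' hu' hc'
  have hT := four_le_meet F hk hz hno h (Or.inr ⟨hcard', hab'⟩)
  have hinj : Set.InjOn (fun p : E7 × E7 => p.1 * p.2) (cms u ×ˢ meet F g : Finset (E7 × E7)) := by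
    rintro ⟨s, t⟩ hst ⟨s', t'⟩ hst' e
    obtain ⟨hs, ht⟩ := Finset.mem_product.1 (Finset.mem_coe.1 hst)
    obtain ⟨hs', ht'⟩ := Finset.mem_product.1 (Finset.mem_coe.1 hst')
    simp only at e hs ht hs' ht'
    have h1 : s'⁻¹ * s = t' * t⁻¹ := by
      calc s'⁻¹ * s = s'⁻¹ * (s * t) * t⁻¹ := by group
        _ = t' * t⁻¹ := by rw [e]; group
    obtain ⟨v, hv⟩ := mem_cms.1 (hclosed s' hs' s hs)
    have h2 : cm u v = 1 := cm_eq_one F hk hz hno h (by
      rw [hv, h1]; exact meet_mul F ht' (meet_inv F ht))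
    rw [h2] at hv
    have hss : s' = s := eq_of_inv_mul_eq_one hv.symm
    subst hss
    exact Prod.ext rfl (mul_left_cancel e)
  have hle := Finset.card_le_card_of_injOn (fun p : E7 × E7 => p.1 * p.2)
    (s := cms u ×ˢ meet F g) (t := cq u) (fun p hp => by
      obtain ⟨hs, ht⟩ := Finset.mem_product.1 hp
      have h1 := hsub _ hs
      have h2 := meet_sub_cq F hk hz h ht
      simp only [Finset.mem_coe, mem_cq] at h1 h2 ⊢
      rw [act_hom, mul_assoc, h2, ← mul_assoc, h1, mul_assoc]) hinj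
  rw [Finset.card_product, hS, hcard] at hle
  omega

/-- The conjugates under the radical in the large case. -/
theorem large_orbit {g : G} {u u' : E7} (h : Std F g u u') (hu : u * act 0 8 u = 1)
    (hu' : u' * act 0 8 u' = 1) (hc : countOn invs8 (rootZ 0 false u 8) = 8)
    (hc' : countOn invs8 (rootZ 0 false u' 8) = 8) :
    (∀ v, cm u v = 1 ∨ (cm u v * E7.zc ∈ meet F g ∧ cm u v * E7.zc ≠ 1)) ∧
      (∀ t ∈ meet F g, t ≠ 1 → ∃ v, cm u v = t * E7.zc) ∧ (meet F g).card = 4 := by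
  classical
  obtain ⟨-, hZ, hS, hSZ, hzS, hzZ⟩ := cq_large u hu hc
  obtain ⟨hcard', -⟩ := cq_large u' hu' hc'
  have hT := four_le_meet F hk hz hno h (Or.inl hcard')
  have hzT := zc_not_mem_meet F hz hno h
  have hTZ : ∀ t ∈ meet F g, t ∈ zcq u := fun t ht => mem_zcq.2
    ⟨meet_sub_cq F hk hz h ht, fun w hw => meet_central F hk hz hno h ht hw⟩
  have hzz : ∀ t : E7, t * E7.zc * E7.zc = t := fun t => by
    rw [mul_assoc, show E7.zc * E7.zc = 1 by decide +kernel, mul_one]
  let T' := (meet F g).image (· * E7.zc)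
  have hdisj : Disjoint (meet F g) T' := by
    rw [Finset.disjoint_left]
    intro t ht ht'
    obtain ⟨s, hs, rfl⟩ := Finset.mem_image.1 ht'
    exact hzT (by simpa using meet_mul F (meet_inv F hs) ht)
  have hsubU : meet F g ∪ T' ⊆ zcq u := by
    intro t ht
    rcases Finset.mem_union.1 ht with ht | ht
    · exact hTZ t ht
    · obtain ⟨s, hs, rfl⟩ := Finset.mem_image.1 ht
      have h1 := mem_zcq.1 (hTZ s hs)
      have h2 := mem_zcq.1 hzZ
      refine mem_zcq.2 ⟨?_, fun w hw => ?_⟩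
      · rw [mem_cq] at h1 h2 ⊢
        rw [act_hom, mul_assoc, h2.1, ← mul_assoc, h1.1, mul_assoc]
      · rw [mul_assoc, h2.2 w hw, ← mul_assoc, h1.2 w hw, mul_assoc]
  have hT' : T'.card = (meet F g).card :=
    Finset.card_image_of_injective _ fun a b e => mul_right_cancel e
  have hU := Finset.card_le_card hsubU
  rw [Finset.card_union_of_disjoint hdisj, hT', hZ] at hU
  have hTc : (meet F g).card = 4 := by omega
  have hUeq : meet F g ∪ T' = zcq u := Finset.eq_of_subset_of_card_le hsubU (by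
    rw [Finset.card_union_of_disjoint hdisj, hT', hZ, hTc])
  have hone : (1 : E7) ∈ cms u :=
    mem_cms.2 ⟨1, by simp [cm, show act 0 8 (1 : E7) = 1 from map_one (actHom 0 8)]⟩
  have hstep : ∀ v, cm u v = 1 ∨ (cm u v * E7.zc ∈ meet F g ∧ cm u v * E7.zc ≠ 1) := by
    intro v
    by_cases hv : cm u v = 1
    · exact Or.inl hv
    have hmem : cm u v ∈ cms u := mem_cms.2 ⟨v, rfl⟩
    have hmem' := hSZ _ hmem
    rw [← hUeq] at hmem'
    rcases Finset.mem_union.1 hmem' with ht | ht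
    · exact absurd (cm_eq_one F hk hz hno h ht) hv
    · obtain ⟨s, hs, hse⟩ := Finset.mem_image.1 ht
      refine Or.inr ⟨by rw [← hse, hzz]; exact hs, fun e => hzS ?_⟩
      have : cm u v = E7.zc := by rw [← hzz (cm u v), e, one_mul]
      rwa [← this]
  refine ⟨hstep, fun t ht ht1 => ?_, hTc⟩
  have himg : ((cms u).erase 1).image (· * E7.zc) = (meet F g).erase 1 := by
    refine Finset.eq_of_subset_of_card_le (fun r hr => ?_) (le_of_eq ?_)
    · obtain ⟨s, hs, rfl⟩ := Finset.mem_image.1 hr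
      obtain ⟨hs1, hs2⟩ := Finset.mem_erase.1 hs
      obtain ⟨v, rfl⟩ := mem_cms.1 hs2
      rcases hstep v with h1 | ⟨h1, h2⟩
      · exact absurd h1 hs1
      · exact Finset.mem_erase.2 ⟨h2, h1⟩
    · rw [Finset.card_image_of_injective _ (fun a b e => mul_right_cancel e),
        Finset.card_erase_of_mem (one_mem_meet F), Finset.card_erase_of_mem hone, hS, hTc]
  have htm : t ∈ ((cms u).erase 1).image (· * E7.zc) := by
    rw [himg]; exact Finset.mem_erase.2 ⟨ht1, ht⟩
  obtain ⟨s, hs, rfl⟩ := Finset.mem_image.1 htm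
  obtain ⟨v, rfl⟩ := mem_cms.1 (Finset.mem_erase.1 hs).2
  exact ⟨v, (hzz _).symm⟩

end CfsgLib.HeldCentre
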