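import Cfsg.Agent.HeldCentre.Nwc

/-!
Five involutions on which two four-groups would generate an alternating group: the involution has
a conjugate in the radical unless it has none in its centraliser.
-/

set_option autoImplicit false

namespace CfsgLib.HeldCentre

open Subgroup

variable {G : Type*} [Group G] {z : G} (F : Frame (centralizer ({z} : Set G)))

/-- An involution outside the radical moves over the standard one. -/
theorem exists_move {x : G} (hx : x * z = z * x) (hxx : x * x = 1)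
    (hQ : ¬ InQ F x) :
    ∃ (c : centralizer ({z} : Set G)) (u : E7), (c : G) * x * (c : G)⁻¹ = (F.el u 8 : G) := by
  obtain ⟨xc, rfl⟩ : ∃ c : centralizer ({z} : Set G), (c : G) = x :=
    ⟨⟨x, mem_centralizer_singleton_iff.2 hx⟩, rfl⟩
  obtain ⟨u, s, rfl⟩ := F.el_surj xc
  have hsq : F.el u s * F.el u s = F.el 1 0 := by
    rw [F.el_one]; exact Subtype.ext hxx
  rw [F.el_sq] at hsq
  have hs := (F.el_inj hsq).2
  have hs0 : s ≠ 0 := fun h => hQ ⟨u, by rw [h, F.el_zero]⟩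
  have key : ∀ s : Fin 168, mulL s s = 0 → s ≠ 0 → ∃ a, mulL (mulL a s) (invL a) = 8 := by
    decide +kernel
  obtain ⟨a, ha⟩ := key s hs hs0
  obtain ⟨w, hw⟩ := F.el_conj_exists u s a
  rw [ha] at hw
  exact ⟨F.el 1 a, w, congrArg Subtype.val hw⟩

variable (hk : F.k = 0) (htw : F.tw = false) (hz : (F.φ E7.zc : G) = z)

include htw in
theorem square_cond {x : G} {u : E7} (hx : x = (F.el u 8 : G)) (hxx : x * x = 1) :
    u * act F.k 8 u = 1 := by
  have hsq : F.el u 8 * F.el u 8 = F.el 1 0 := by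
    rw [F.el_one]
    apply Subtype.ext
    rw [Subgroup.coe_mul, ← hx]
    exact hxx
  rw [F.el_sq] at hsq
  have h := (F.el_inj hsq).1
  rw [F.sgn_self (by decide +kernel), sqE, htw] at h
  simpa [tz, show (⟨0, false⟩ : E7) = 1 from rfl] using h

include hk htw hz

theorem count_of_rootCount {u : E7} {n : ℕ} (h : rootCount z (F.el u 8 : G) = 2 * n) :
    countOn invs8 (rootZ 0 false u 8) = n := by
  have h1 := (prof_outer F hz u).1
  rw [h, profS, hk, htw] at h1
  simp only at h1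
  omega

/-- The five points yield a contradiction. -/
theorem not_large (hno : ∀ g : G, InQ F (g * z * g⁻¹) → g * z * g⁻¹ = z) {g : G} {u u' : E7}
    (h : Std F g u u') (hu : u * act 0 8 u = 1) (hu' : u' * act 0 8 u' = 1)
    (hc : countOn invs8 (rootZ 0 false u 8) = 8)
    (hc' : countOn invs8 (rootZ 0 false u' 8) = 8) : False := by
  classical
  obtain ⟨O1, O2, hT⟩ := large_orbit F hk hz hno h hu hu' hc hc'
  obtain ⟨P1, P2, -⟩ := large_orbit F hk hz hno (std_symm F h) hu' hu hc' hc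
  have hzT := zc_not_mem_meet F hz hno h
  -- the moving elements and the points
  set X := g * z * g⁻¹ with hX
  let N : Set G := {t | ∃ v ∈ meet F g, (F.φ v : G) = t}
  have hxz : X * z = z * X := by rw [hX, h.fwd]; exact z_commute _
  have hxx : X * X = 1 := by
    have : z * z = 1 := by
      rw [← hz, ← Subgroup.coe_mul, ← map_mul, show E7.zc * E7.zc = 1 by decide +kernel, map_one]
      rfl
    calc g * z * g⁻¹ * (g * z * g⁻¹) = g * (z * z) * g⁻¹ := by group
      _ = 1 := by rw [this]; group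
  let p (t : G) : G := X * z * t
  have hN_Q : ∀ t ∈ N, InQ F t := fun t ⟨v, _, hv⟩ => ⟨v, hv⟩
  have hN_z : ∀ t ∈ N, t * z = z * t := fun t ⟨v, _, hv⟩ => hv ▸ commute_phi F v
  have hN_x : ∀ t ∈ N, t * X = X * t := by
    rintro t ⟨v, hv, rfl⟩
    have h1 := meet_sub_cq F hk hz h hv
    rw [mem_cq, ← hk] at h1
    rw [hX, h.fwd]
    exact congrArg Subtype.val (commute_el F h1)
  have hN_mul : ∀ s ∈ N, ∀ t ∈ N, s * t ∈ N := by
    rintro s ⟨v, hv, rfl⟩ t ⟨w, hw, rfl⟩
    exact ⟨v * w, meet_mul F hv hw, by simp⟩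
  have hN_inv : ∀ t ∈ N, t⁻¹ ∈ N := by
    rintro t ⟨v, hv, rfl⟩
    exact ⟨v⁻¹, meet_inv F hv, by simp⟩
  have hN_1 : (1 : G) ∈ N := ⟨1, one_mem_meet F, by simp⟩
  have hzN : z ∉ N := by
    rintro ⟨v, hv, e⟩
    have : v = E7.zc := F.inj (Subtype.ext (e.trans hz.symm))
    exact hzT (this ▸ hv)
  have hN_sq : ∀ t ∈ N, t * t = 1 := by
    rintro t ⟨v, hv, rfl⟩
    have hvv := meet_mul F hv hv
    rw [E7.sq_eq] at hvv
    rw [← Subgroup.coe_mul, ← map_mul, E7.sq_eq]
    cases hq : quad v.v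
    · show ((F.φ 1 : centralizer ({z} : Set G)) : G) = 1
      rw [map_one]; rfl
    · rw [hq] at hvv
      exact absurd hvv hzT
  -- the elements of the radical
  have orbX : ∀ q, InQ F q → q * X * q⁻¹ = X ∨ ∃ t ∈ N, t ≠ 1 ∧ q * X * q⁻¹ = p t := by
    rintro q ⟨v, rfl⟩
    rw [hX, conj_eq_cm F hk hz hno h]
    rcases O1 v with e | ⟨e, e1⟩
    · left; rw [e, map_one]; simp
    · refine Or.inr ⟨_, ⟨_, e, rfl⟩, fun h1 => e1 (F.inj (by rw [map_one]; exact Subtype.ext h1)), ?_⟩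
      show (F.φ (cm u v) : G) * (g * z * g⁻¹) = g * z * g⁻¹ * z * (F.φ (cm u v * E7.zc) : G)
      rw [← hX]
      have hzzG : z * z = 1 := by
        rw [← hz, ← Subgroup.coe_mul, ← map_mul, show E7.zc * E7.zc = 1 by decide +kernel, map_one]
        rfl
      have hm : (F.φ (cm u v * E7.zc) : G) ∈ N := ⟨_, e, rfl⟩
      have e2 : (F.φ (cm u v * E7.zc) : G) = (F.φ (cm u v) : G) * z := by
        rw [map_mul, Subgroup.coe_mul, hz]
      calc (F.φ (cm u v) : G) * X
          = (F.φ (cm u v) : G) * (z * z) * X := by rw [hzzG, mul_one]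
        _ = (F.φ (cm u v) : G) * z * (z * X) := by simp only [mul_assoc]
        _ = (F.φ (cm u v * E7.zc) : G) * (X * z) := by rw [e2, hxz]
        _ = _ := by
          rw [← mul_assoc, hN_x _ hm, mul_assoc, hN_z _ hm, ← mul_assoc]
  have surX : ∀ t ∈ N, t ≠ 1 → ∃ q, InQ F q ∧ q * X * q⁻¹ = p t := by
    rintro t ⟨v, hv, rfl⟩ ht
    obtain ⟨w, hw⟩ := O2 v hv fun e => ht (by simp [e])
    refine ⟨_, ⟨w, rfl⟩, ?_⟩
    rw [hX, conj_eq_cm F hk hz hno h, hw, map_mul, Subgroup.coe_mul, hz, ← hX]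
    show (F.φ v : G) * z * X = X * z * (F.φ v : G)
    rw [mul_assoc, ← hxz, ← mul_assoc, hN_x _ ⟨v, hv, rfl⟩, mul_assoc, hN_z _ ⟨v, hv, rfl⟩,
      ← mul_assoc]
  have hzzG : z * z = 1 := by
    rw [← hz, ← Subgroup.coe_mul, ← map_mul, show E7.zc * E7.zc = 1 by decide +kernel, map_one]
    rfl
  have surZ : ∀ t ∈ N, t ≠ 1 → ∃ r, InQ F (g⁻¹ * r * g) ∧ r * z * r⁻¹ = p t := by
    rintro t ⟨v, hv, rfl⟩ ht
    obtain ⟨w, hw⟩ := (mem_meet F).1 hv
    have hwm : w ∈ meet F g⁻¹ := by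
      rw [mem_meet, inv_inv, hw]
      exact ⟨v, by group⟩
    have hw1 : w ≠ 1 := fun e => ht (by
      rw [e, map_one, Subgroup.coe_one] at hw
      calc (F.φ v : G) = g * (g⁻¹ * (F.φ v : G) * g) * g⁻¹ := by group
        _ = 1 := by rw [← hw]; group)
    obtain ⟨b, hb⟩ := P2 w hwm hw1
    refine ⟨g * (F.φ b : G) * g⁻¹, ⟨b, by group⟩, ?_⟩
    have e := conj_eq_cm F hk hz hno (std_symm F h) b
    rw [hb, inv_inv, map_mul, Subgroup.coe_mul, hz] at e
    calc g * (F.φ b : G) * g⁻¹ * z * (g * (F.φ b : G) * g⁻¹)⁻¹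
        = g * ((F.φ b : G) * (g⁻¹ * z * g) * (F.φ b : G)⁻¹) * g⁻¹ := by group
      _ = g * ((F.φ w : G) * z * (g⁻¹ * z * g)) * g⁻¹ := by rw [e]
      _ = g * (F.φ w : G) * g⁻¹ * (g * z * g⁻¹) * z := by group
      _ = (F.φ v : G) * X * z := by rw [hw, ← hX]; group
      _ = X * z * (F.φ v : G) := by
        rw [mul_assoc, hxz, ← mul_assoc, hN_z _ ⟨v, hv, rfl⟩, mul_assoc, hN_x _ ⟨v, hv, rfl⟩,
          ← mul_assoc, ← hxz]
  have orbZ : ∀ r, InQ F (g⁻¹ * r * g) →
      r * z * r⁻¹ = z ∨ ∃ t ∈ N, t ≠ 1 ∧ r * z * r⁻¹ = p t := by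
    rintro r ⟨b, hb⟩
    have hr : r = g * (F.φ b : G) * g⁻¹ := by rw [hb]; group
    have e := conj_eq_cm F hk hz hno (std_symm F h) b
    rw [inv_inv] at e
    have e' : r * z * r⁻¹ = g * (F.φ (cm u' b) : G) * g⁻¹ * z := by
      calc r * z * r⁻¹ = g * ((F.φ b : G) * (g⁻¹ * z * g) * (F.φ b : G)⁻¹) * g⁻¹ := by
            rw [hr]; group
        _ = _ := by rw [e]; group
    rcases P1 b with c | ⟨c, c1⟩
    · left; rw [e', c, map_one]; simp
    · obtain ⟨v, hv⟩ := (mem_meet F).1 c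
      rw [inv_inv] at hv
      have hvm : v ∈ meet F g := by
        rw [mem_meet, hv]
        exact ⟨cm u' b * E7.zc, by group⟩
      refine Or.inr ⟨_, ⟨v, hvm, rfl⟩, fun h1 => c1 (F.inj ?_), ?_⟩
      · rw [map_one]
        apply Subtype.ext
        show _ = (1 : G)
        rw [h1] at hv
        calc (F.φ (cm u' b * E7.zc) : G) = g⁻¹ * (g * (F.φ (cm u' b * E7.zc) : G) * g⁻¹) * g := by group
          _ = 1 := by rw [← hv]; group
      · rw [e']
        have : g * (F.φ (cm u' b) : G) * g⁻¹ = (F.φ v : G) * X := by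
          rw [hv, map_mul, Subgroup.coe_mul, hz, hX]
          calc g * (F.φ (cm u' b) : G) * g⁻¹ = g * ((F.φ (cm u' b) : G) * (z * z)) * g⁻¹ := by
                rw [hzzG, mul_one]
            _ = _ := by group
        rw [this, hN_x _ ⟨v, hvm, rfl⟩, mul_assoc, hN_z _ ⟨v, hvm, rfl⟩, ← mul_assoc]
  have pne : ∀ t ∈ N, t ≠ 1 → p t ≠ X ∧ p t ≠ z := by
    intro t ht ht1
    constructor
    · intro e
      apply hzN
      have : z * t = 1 := by
        have := congrArg (X * ·) e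
        simpa [p, ← mul_assoc, hxx] using this
      rw [eq_inv_of_mul_eq_one_left this]
      exact hN_inv t ht
    · intro e
      have : X * t = 1 := by
        have h2 : X * z * t = z * (X * t) := by rw [hxz, mul_assoc]
        rw [show p t = X * z * t from rfl, h2] at e
        exact mul_eq_left.1 e
      have hXQ : InQ F X := by
        rw [eq_inv_of_mul_eq_one_left this]
        exact hN_Q _ (hN_inv t ht)
      have := hno g hXQ
      rw [← hX] at this
      rw [this] at hxz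
      exact absurd (h.fwd.symm.trans (hX ▸ this)) fun e => by
        have e' : F.el u 8 = F.el E7.zc 0 := by rw [F.el_zero]; exact Subtype.ext (e.trans hz.symm)
        exact absurd (F.el_inj e').2 (by decide +kernel)
  -- moving along the radical
  have qstep : ∀ q, InQ F q → ∀ a ∈ N, a ≠ 1 → q * X * q⁻¹ = p a →
      q * p a * q⁻¹ = X ∧ ∀ b ∈ N, b ≠ 1 → b ≠ a → q * p b * q⁻¹ = p (a * b) := by
    intro q hq a ha ha1 hqa
    obtain ⟨v, rfl⟩ := hq
    have hqz : (F.φ v : G) * z * (F.φ v : G)⁻¹ = z := mul_inv_eq_iff_eq_mul.2 (commute_phi F v)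
    have key : ∀ b ∈ N, b ≠ 1 → ((F.φ v : G) * p b * (F.φ v : G)⁻¹ = X * (a * b) ∨
        (F.φ v : G) * p b * (F.φ v : G)⁻¹ = X * z * (a * b)) := by
      intro b hb _
      obtain ⟨w, hw, rfl⟩ := hb
      have e : (F.φ v : G) * p (F.φ w : G) * (F.φ v : G)⁻¹ =
          X * z * a * z * (F.φ (v * w * v⁻¹) : G) := by
        show (F.φ v : G) * (X * z * (F.φ w : G)) * (F.φ v : G)⁻¹ = _
        calc (F.φ v : G) * (X * z * (F.φ w : G)) * (F.φ v : G)⁻¹
            = (F.φ v : G) * X * (F.φ v : G)⁻¹ * ((F.φ v : G) * z * (F.φ v : G)⁻¹) *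
                ((F.φ v : G) * (F.φ w : G) * (F.φ v : G)⁻¹) := by group
          _ = _ := by rw [hqa, hqz, map_mul, map_mul, map_inv, Subgroup.coe_mul, Subgroup.coe_mul,
            Subgroup.coe_inv]
      rw [e, E7.conj_eq]
      cases hf : form w.v v.v
      · left
        rw [Bool.xor_false]
        calc X * z * a * z * (F.φ w : G) = X * z * (a * z) * (F.φ w : G) := by simp only [mul_assoc]
          _ = X * (z * z) * a * (F.φ w : G) := by rw [hN_z a ha]; simp only [mul_assoc]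
          _ = _ := by rw [hzzG, mul_one, mul_assoc]
      · right
        rw [show (⟨w.v, Bool.xor w.c true⟩ : E7) = E7.zc * w by
          rw [← (E7.zc_commute w).eq, E7.mul_zc, Bool.xor_true], map_mul, Subgroup.coe_mul, hz]
        calc X * z * a * z * (z * (F.φ w : G)) = X * z * a * (z * z) * (F.φ w : G) := by
              simp only [mul_assoc]
          _ = _ := by rw [hzzG, mul_one, mul_assoc]
    refine ⟨?_, fun b hb hb1 hba => ?_⟩
    · rcases key a ha ha1 with e | e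
      · rw [e, hN_sq a ha, mul_one]
      · rw [hN_sq a ha, mul_one] at e
        obtain ⟨v', hv'⟩ := surX a ha ha1
        exfalso
        have hconj : (F.φ v : G) * v' * X * ((F.φ v : G) * v')⁻¹ = X * z := by
          rw [← e, ← hv'.2]; group
        obtain ⟨w, hw⟩ := hv'.1
        rcases orbX ((F.φ v : G) * v') ⟨v * w, by rw [map_mul, Subgroup.coe_mul, hw]⟩ with r | ⟨t, _, ht1, r⟩
        · rw [hconj] at r
          exact absurd (mul_eq_left.1 r) fun e1 => hzN (e1 ▸ hN_1)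
        · rw [hconj] at r
          exact ht1 (mul_eq_left.1 r.symm)
    · have hab1 : a * b ≠ 1 := fun e => hba (by
        rw [eq_inv_of_mul_eq_one_right e, inv_eq_of_mul_eq_one_right (hN_sq a ha)])
      rcases key b hb hb1 with e | e
      · exfalso
        obtain ⟨v', hv'⟩ := surX b hb hb1
        have hconj : (F.φ v : G) * v' * X * ((F.φ v : G) * v')⁻¹ = X * (a * b) := by
          rw [← e, ← hv'.2]; group
        obtain ⟨w, hw⟩ := hv'.1
        rcases orbX ((F.φ v : G) * v') ⟨v * w, by rw [map_mul, Subgroup.coe_mul, hw]⟩ with r | ⟨t, ht, _, r⟩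
        · rw [hconj] at r
          exact hab1 (mul_eq_left.1 r)
        · rw [hconj] at r
          apply hzN
          have e2 : a * b = z * t := mul_left_cancel (r.trans (mul_assoc _ _ _))
          have e3 : z = a * b * t⁻¹ := by rw [e2, mul_inv_cancel_right]
          rw [e3]
          exact hN_mul _ (hN_mul _ ha _ hb) _ (hN_inv t ht)
      · exact e
  -- moving along the conjugate of the radical
  have rstep : ∀ r, InQ F (g⁻¹ * r * g) → ∀ a ∈ N, a ≠ 1 → r * z * r⁻¹ = p a →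
      r * p a * r⁻¹ = z ∧ ∀ b ∈ N, b ≠ 1 → b ≠ a → r * p b * r⁻¹ = p (a * b) := by
    intro r hr a ha ha1 hra
    obtain ⟨v, hv⟩ := hr
    have hrx : r * X * r⁻¹ = X := by
      rw [hX]
      calc r * (g * z * g⁻¹) * r⁻¹ = g * ((g⁻¹ * r * g) * z * (g⁻¹ * r * g)⁻¹) * g⁻¹ := by group
        _ = g * z * g⁻¹ := by
          rw [← hv, mul_inv_eq_iff_eq_mul.2 (commute_phi F v)]
    have hcj : ∀ b ∈ N, r * b * r⁻¹ = b ∨ r * b * r⁻¹ = X * b := by
      rintro b ⟨w, hw, rfl⟩
      obtain ⟨w', hw'⟩ := (mem_meet F).1 hw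
      have e : r * (F.φ w : G) * r⁻¹ = g * (F.φ (v * w' * v⁻¹) : G) * g⁻¹ := by
        rw [map_mul, map_mul, map_inv, Subgroup.coe_mul, Subgroup.coe_mul, Subgroup.coe_inv, hv,
          hw']
        group
      have e0 : g * (F.φ w' : G) * g⁻¹ = (F.φ w : G) := by rw [hw']; group
      rw [e, E7.conj_eq]
      cases hf : form w'.v v.v
      · left
        rw [Bool.xor_false]
        exact e0
      · right
        rw [show (⟨w'.v, Bool.xor w'.c true⟩ : E7) = E7.zc * w' by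
          rw [← (E7.zc_commute w').eq, E7.mul_zc, Bool.xor_true], map_mul, Subgroup.coe_mul, hz,
          hX, ← e0]
        group
    have key : ∀ b ∈ N, r * p b * r⁻¹ = z * (a * b) ∨ r * p b * r⁻¹ = X * z * (a * b) := by
      intro b hb
      have e : r * p b * r⁻¹ = X * (X * z * a) * (r * b * r⁻¹) := by
        show r * (X * z * b) * r⁻¹ = _
        calc r * (X * z * b) * r⁻¹ = r * X * r⁻¹ * (r * z * r⁻¹) * (r * b * r⁻¹) := by group
          _ = _ := by rw [hrx, hra]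
      rcases hcj b hb with c | c
      · left
        rw [e, c]
        calc X * (X * z * a) * b = X * X * z * (a * b) := by simp only [mul_assoc]
          _ = _ := by rw [hxx, one_mul]
      · right
        rw [e, c]
        calc X * (X * z * a) * (X * b) = X * X * z * (a * X) * b := by simp only [mul_assoc]
          _ = z * (X * a) * b := by rw [hxx, one_mul, hN_x a ha]
          _ = z * X * (a * b) := by simp only [mul_assoc]
          _ = _ := by rw [hxz]
    refine ⟨?_, fun b hb hb1 hba => ?_⟩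
    · rcases key a ha with e | e
      · rw [e, hN_sq a ha, mul_one]
      · rw [hN_sq a ha, mul_one] at e
        obtain ⟨r', hr', hr'a⟩ := surZ a ha ha1
        exfalso
        have hconj : r * r' * z * (r * r')⁻¹ = X * z := by
          rw [← e, ← hr'a]; group
        obtain ⟨w, hw⟩ := hr'
        rcases orbZ (r * r') ⟨v * w, by rw [map_mul, Subgroup.coe_mul, hv, hw]; group⟩ with
          c | ⟨t, _, ht1, c⟩
        · rw [hconj] at c
          have hX1 : X = 1 := mul_eq_right.1 c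
          have h0 := h.fwd
          rw [← hX, hX1] at h0
          have e' : F.el u 8 = F.el 1 0 := by rw [F.el_one]; exact Subtype.ext h0.symm
          exact absurd (F.el_inj e').2 (by decide +kernel)
        · rw [hconj] at c
          exact ht1 (mul_eq_left.1 c.symm)
    · have hab1 : a * b ≠ 1 := fun e => hba (by
        rw [eq_inv_of_mul_eq_one_right e, inv_eq_of_mul_eq_one_right (hN_sq a ha)])
      rcases key b hb with e | e
      · exfalso
        obtain ⟨r', hr', hr'b⟩ := surZ b hb hb1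
        have hconj : r * r' * z * (r * r')⁻¹ = z * (a * b) := by
          rw [← e, ← hr'b]; group
        obtain ⟨w, hw⟩ := hr'
        rcases orbZ (r * r') ⟨v * w, by rw [map_mul, Subgroup.coe_mul, hv, hw]; group⟩ with
          c | ⟨t, ht, _, c⟩
        · rw [hconj] at c
          exact hab1 (mul_eq_left.1 c)
        · rw [hconj, show p t = X * z * t from rfl, hxz, mul_assoc] at c
          have e2 : a * b = X * t := mul_left_cancel c
          have hXQ : InQ F X := by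
            have e3 : X = a * b * t⁻¹ := by rw [e2, mul_inv_cancel_right]
            rw [e3]
            exact hN_Q _ (hN_mul _ (hN_mul _ ha _ hb) _ (hN_inv t ht))
          obtain ⟨w0, hw0⟩ := hXQ
          have e' : F.el u 8 = F.el w0 0 := by
            rw [F.el_zero]; exact Subtype.ext (h.fwd.symm.trans hw0.symm)
          exact absurd (F.el_inj e').2 (by decide +kernel)
      · exact e
  -- three of them
  obtain ⟨a1, ha1, a2, ha2, n1, n2, n12⟩ :
      ∃ a ∈ N, ∃ b ∈ N, a ≠ 1 ∧ b ≠ 1 ∧ a ≠ b := by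
    have : 1 < ((meet F g).erase 1).card := by
      rw [Finset.card_erase_of_mem (one_mem_meet F), hT]; omega
    obtain ⟨a, ha, b, hb, hab⟩ := Finset.one_lt_card.1 this
    obtain ⟨ha1, ha⟩ := Finset.mem_erase.1 ha
    obtain ⟨hb1, hb⟩ := Finset.mem_erase.1 hb
    refine ⟨_, ⟨a, ha, rfl⟩, _, ⟨b, hb, rfl⟩, fun e => ha1 (F.inj ?_), fun e => hb1 (F.inj ?_),
      fun e => hab (F.inj (Subtype.ext e))⟩
    · rw [map_one]; exact Subtype.ext e
    · rw [map_one]; exact Subtype.ext e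
  have hcom : a1 * a2 = a2 * a1 := by
    have := hN_sq _ (hN_mul _ ha1 _ ha2)
    calc a1 * a2 = (a1 * a2)⁻¹ := eq_inv_of_mul_eq_one_left this
      _ = a2⁻¹ * a1⁻¹ := mul_inv_rev _ _
      _ = a2 * a1 := by
        rw [inv_eq_of_mul_eq_one_right (hN_sq a1 ha1), inv_eq_of_mul_eq_one_right (hN_sq a2 ha2)]
  set a3 := a1 * a2 with ha3
  have ha3' : a3 ∈ N := hN_mul _ ha1 _ ha2
  have n3 : a3 ≠ 1 := fun e => n12 (by
    rw [eq_inv_of_mul_eq_one_left e, inv_eq_of_mul_eq_one_right (hN_sq a2 ha2)])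
  have n13 : a3 ≠ a1 := fun e => n2 (mul_eq_left.1 e)
  have n23 : a3 ≠ a2 := fun e => n1 (mul_eq_right.1 e)
  have p13 : a1 * a3 = a2 := by rw [ha3, ← mul_assoc, hN_sq a1 ha1, one_mul]
  have p23 : a2 * a3 = a1 := by
    show a2 * (a1 * a2) = a1
    rw [show a1 * a2 = a2 * a1 from hcom, ← mul_assoc, hN_sq a2 ha2, one_mul]
  obtain ⟨q1, hq1, hq1x⟩ := surX a1 ha1 n1
  obtain ⟨r1, hr1, hr1z⟩ := surZ a1 ha1 n1
  obtain ⟨r2, hr2, hr2z⟩ := surZ a2 ha2 n2
  obtain ⟨Q1, Q1'⟩ := qstep q1 hq1 a1 ha1 n1 hq1x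
  obtain ⟨R1, R1'⟩ := rstep r1 hr1 a1 ha1 n1 hr1z
  obtain ⟨R2, R2'⟩ := rstep r2 hr2 a2 ha2 n2 hr2z
  have q1_2 : q1 * p a2 * q1⁻¹ = p a3 := Q1' a2 ha2 n2 (Ne.symm n12)
  have q1_3 : q1 * p a3 * q1⁻¹ = p a2 := by rw [Q1' a3 ha3' n3 n13, p13]
  have r1_2 : r1 * p a2 * r1⁻¹ = p a3 := R1' a2 ha2 n2 (Ne.symm n12)
  have r1_3 : r1 * p a3 * r1⁻¹ = p a2 := by rw [R1' a3 ha3' n3 n13, p13]
  have r2_1 : r2 * p a1 * r2⁻¹ = p a3 := by rw [R2' a1 ha1 n1 n12, ← hcom]
  have r2_3 : r2 * p a3 * r2⁻¹ = p a1 := by rw [R2' a3 ha3' n3 n23, p23]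
  have q1z : q1 * z * q1⁻¹ = z := by
    obtain ⟨v, rfl⟩ := hq1
    exact mul_inv_eq_iff_eq_mul.2 (commute_phi F v)
  have rx : ∀ r, InQ F (g⁻¹ * r * g) → r * X * r⁻¹ = X := by
    rintro r ⟨v, hv⟩
    rw [hX]
    calc r * (g * z * g⁻¹) * r⁻¹ = g * ((g⁻¹ * r * g) * z * (g⁻¹ * r * g)⁻¹) * g⁻¹ := by group
      _ = g * z * g⁻¹ := by rw [← hv, mul_inv_eq_iff_eq_mul.2 (commute_phi F v)]
  have r1x := rx r1 hr1
  have r2x := rx r2 hr2
  set e := q1 * r2 * q1 * r1 * r2 * q1 with he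
  have six : ∀ y, e * y * e⁻¹ =
      q1 * (r2 * (q1 * (r1 * (r2 * (q1 * y * q1⁻¹) * r2⁻¹) * r1⁻¹) * q1⁻¹) * r2⁻¹) * q1⁻¹ := by
    intro y; rw [he]; group
  have ez : e * z * e⁻¹ = z := by rw [six, q1z, hr2z, r1_2, q1_3, R2, q1z]
  have ex : e * X * e⁻¹ = X := by rw [six, hq1x, r2_1, r1_3, q1_2, r2_3, Q1]
  have e1 : e * p a1 * e⁻¹ = p a2 := by rw [six, Q1, r2x, r1x, hq1x, r2_1, q1_3]
  have e2 : e * p a2 * e⁻¹ = p a3 := by rw [six, q1_2, r2_3, R1, q1z, hr2z, q1_2]
  have e3 : e * p a3 * e⁻¹ = p a1 := by rw [six, q1_3, R2, hr1z, Q1, r2x, hq1x]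
  have hord : e ^ 16 = 1 := by
    have hec : e ∈ centralizer ({z} : Set G) :=
      mem_centralizer_singleton_iff.2 (mul_inv_eq_iff_eq_mul.1 ez)
    obtain ⟨w, l, hwl⟩ := F.el_surj ⟨e, hec⟩
    have hl : mulL l 8 = mulL 8 l := by
      apply el_commute_class F (a := w) (u := u)
      rw [← hwl]
      apply Subtype.ext
      show e * (F.el u 8 : G) = (F.el u 8 : G) * e
      rw [← h.fwd, ← hX]
      exact mul_inv_eq_iff_eq_mul.1 ex
    have h4 : ∃ b, (F.φ b : G) = e ^ 4 := by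
      obtain ⟨b, hb⟩ : ∃ b, F.el w l * F.el w l * (F.el w l * F.el w l) = F.el b 0 :=
        ⟨_, by rw [F.el_sq, F.el_mul, cent8_pow l hl]⟩
      refine ⟨b, ?_⟩
      rw [← F.el_zero, ← hb]
      simp only [Subgroup.coe_mul]
      rw [← hwl]
      simp only [pow_succ, pow_zero, one_mul, mul_assoc]
    obtain ⟨b, hb⟩ := h4
    have hb4 : b ^ 4 = 1 := by
      rw [show b ^ 4 = b * b * (b * b) by simp only [pow_succ, pow_zero, one_mul, mul_assoc],
        E7.sq_eq b, E7.sq_eq]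
      cases quad b.v <;> decide +kernel
    calc e ^ 16 = (e ^ 4) ^ 4 := by rw [← pow_mul]
      _ = 1 := by rw [← hb, ← SubgroupClass.coe_pow, ← map_pow, hb4, map_one]; rfl
  have cyc : ∀ k : ℕ, e ^ (3 * k) * p a1 * (e ^ (3 * k))⁻¹ = p a1 := by
    intro k
    induction k with
    | zero => simp
    | succ k ih =>
      calc e ^ (3 * (k + 1)) * p a1 * (e ^ (3 * (k + 1)))⁻¹
          = e ^ (3 * k) * (e * (e * (e * p a1 * e⁻¹) * e⁻¹) * e⁻¹) * (e ^ (3 * k))⁻¹ := by
            rw [show 3 * (k + 1) = 3 * k + 1 + 1 + 1 by ring, pow_succ, pow_succ, pow_succ]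
            group
        _ = _ := by rw [e1, e2, e3, ih]
  have hfin : p a2 = p a1 := by
    calc p a2 = e * p a1 * e⁻¹ := e1.symm
      _ = e * (e ^ 15 * p a1 * (e ^ 15)⁻¹) * e⁻¹ := by
        rw [show (15 : ℕ) = 3 * 5 from rfl, cyc 5]
      _ = e ^ 16 * p a1 * (e ^ 16)⁻¹ := by group
      _ = p a1 := by rw [hord]; simp
  exact n12 (mul_left_cancel hfin).symm

/-- A conjugate in the centraliser gives one in the radical. -/
theorem exists_conj_inQ (hz1 : z ≠ 1)
    (hne : ∃ g : G, g * z * g⁻¹ * z = z * (g * z * g⁻¹) ∧ g * z * g⁻¹ ≠ z) :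
    ∃ g : G, InQ F (g * z * g⁻¹) ∧ g * z * g⁻¹ ≠ z := by
  have hzzG : z * z = 1 := by
    rw [← hz, ← Subgroup.coe_mul, ← map_mul, show E7.zc * E7.zc = 1 by decide +kernel, map_one]
    rfl
  by_contra hcon
  push Not at hcon
  obtain ⟨g, hgC, hgz⟩ := hne
  obtain ⟨-, hcase⟩ := fusion F hz hzzG hz1 hgC hgz
  rcases hcase with ⟨hi, -⟩ | ⟨-, ho, ho', heq, hval⟩
  · exact hgz (hcon g hi)
  have sq : ∀ h : G, h * z * h⁻¹ * (h * z * h⁻¹) = 1 := fun h => by
    rw [show h * z * h⁻¹ * (h * z * h⁻¹) = h * (z * z) * h⁻¹ by group, hzzG]; group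
  have hg'C : g⁻¹ * z * g * z = z * (g⁻¹ * z * g) := by
    have := congrArg (fun t => g⁻¹ * t * g) hgC
    simp only [mul_assoc, inv_mul_cancel_left, inv_mul_cancel, mul_one] at this ⊢
    exact this.symm
  obtain ⟨c, u, hcu⟩ := exists_move F hgC (sq g) ho
  have sq' := sq g⁻¹
  rw [inv_inv] at sq'
  obtain ⟨c', u', hcu'⟩ := exists_move F hg'C sq' ho'
  have hcz : ∀ d : centralizer ({z} : Set G), (d : G)⁻¹ * z * (d : G) = z := fun d => by
    rw [mul_assoc, ← z_commute d, inv_mul_cancel_left]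
  have hcz' : ∀ d : centralizer ({z} : Set G), (d : G) * z * (d : G)⁻¹ = z := fun d =>
    mul_inv_eq_iff_eq_mul.2 (z_commute d)
  have hstd : Std F ((c : G) * g * (c' : G)⁻¹) u u' := by
    constructor
    · rw [← hcu]
      calc (c : G) * g * (c' : G)⁻¹ * z * ((c : G) * g * (c' : G)⁻¹)⁻¹
          = (c : G) * (g * ((c' : G)⁻¹ * z * (c' : G)) * g⁻¹) * (c : G)⁻¹ := by group
        _ = _ := by rw [hcz]
    · rw [← hcu']
      calc ((c : G) * g * (c' : G)⁻¹)⁻¹ * z * ((c : G) * g * (c' : G)⁻¹)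
          = (c' : G) * (g⁻¹ * ((c : G)⁻¹ * z * (c : G)) * g) * (c' : G)⁻¹ := by group
        _ = _ := by rw [hcz]
  have hu := square_cond F htw hstd.fwd (sq _)
  have hu' : u' * act F.k 8 u' = 1 := by
    refine square_cond F htw hstd.bwd ?_
    have := sq ((c : G) * g * (c' : G)⁻¹)⁻¹
    rwa [inv_inv] at this
  rw [hk] at hu hu'
  have m1 := (rootCount_move c (g * z * g⁻¹)).1
  have m2 := (rootCount_move c' (g⁻¹ * z * g)).1
  rw [hcu] at m1
  rw [hcu', heq] at m2
  have hno : ∀ h : G, InQ F (h * z * h⁻¹) → h * z * h⁻¹ = z := hcon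
  rcases hval with hv | hv
  · exact not_large F hk htw hz hno hstd hu hu'
      (count_of_rootCount F hk htw hz (m1.trans hv))
      (count_of_rootCount F hk htw hz (m2.trans hv))
  · exact not_small F hk hz hno hstd hu hu'
      (count_of_rootCount F hk htw hz (m1.trans hv))
      (count_of_rootCount F hk htw hz (m2.trans hv))

end CfsgLib.HeldCentre
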