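import Cfsg.Agent.HeldCentre.Model
import Cfsg.Agent.HeldCentre.Fusion

/-!
Tables for the dichotomy of a fused side: the candidates for the images of three generators of the
intersection of the two centralisers.
-/

set_option autoImplicit false
set_option maxRecDepth 8000

namespace CfsgLib.HeldCentre

open Subgroup

/-! ### Data -/

/-- The centre. -/
def pZ : P := dec 64

/-- The standard involution of the side. -/
def pA : P := dec 1

/-- Three generators of the intersection of the centralisers and the two involutions. -/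
def gens : List P := [dec 1280, dec 230, dec 2961, pZ, pA]

/-- The images. -/
def imgs (h k : P) : List P := [dec 1280, h, k, pA, pZ]

/-- The generators with a hole at the third place. -/
def gens1 : List P := [dec 1280, dec 230, pone, pZ, pA]

/-- Membership in the intersection of the two centralisers. -/
def inD (p : P) : Bool := decide (pm p pA = pm pA p)

/-- The order of a pair, up to six. -/
def ordP (x : P) : ℕ :=
  if x = pone then 1
  else if pm x x = pone then 2
  else if pm (pm x x) x = pone then 3
  else if pm (pm x x) (pm x x) = pone then 4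
  else if pm (pm (pm x x) x) (pm (pm x x) x) = pone then 6
  else 0

/-- The order of a word. -/
def ordW (im : List P) (w : List ℕ) : ℕ := ordP (evalW im w)

/-- Comparison of the orders of words. -/
def sameOrd (gs im : List P) (ws : List (List ℕ)) : Bool :=
  ws.all fun w => ordW gs w == ordW im w

/-- The words of the first step. -/
def words1 : List (List ℕ) := [[1], [0, 1], [0, 0, 1], [1, 3], [1, 4], [0, 1, 0, 0, 1], [0, 1, 3], [0, 1, 4]]

/-- The words of the second step. -/
def words2 : List (List ℕ) :=
  [[2], [0, 2], [0, 0, 2], [2, 3], [2, 4], [0, 2, 0, 0, 2], [0, 2, 3], [0, 2, 4],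
    [1, 2], [1, 2, 2, 2], [0, 1, 2], [1, 0, 2]]

/-- Conjugators covering the elements of order 3. -/
def threeConj : List ℕ := [0, 2, 4, 6, 16, 18, 20, 22, 32, 34, 36, 38, 48, 50, 52, 54, 128, 130, 132, 134, 144, 146, 148, 150, 160, 162, 164, 166, 176, 178, 180, 182, 256, 258, 260, 262, 272, 274, 276, 278, 288, 290, 292, 294, 304, 306, 308, 310, 384, 386, 388, 390, 400, 402, 404, 406, 416, 418, 420, 422, 432, 434, 436, 438, 512, 514, 516, 518, 528, 530, 532, 534, 544, 546, 548, 550, 560, 562, 564, 566, 640, 642, 644, 646, 656, 658, 660, 662, 672, 674, 676, 678, 688, 690, 692, 694, 768, 770, 772, 774, 784, 786, 788, 790, 800, 802, 804, 806, 816, 818, 820, 822, 896, 898, 900, 902, 912, 914, 916, 918, 928, 930, 932, 934, 944, 946, 948, 950]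

/-- The centraliser of the generator of order 3. -/
def centT : List ℕ := [0, 1, 64, 65, 1280, 1281, 1344, 1345, 2048, 2049, 2112, 2113]

/-- The images of the second generator. -/
def hList : List ℕ := [150, 165, 230, 245]

/-- The images of the third generator. -/
def kList (h : ℕ) : List ℕ :=
  if h = 150 ∨ h = 230 then [2848, 2849, 2912, 2913, 2960, 2961, 3024, 3025]
  else [432, 433, 496, 497, 800, 801, 864, 865]

/-- The classes fixing the vector of the standard involution. -/
def fixA : List (Fin 168) := [0, 1, 2, 3, 4, 5, 6, 7, 8, 9, 10, 11, 12, 13, 14, 15, 16, 17, 18, 19, 20, 21, 22, 23]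

/-- Words for the elements of the side. -/
def sideWords : List (List ℕ) :=
  [ [],
    [4],
    [2, 1, 0, 2, 0, 3],
    [1, 1, 2, 1, 0, 2, 0],
    [0, 2, 1, 0, 2, 3],
    [2, 0, 2, 1, 0, 3],
    [1, 0, 2, 0, 2],
    [0, 2, 0, 2, 1, 3],
    [3],
    [1, 1],
    [2, 1, 0, 2, 0],
    [2, 1, 0, 2, 0, 4],
    [0, 2, 1, 0, 2],
    [2, 0, 2, 1, 0],
    [0, 2, 0, 2, 1, 4],
    [0, 2, 0, 2, 1] ]

/-- Elements outside without square roots. -/
def noRoots : List ℕ := [290, 1078]

/-- An element that is not fused to the involution. -/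
def dead (x : P) : Bool :=
  (decide (x.2 = 0) && !side true x.1.v && !side false x.1.v) ||
    (decide (x.2 ≠ 0) && noRoots.any fun n => decide (x = dec n))

/-- The chains. -/
def chains : List (ℕ × List (List ℕ × Bool × ℕ)) :=
  [ (71, [([0, 2, 0, 2, 1], true, 0)]),
    (71, [([0, 2, 0, 2, 1], true, 15882), ([0, 1, 2, 4], false, 0)]),
    (71, [([0, 2, 0, 2, 1], true, 4100), ([0, 1, 2, 3], true, 0)]),
    (71, [([0, 2, 0, 2, 1], true, 4108), ([0, 1, 2], true, 0)]),
    (2, [([1, 2, 1, 2], false, 0)]) ]

/-- A chain of fused elements ending in one that is not fused. -/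
def runKill (gs im : List P) : P → List (List ℕ × Bool × ℕ) → Bool
  | x, [] => dead x
  | x, (w, d, c) :: r => decide (evalW (if d then gs else im) w = x) &&
      runKill gs im (cjP (dec c) (evalW (if d then im else gs) w)) r

/-- The images normalise the side. -/
def fixesSide (im : List P) : Bool :=
  sideWords.all fun w => decide ((evalW im w).2 = 0) && side true (evalW im w).1.v

/-- Two relations of the generators. -/
def relPairs : List (List ℕ × List ℕ) := [([1, 2, 2, 1, 2, 2], [3]), ([1, 1, 1, 2, 2, 1, 2, 2], [4])]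

/-- A relation of the generators failing for the images. -/
def relFails (im : List P) : Bool :=
  relPairs.any fun p => decide (evalW gens p.1 = evalW gens p.2) &&
    decide (evalW im p.1 ≠ evalW im p.2)

/-- A candidate is the exceptional one, normalises the side, or is absurd. -/
def resolved (h k : ℕ) : Bool :=
  (h == 165 && k == 433) || fixesSide (imgs (dec h) (dec k)) || relFails (imgs (dec h) (dec k)) ||
    chains.any fun c => side true (dec c.1).1.v && decide ((dec c.1).2 = 0) &&
      decide (dec c.1 ≠ pone) && runKill gens (imgs (dec h) (dec k)) (dec c.1) c.2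

/-! ### Tables -/

theorem threeConj_spec : ∀ c ∈ threeConj, inD (dec c) = true := by decide +kernel

theorem centT_spec : ∀ c ∈ centT, inD (dec c) = true ∧ cjP (dec c) (dec 1280) = dec 1280 := by
  decide +kernel

theorem gens_inD : ∀ i < 5, inD (gens.getD i pone) = true := by decide +kernel

theorem fixA_classes : ∀ (v : Fin 64) (c : Bool) (l : Fin 168), l ∉ fixA →
    inD ((⟨v, c⟩ : E7), l) = false := by
  intro v c l hl
  have h : ∀ l : Fin 168, l ∉ fixA → actV 0 l 1 ≠ 1 := by decide +kernel
  simp only [inD, decide_eq_false_iff_not]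
  intro e
  have e' := congrArg (fun p : P => p.1.v) e
  simp only [pm, show pA = ((⟨1, false⟩ : E7), (0 : Fin 168)) by decide +kernel, act_one,
    E7.mul_def] at e'
  refine h l hl ?_
  have h2 := congrArg (fun x => vadd v x) e'
  simp only [act, ← vadd_assoc, vadd_self, zero_vadd] at h2
  rwa [vadd_comm v 1, vadd_assoc, vadd_self, vadd_zero] at h2

/-- The first step on one class. -/
def threeOK (l : Fin 168) : Bool :=
  (List.finRange 64).all fun v => [false, true].all fun c =>
    !inD ((⟨v, c⟩ : E7), l) || !(ordW [((⟨v, c⟩ : E7), l)] [0] == 3) ||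
      threeConj.any fun d => decide (cjP (pinv (dec d)) (dec 1280) = ((⟨v, c⟩ : E7), l))

/-- The second step on one class. -/
def oneOK (l : Fin 168) : Bool :=
  (List.finRange 64).all fun v => [false, true].all fun c =>
    !inD ((⟨v, c⟩ : E7), l) || !sameOrd gens1 [dec 1280, ((⟨v, c⟩ : E7), l), pone, pA, pZ] words1 ||
      centT.any fun d => hList.any fun h => decide (cjP (dec d) ((⟨v, c⟩ : E7), l) = dec h)

/-- The third step on one class. -/
def twoOK (h : ℕ) (l : Fin 168) : Bool :=
  (List.finRange 64).all fun v => [false, true].all fun c =>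
    !inD ((⟨v, c⟩ : E7), l) || !sameOrd gens (imgs (dec h) ((⟨v, c⟩ : E7), l)) words2 ||
      centT.any fun d => decide (cjP (dec d) (dec h) = dec h) &&
        (kList h).any fun k => decide (cjP (dec d) ((⟨v, c⟩ : E7), l) = dec k)

theorem threeOK_all : fixA.all threeOK = true := by decide +kernel

theorem oneOK_all : fixA.all oneOK = true := by decide +kernel

theorem all_of_thirds {f : Fin 168 → Bool} (h1 : (fixA.take 8).all f = true)
    (h2 : ((fixA.drop 8).take 8).all f = true) (h3 : (fixA.drop 16).all f = true) :
    fixA.all f = true := by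
  rw [← List.take_append_drop 8 fixA, List.all_append, h1, Bool.true_and,
    ← List.take_append_drop 8 (fixA.drop 8), List.all_append, h2, Bool.true_and, List.drop_drop]
  exact h3

theorem twoOK_150 : fixA.all (twoOK 150) = true :=
  all_of_thirds (by decide +kernel) (by decide +kernel) (by decide +kernel)

theorem twoOK_165 : fixA.all (twoOK 165) = true :=
  all_of_thirds (by decide +kernel) (by decide +kernel) (by decide +kernel)

theorem twoOK_230 : fixA.all (twoOK 230) = true :=
  all_of_thirds (by decide +kernel) (by decide +kernel) (by decide +kernel)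

theorem twoOK_245 : fixA.all (twoOK 245) = true :=
  all_of_thirds (by decide +kernel) (by decide +kernel) (by decide +kernel)

theorem of_all {f : Fin 168 → Bool} (hf : fixA.all f = true) {l : Fin 168} (hl : l ∈ fixA) :
    f l = true :=
  List.all_eq_true.1 hf l hl

theorem mem_fixA {v : Fin 64} {c : Bool} {l : Fin 168}
    (h : inD ((⟨v, c⟩ : E7), l) = true) : l ∈ fixA := by
  by_contra hl
  rw [fixA_classes v c l hl] at h
  exact Bool.noConfusion h

theorem mem_bool : ∀ c : Bool, c ∈ [false, true] := by decide

theorem step_three (l : Fin 168) (v : Fin 64) (c : Bool) (hD : inD (⟨v, c⟩, l) = true)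
    (h3 : ordW [(⟨v, c⟩, l)] [0] = 3) :
    ∃ d ∈ threeConj, cjP (pinv (dec d)) (dec 1280) = (⟨v, c⟩, l) := by
  have h := List.all_eq_true.1 (List.all_eq_true.1 (of_all threeOK_all (mem_fixA hD)) v
    (List.mem_finRange v)) c (mem_bool c)
  simpa [hD, h3] using h

theorem step_one (l : Fin 168) (v : Fin 64) (c : Bool) (hD : inD (⟨v, c⟩, l) = true)
    (hs : sameOrd gens1 [dec 1280, (⟨v, c⟩, l), pone, pA, pZ] words1 = true) :
    ∃ d ∈ centT, ∃ h ∈ hList, cjP (dec d) (⟨v, c⟩, l) = dec h := by
  have h := List.all_eq_true.1 (List.all_eq_true.1 (of_all oneOK_all (mem_fixA hD)) v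
    (List.mem_finRange v)) c (mem_bool c)
  simpa [hD, hs] using h

theorem step_two (h : ℕ) (hh : h ∈ hList) (l : Fin 168) (v : Fin 64) (c : Bool)
    (hD : inD (⟨v, c⟩, l) = true) (hs : sameOrd gens (imgs (dec h) (⟨v, c⟩, l)) words2 = true) :
    ∃ d ∈ centT, cjP (dec d) (dec h) = dec h ∧
      ∃ k ∈ kList h, cjP (dec d) (⟨v, c⟩, l) = dec k := by
  have hall : fixA.all (twoOK h) = true := by
    simp only [hList, List.mem_cons, List.not_mem_nil, or_false] at hh
    rcases hh with rfl | rfl | rfl | rfl
    exacts [twoOK_150, twoOK_165, twoOK_230, twoOK_245]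
  have := List.all_eq_true.1 (List.all_eq_true.1 (of_all hall (mem_fixA hD)) v
    (List.mem_finRange v)) c (mem_bool c)
  simpa [twoOK, hD, hs] using this

theorem resolved_all : ∀ h ∈ hList, ∀ k ∈ kList h, resolved h k = true := by decide +kernel

theorem sideWords_spec : ∀ (v : Fin 64) (c : Bool), side true v = true →
    ∃ w ∈ sideWords, evalW gens w = ((⟨v, c⟩ : E7), (0 : Fin 168)) := by
  decide +kernel

theorem noRoots_spec (l : Fin 168) (v : Fin 64) (c : Bool) (n : ℕ) (hn : n ∈ noRoots) :
    pm (⟨v, c⟩, l) (⟨v, c⟩, l) ≠ dec n := by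
  have key : ∀ n ∈ noRoots, ∀ l : Fin 168, mulL l l = (dec n).2 → ∀ (v : Fin 64) (c : Bool),
      pm (⟨v, c⟩, l) (⟨v, c⟩, l) ≠ dec n := by decide +kernel
  exact fun e => key n hn l (congrArg Prod.snd e) v c e

end CfsgLib.HeldCentre
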