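import Cfsg.Agent.HeldCentre.OpenData
import Cfsg.Agent.HeldCentre.Flip

/-!
The dichotomy for a fused side. An element exchanging the involution with a conjugate `a` in the
side normalises `C(z) ∩ C(a)`; up to this group there are 32 candidates for the images of three
generators, of which four normalise the side and one does not, the others being absurd.
-/

set_option autoImplicit false
set_option maxRecDepth 8000

namespace CfsgLib.HeldCentre

open Subgroup

/-! ### The group -/

variable {G : Type*} [Group G] [Finite G] {z : G} (F : Frame (centralizer ({z} : Set G)))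

/-- The element of a pair in the group. -/
def iotaG (χ : Fin 168 → Bool) (p : P) : G := (iota F χ p : centralizer ({z} : Set G))

/-- The element exchanges the involution with the standard one of the side and acts on the
generators by the exceptional images. -/
def OpenImages (χ : Fin 168 → Bool) (s : G) : Prop :=
  ∀ i < 5, s * iotaG F χ (gens.getD i pone) * s⁻¹ =
    iotaG F χ ((imgs (dec 165) (dec 433)).getD i pone)

/-- A fused side that is not closed. -/
def OpenSide : Prop := ∃ χ, IsSection F χ ∧ ∃ s : G, OpenImages F χ s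

variable {F} {χ : Fin 168 → Bool}

omit [Finite G] in
theorem iotaG_injective : Function.Injective (iotaG F χ) := fun _ _ e =>
  iota_injective (Subtype.ext e)

section

variable (hχ : IsSection F χ) (hk : F.k = 0)
include hχ

theorem iotaG_one : iotaG F χ pone = 1 := by
  rw [iotaG, iota_one hχ]
  rfl

theorem iotaG_inner (u : E7) : iotaG F χ (u, 0) = (F.φ u : G) := by rw [iotaG, iota_inner hχ]

include hk

theorem iotaG_mul (p q : P) : iotaG F χ (pm p q) = iotaG F χ p * iotaG F χ q := by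
  rw [iotaG, iota_mul hχ hk]
  rfl

theorem iotaG_cjP (c p : P) :
    iotaG F χ (cjP c p) = iotaG F χ c * iotaG F χ p * (iotaG F χ c)⁻¹ := by
  rw [iotaG, iota_cjP hχ hk]
  rfl

theorem iotaG_pinv (p : P) : iotaG F χ (pinv p) = (iotaG F χ p)⁻¹ := by
  rw [iotaG, iota_pinv hχ hk]
  rfl

variable {s : G} {gs im : List P}

theorem conj_evalW (hs : ∀ i, s * iotaG F χ (gs.getD i pone) * s⁻¹ = iotaG F χ (im.getD i pone)) :
    ∀ w, s * iotaG F χ (evalW gs w) * s⁻¹ = iotaG F χ (evalW im w)
  | [] => by simp [evalW, iotaG_one hχ]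
  | i :: w => by
    rw [evalW, evalW, iotaG_mul hχ hk, iotaG_mul hχ hk, ← conj_evalW hs w, ← hs i]
    group

theorem evalW_eq_iff (hs : ∀ i, s * iotaG F χ (gs.getD i pone) * s⁻¹ = iotaG F χ (im.getD i pone))
    (w w' : List ℕ) : evalW gs w = evalW gs w' ↔ evalW im w = evalW im w' := by
  constructor
  · intro e
    apply iotaG_injective (F := F) (χ := χ)
    rw [← conj_evalW hχ hk hs, ← conj_evalW hχ hk hs, e]
  · intro e
    apply iotaG_injective (F := F) (χ := χ)
    have := (conj_evalW hχ hk hs w).trans ((congrArg (iotaG F χ) e).trans (conj_evalW hχ hk hs w').symm)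
    exact mul_left_cancel (mul_right_cancel this)

theorem ordW_eq (hs : ∀ i, s * iotaG F χ (gs.getD i pone) * s⁻¹ = iotaG F χ (im.getD i pone))
    (w : List ℕ) : ordW gs w = ordW im w := by
  have h := conj_evalW hχ hk hs w
  unfold ordW
  generalize evalW gs w = x at h ⊢
  generalize evalW im w = y at h ⊢
  have hm : ∀ a b a' b', s * iotaG F χ a * s⁻¹ = iotaG F χ a' →
      s * iotaG F χ b * s⁻¹ = iotaG F χ b' →
      s * iotaG F χ (pm a b) * s⁻¹ = iotaG F χ (pm a' b') := fun a b a' b' ha hb => by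
    rw [iotaG_mul hχ hk, iotaG_mul hχ hk, ← ha, ← hb]
    group
  have h1 : ∀ a a', s * iotaG F χ a * s⁻¹ = iotaG F χ a' → (a = pone ↔ a' = pone) := by
    intro a a' ha
    constructor
    · rintro rfl
      apply iotaG_injective (F := F) (χ := χ)
      rw [← ha, iotaG_one hχ, mul_one, mul_inv_cancel]
    · rintro rfl
      apply iotaG_injective (F := F) (χ := χ)
      rw [iotaG_one hχ] at ha ⊢
      exact conj_eq_one_iff.1 ha
  have k2 := hm _ _ _ _ h h
  have k3 := hm _ _ _ _ k2 h
  simp only [ordP, h1 _ _ h, h1 _ _ k2, h1 _ _ k3, h1 _ _ (hm _ _ _ _ k2 k2),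
    h1 _ _ (hm _ _ _ _ k3 k3)]

theorem sameOrd_true (hs : ∀ i, s * iotaG F χ (gs.getD i pone) * s⁻¹ = iotaG F χ (im.getD i pone))
    (ws : List (List ℕ)) : sameOrd gs im ws = true := by
  simp [sameOrd, ordW_eq hχ hk hs]

variable (hz : (F.φ E7.zc : G) = z)
include hz

theorem iotaG_pZ : iotaG F χ pZ = z := by
  rw [show pZ = (E7.zc, (0 : Fin 168)) by decide +kernel, iotaG_inner hχ, hz]

omit hz in
theorem inD_iff (p : P) :
    inD p = true ↔ iotaG F χ p * iotaG F χ pA = iotaG F χ pA * iotaG F χ p := by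
  rw [inD, decide_eq_true_eq, ← iotaG_mul hχ hk, ← iotaG_mul hχ hk]
  exact ⟨congrArg _, fun e => iotaG_injective e⟩

/-- A swap maps the intersection of the centralisers into itself. -/
theorem exists_image (h1 : s * iotaG F χ pZ * s⁻¹ = iotaG F χ pA)
    (h2 : s * iotaG F χ pA * s⁻¹ = iotaG F χ pZ) {p : P} (hp : inD p = true) :
    ∃ q, inD q = true ∧ s * iotaG F χ p * s⁻¹ = iotaG F χ q := by
  have hpa := (inD_iff hχ hk p).1 hp
  have hpz : iotaG F χ p * z = z * iotaG F χ p := z_commute _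
  have e1 : s * iotaG F χ p * s⁻¹ * z = z * (s * iotaG F χ p * s⁻¹) := by
    have hz' : s * iotaG F χ pA * s⁻¹ = z := h2.trans (iotaG_pZ hχ hk hz)
    calc s * iotaG F χ p * s⁻¹ * z
        = s * iotaG F χ p * s⁻¹ * (s * iotaG F χ pA * s⁻¹) := by simp only [hz']
      _ = s * (iotaG F χ p * iotaG F χ pA) * s⁻¹ := by group
      _ = s * (iotaG F χ pA * iotaG F χ p) * s⁻¹ := by rw [hpa]
      _ = s * iotaG F χ pA * s⁻¹ * (s * iotaG F χ p * s⁻¹) := by group
      _ = _ := by simp only [hz']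
  have e2 : s * iotaG F χ p * s⁻¹ * iotaG F χ pA = iotaG F χ pA * (s * iotaG F χ p * s⁻¹) := by
    rw [← h1, iotaG_pZ hχ hk hz]
    calc s * iotaG F χ p * s⁻¹ * (s * z * s⁻¹) = s * (iotaG F χ p * z) * s⁻¹ := by group
      _ = _ := by rw [hpz]; group
  obtain ⟨q, hq⟩ := iota_surjective (F := F) (χ := χ) ⟨_, mem_centralizer_singleton_iff.2 e1⟩
  have hq' : iotaG F χ q = s * iotaG F χ p * s⁻¹ := congrArg Subtype.val hq
  exact ⟨q, (inD_iff hχ hk q).2 (by rw [hq']; exact e2), hq'.symm⟩

/-- Elements marked dead are not conjugate to the involution. -/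
theorem not_dead (htw : F.tw = false) (hz1 : z ≠ 1) {g : G} {x : P}
    (hx : g * z * g⁻¹ = iotaG F χ x) : dead x = false := by
  by_contra hd
  rw [Bool.not_eq_false, dead, Bool.or_eq_true] at hd
  rcases hd with hd | hd
  · simp only [Bool.and_eq_true, decide_eq_true_eq, Bool.not_eq_true'] at hd
    obtain ⟨⟨hl, hT⟩, hF⟩ := hd
    obtain ⟨u, l⟩ := x
    dsimp only at hl hT hF
    subst hl
    rw [iotaG_inner hχ] at hx
    by_cases hgz : g * z * g⁻¹ = z
    · have : u = E7.zc := F.inj (Subtype.ext (hx.symm.trans (hgz.trans hz.symm)))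
      rw [this] at hT
      exact absurd hT (by decide +kernel)
    · obtain ⟨-, b, hb⟩ := side_of_conj F hk htw hz hz1 hx.symm hgz
      cases b
      · rw [hF] at hb; exact Bool.noConfusion hb
      · rw [hT] at hb; exact Bool.noConfusion hb
  · simp only [Bool.and_eq_true, decide_eq_true_eq, List.any_eq_true] at hd
    obtain ⟨hl, n, hn, hxn⟩ := hd
    have hgC : g * z * g⁻¹ * z = z * (g * z * g⁻¹) := by rw [hx]; exact z_commute _
    have hgz : g * z * g⁻¹ ≠ z := fun e => by
      have : x = pZ := iotaG_injective (by rw [← hx, e, iotaG_pZ hχ hk hz])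
      rw [this] at hl
      exact hl (by decide +kernel)
    obtain ⟨-, hcase⟩ := fusion F hz (sq_z F hz) hz1 hgC hgz
    rcases hcase with ⟨⟨u, hu⟩, -⟩ | ⟨-, -, -, heq, hval⟩
    · have : x = (u, 0) := iotaG_injective (by rw [← hx, ← hu, iotaG_inner hχ])
      rw [this] at hl
      exact hl rfl
    · have c1 := rootCount_conj g⁻¹ (g * z * g⁻¹) z
      rw [inv_inv, show g⁻¹ * (g * z * g⁻¹) * g = z by group] at c1
      have hpos : 0 < rootCount (g * z * g⁻¹) z := by
        rw [← c1, heq]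
        omega
      obtain ⟨⟨r, hr1, hr2⟩⟩ := (Nat.card_pos_iff.1 hpos).1
      obtain ⟨q, hq⟩ := iota_surjective (F := F) (χ := χ) ⟨r, mem_centralizer_singleton_iff.2 hr2⟩
      have hq' : iotaG F χ q = r := congrArg Subtype.val hq
      have : pm q q = dec n := iotaG_injective (by
        rw [iotaG_mul hχ hk, hq', hr1, hx, hxn])
      exact noRoots_spec q.2 q.1.v q.1.c n hn this

/-- Chains from a fused element do not end dead. -/
theorem not_runKill (htw : F.tw = false) (hz1 : z ≠ 1)
    (hs : ∀ i, s * iotaG F χ (gs.getD i pone) * s⁻¹ = iotaG F χ (im.getD i pone)) :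
    ∀ (st : List (List ℕ × Bool × ℕ)) (x : P) (g : G), g * z * g⁻¹ = iotaG F χ x →
      runKill gs im x st = false
  | [], x, g, hx => not_dead hχ hk hz htw hz1 hx
  | (w, d, c) :: r, x, g, hx => by
    simp only [runKill, Bool.and_eq_false_iff, decide_eq_false_iff_not]
    by_cases hw : evalW (if d then gs else im) w = x
    · refine Or.inr ?_
      have hcw := conj_evalW hχ hk hs w
      cases d
      · simp only [Bool.false_eq_true, if_false] at hw ⊢
        refine not_runKill htw hz1 hs r _ (iotaG F χ (dec c) * s⁻¹ * g) ?_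
        have : iotaG F χ (evalW gs w) = s⁻¹ * iotaG F χ x * s := by rw [← hw, ← hcw]; group
        rw [iotaG_cjP hχ hk, this, ← hx]
        group
      · simp only [if_true] at hw ⊢
        refine not_runKill htw hz1 hs r _ (iotaG F χ (dec c) * s * g) ?_
        rw [iotaG_cjP hχ hk, ← hcw, hw, ← hx]
        group
    · exact Or.inl hw

/-- A swap normalises the side or may be taken to act by the exceptional images. -/
theorem swap_dichotomy (htw : F.tw = false) (hz1 : z ≠ 1) (hf : FusedSide F true)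
    (h1 : s * iotaG F χ pZ * s⁻¹ = iotaG F χ pA) (h2 : s * iotaG F χ pA * s⁻¹ = iotaG F χ pZ) :
    (∀ x ∈ sideGroup F true, s * x * s⁻¹ ∈ sideGroup F true) ∨ ∃ s', OpenImages F χ s' := by
  have hZA : cjP pZ pZ = pZ ∧ cjP pZ pA = pA := by decide +kernel
  -- correcting a swap by an element of the intersection
  have move : ∀ (s : G) (c : P), inD c = true → s * iotaG F χ pZ * s⁻¹ = iotaG F χ pA →
      s * iotaG F χ pA * s⁻¹ = iotaG F χ pZ →
      iotaG F χ c * s * iotaG F χ pZ * (iotaG F χ c * s)⁻¹ = iotaG F χ pA ∧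
        iotaG F χ c * s * iotaG F χ pA * (iotaG F χ c * s)⁻¹ = iotaG F χ pZ := by
    intro s c hc ha hb
    constructor
    · calc iotaG F χ c * s * iotaG F χ pZ * (iotaG F χ c * s)⁻¹
          = iotaG F χ c * (s * iotaG F χ pZ * s⁻¹) * (iotaG F χ c)⁻¹ := by group
        _ = _ := by rw [ha, (inD_iff hχ hk c).1 hc, mul_inv_cancel_right]
    · calc iotaG F χ c * s * iotaG F χ pA * (iotaG F χ c * s)⁻¹
          = iotaG F χ c * (s * iotaG F χ pA * s⁻¹) * (iotaG F χ c)⁻¹ := by group
        _ = _ := by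
          rw [hb, iotaG_pZ hχ hk hz]
          exact mul_inv_eq_iff_eq_mul.2 (z_commute _)
  -- the generator of order three
  obtain ⟨p, hpD, hp⟩ := exists_image hχ hk hz h1 h2 (gens_inD 0 (by norm_num))
  have hp3 : ordW [p] [0] = 3 := by
    have e := ordW_eq (F := F) (χ := χ) hχ hk (s := s) (gs := [gens.getD 0 pone]) (im := [p])
      (fun i => by
        cases i with
        | zero => exact hp
        | succ i =>
          show s * iotaG F χ pone * s⁻¹ = iotaG F χ pone
          simp [iotaG_one hχ]) [0]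
    rw [← e]
    decide +kernel
  obtain ⟨d0, hd0, hcj0⟩ := step_three p.2 p.1.v p.1.c hpD hp3
  set s1 := iotaG F χ (dec d0) * s with hs1
  obtain ⟨h1a, h1b⟩ := move s (dec d0) (threeConj_spec d0 hd0) h1 h2
  have h10 : s1 * iotaG F χ (dec 1280) * s1⁻¹ = iotaG F χ (dec 1280) := by
    have hp' : s * iotaG F χ (dec 1280) * s⁻¹ = iotaG F χ (cjP (pinv (dec d0)) (dec 1280)) := by
      rw [hcj0]; exact hp
    rw [iotaG_cjP hχ hk, iotaG_pinv hχ hk] at hp'
    calc s1 * iotaG F χ (dec 1280) * s1⁻¹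
        = iotaG F χ (dec d0) * (s * iotaG F χ (dec 1280) * s⁻¹) * (iotaG F χ (dec d0))⁻¹ := by
          rw [hs1]; group
      _ = _ := by rw [hp']; group
  -- the second generator
  obtain ⟨q, hqD, hq⟩ := exists_image hχ hk hz h1a h1b (gens_inD 1 (by norm_num))
  have hs1' : ∀ i, s1 * iotaG F χ (gens1.getD i pone) * s1⁻¹ =
      iotaG F χ ([dec 1280, q, pone, pA, pZ].getD i pone) := by
    intro i
    match i with
    | 0 => exact h10
    | 1 => exact hq
    | 2 => show s1 * iotaG F χ pone * s1⁻¹ = iotaG F χ pone; simp [iotaG_one hχ]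
    | 3 => exact h1a
    | 4 => exact h1b
    | i + 5 => show s1 * iotaG F χ pone * s1⁻¹ = iotaG F χ pone; simp [iotaG_one hχ]
  obtain ⟨d1, hd1, h, hh, hcj1⟩ :=
    step_one q.2 q.1.v q.1.c hqD (sameOrd_true hχ hk hs1' words1)
  obtain ⟨hd1D, hd1t⟩ := centT_spec d1 hd1
  set s2 := iotaG F χ (dec d1) * s1 with hs2
  obtain ⟨h2a, h2b⟩ := move s1 (dec d1) hd1D h1a h1b
  have h20 : s2 * iotaG F χ (dec 1280) * s2⁻¹ = iotaG F χ (dec 1280) := by
    calc s2 * iotaG F χ (dec 1280) * s2⁻¹
        = iotaG F χ (dec d1) * (s1 * iotaG F χ (dec 1280) * s1⁻¹) * (iotaG F χ (dec d1))⁻¹ := by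
          rw [hs2]; group
      _ = _ := by rw [h10, ← iotaG_cjP hχ hk, hd1t]
  have h21 : s2 * iotaG F χ (dec 230) * s2⁻¹ = iotaG F χ (dec h) := by
    calc s2 * iotaG F χ (dec 230) * s2⁻¹
        = iotaG F χ (dec d1) * (s1 * iotaG F χ (dec 230) * s1⁻¹) * (iotaG F χ (dec d1))⁻¹ := by
          rw [hs2]; group
      _ = _ := by
          rw [show s1 * iotaG F χ (dec 230) * s1⁻¹ = iotaG F χ q from hq, ← iotaG_cjP hχ hk]
          exact congrArg _ hcj1
  -- the third generator
  obtain ⟨r, hrD, hr⟩ := exists_image hχ hk hz h2a h2b (gens_inD 2 (by norm_num))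
  have hs2' : ∀ i, s2 * iotaG F χ (gens.getD i pone) * s2⁻¹ =
      iotaG F χ ((imgs (dec h) r).getD i pone) := by
    intro i
    match i with
    | 0 => exact h20
    | 1 => exact h21
    | 2 => exact hr
    | 3 => exact h2a
    | 4 => exact h2b
    | i + 5 => show s2 * iotaG F χ pone * s2⁻¹ = iotaG F χ pone; simp [iotaG_one hχ]
  obtain ⟨d2, hd2, hd2h, k, hkk, hcj2⟩ :=
    step_two h hh r.2 r.1.v r.1.c hrD (sameOrd_true hχ hk hs2' words2)
  obtain ⟨hd2D, hd2t⟩ := centT_spec d2 hd2
  set s3 := iotaG F χ (dec d2) * s2 with hs3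
  obtain ⟨h3a, h3b⟩ := move s2 (dec d2) hd2D h2a h2b
  have step : ∀ x y : P, s2 * iotaG F χ x * s2⁻¹ = iotaG F χ y →
      s3 * iotaG F χ x * s3⁻¹ = iotaG F χ (cjP (dec d2) y) := fun x y e => by
    calc s3 * iotaG F χ x * s3⁻¹
        = iotaG F χ (dec d2) * (s2 * iotaG F χ x * s2⁻¹) * (iotaG F χ (dec d2))⁻¹ := by
          rw [hs3]; group
      _ = _ := by rw [e, ← iotaG_cjP hχ hk]
  have hs3' : ∀ i, s3 * iotaG F χ (gens.getD i pone) * s3⁻¹ =
      iotaG F χ ((imgs (dec h) (dec k)).getD i pone) := by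
    intro i
    match i with
    | 0 => exact (step _ _ h20).trans (congrArg _ hd2t)
    | 1 => exact (step _ _ h21).trans (congrArg _ hd2h)
    | 2 => exact (step _ _ hr).trans (congrArg _ hcj2)
    | 3 => exact h3a
    | 4 => exact h3b
    | i + 5 => show s3 * iotaG F χ pone * s3⁻¹ = iotaG F χ pone; simp [iotaG_one hχ]
  have hres := resolved_all h hh k hkk
  simp only [resolved, Bool.or_eq_true, Bool.and_eq_true, beq_iff_eq, List.any_eq_true,
    decide_eq_true_eq] at hres
  rcases hres with ((⟨rfl, rfl⟩ | hfix) | hrel) | ⟨c, -, ⟨⟨hcs, hc0⟩, hc1⟩, hkill⟩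
  · exact Or.inr ⟨s3, fun i _ => hs3' i⟩
  · left
    intro x hx
    obtain ⟨⟨v, b⟩, hv, rfl⟩ := (mem_sideGroup F).1 hx
    obtain ⟨w, hw, hwe⟩ := sideWords_spec v b hv
    simp only [fixesSide, List.all_eq_true, Bool.and_eq_true, decide_eq_true_eq] at hfix
    obtain ⟨hw0, hws⟩ := hfix w hw
    have hcw := conj_evalW hχ hk hs3' w
    rw [hwe, iotaG_inner hχ] at hcw
    have hmem : s3 * (F.φ ⟨v, b⟩ : G) * s3⁻¹ ∈ sideGroup F true := by
      rw [hcw]
      refine (mem_sideGroup F).2 ⟨(evalW (imgs (dec h) (dec k)) w).1, hws, ?_⟩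
      rw [← iotaG_inner hχ (evalW (imgs (dec h) (dec k)) w).1]
      exact congrArg _ (Prod.ext rfl hw0.symm)
    set c : centralizer ({z} : Set G) :=
      iota F χ (dec d2) * iota F χ (dec d1) * iota F χ (dec d0) with hc
    have e3 : s3 = (c : G) * s := by
      rw [hs3, hs2, hs1, hc]
      simp only [iotaG, Subgroup.coe_mul, mul_assoc]
    have := conj_mem_sideGroup F hk true c⁻¹ hmem
    rw [e3] at this
    simpa [mul_assoc] using this
  · simp only [relFails, List.any_eq_true, Bool.and_eq_true, decide_eq_true_eq] at hrel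
    obtain ⟨w, -, hw1, hw2⟩ := hrel
    exact absurd ((evalW_eq_iff hχ hk hs3' _ _).1 hw1) hw2
  · exfalso
    have hx : iotaG F χ (dec c.1) ∈ sideGroup F true :=
      (mem_sideGroup F).2 ⟨(dec c.1).1, hcs, by
        rw [← iotaG_inner hχ (dec c.1).1]
        exact congrArg _ (Prod.ext rfl hc0.symm)⟩
    obtain ⟨g, hg⟩ := sideGroup_transitive F hk hz hz1 hf hx fun e =>
      hc1 (iotaG_injective (e.trans (iotaG_one hχ).symm))
    have := not_runKill hχ hk hz htw hz1 hs3' c.2 (dec c.1) g hg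
    rw [this] at hkill
    exact Bool.noConfusion hkill

end

/-- A fused side is closed or open. -/
theorem side_true_dichotomy (hk : F.k = 0) (htw : F.tw = false) (hz : (F.φ E7.zc : G) = z)
    (hz1 : z ≠ 1) (hf : FusedSide F true) : ClosedSide F true ∨ OpenSide F := by
  obtain ⟨χ, hχ⟩ := exists_isSection F htw
  have hA : pA = ((⟨1, false⟩ : E7), (0 : Fin 168)) := by decide +kernel
  have hAs : iotaG F χ pA ∈ sideGroup F true :=
    (mem_sideGroup F).2 ⟨⟨1, false⟩, by decide +kernel, by rw [hA, iotaG_inner hχ]⟩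
  obtain ⟨g0, hg0⟩ := sideGroup_transitive F hk hz hz1 hf hAs fun e =>
    absurd (iotaG_injective (F := F) (χ := χ) (e.trans (iotaG_one hχ).symm)) (by decide +kernel)
  have hne : g0 * z * g0⁻¹ ≠ z := fun e =>
    absurd (iotaG_injective (F := F) (χ := χ) (hg0.symm.trans (e.trans (iotaG_pZ hχ hk hz).symm)))
      (by decide +kernel)
  have hiQ : InQ F (g0 * z * g0⁻¹) := ⟨⟨1, false⟩, by rw [hg0, hA, iotaG_inner hχ]⟩
  obtain ⟨s, hs1, hs2⟩ := exists_swap F hz hz1 hiQ hne
  rw [hg0] at hs1 hs2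
  rcases swap_dichotomy hχ hk hz htw hz1 hf (s := s)
    (by rw [iotaG_pZ hχ hk hz, hs1]) (by rw [iotaG_pZ hχ hk hz, hs2]) with h | h
  · left
    intro g hg x hx
    by_cases hgz : g * z * g⁻¹ = z
    · exact conj_mem_sideGroup F hk true
        ⟨g, mem_centralizer_singleton_iff.2 (mul_inv_eq_iff_eq_mul.1 hgz)⟩ hx
    obtain ⟨u, hu, hue⟩ := (mem_sideGroup F).1 hg
    have hg1 : g * z * g⁻¹ ≠ 1 := fun e => hz1 (by
      have := congrArg (fun t => g⁻¹ * t * g) e
      simpa [mul_assoc] using this)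
    have hu0 := v_ne_zero F hz (by rw [hue]; exact hg1) (by rw [hue]; exact hgz)
    obtain ⟨c, hc⟩ := side_all F hk (g := s) (u := (⟨1, false⟩ : E7))
      (by rw [hs1, hA, iotaG_inner hχ]) (by decide) (b := true) (by decide +kernel) hu0 hu
    rw [hue] at hc
    set d := ((c : G) * s)⁻¹ * g with hd
    have hdC : d * z = z * d := by
      rw [hd]
      calc ((c : G) * s)⁻¹ * g * z = ((c : G) * s)⁻¹ * (g * z * g⁻¹) * g := by group
        _ = ((c : G) * s)⁻¹ * ((c : G) * s * z * ((c : G) * s)⁻¹) * g := by rw [hc]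
        _ = z * (((c : G) * s)⁻¹ * g) := by group
    have e : g = (c : G) * s * d := by rw [hd, mul_inv_cancel_left]
    rw [e, show (c : G) * s * d * x * ((c : G) * s * d)⁻¹ =
      (c : G) * (s * (d * x * d⁻¹) * s⁻¹) * (c : G)⁻¹ by group]
    exact conj_mem_sideGroup F hk true c
      (h _ (conj_mem_sideGroup F hk true ⟨d, mem_centralizer_singleton_iff.2 hdC⟩ hx))
  · exact Or.inr ⟨χ, hχ, h⟩

/-- A fused second side is closed or open, in the coordinates with the sides exchanged. -/
theorem side_false_dichotomy (hk : F.k = 0) (htw : F.tw = false) (hz : (F.φ E7.zc : G) = z)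
    (hz1 : z ≠ 1) (hf : FusedSide F false) : ClosedSide F false ∨ OpenSide (flip F hk) := by
  have hs := sideGroup_flip F hk true
  rw [Bool.not_true] at hs
  rcases side_true_dichotomy (F := flip F hk) rfl htw (flip_center F hk hz) hz1
    (by unfold FusedSide; rw [hs]; exact hf) with h | h
  · refine Or.inl ?_
    unfold ClosedSide at h ⊢
    rwa [hs] at h
  · exact Or.inr h

end CfsgLib.HeldCentre
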