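import Cfsg.Agent.HeldCentre.Frame
import Cfsg.Agent.HeldCentre.Counts

/-!
Elements of the centraliser in coordinates and the fusion invariant: the numbers of square roots
of one of two commuting involutions commuting with the other.
-/

set_option autoImplicit false

namespace CfsgLib.HeldCentre

open Subgroup

/-! ### Coordinates of elements -/

namespace Frame

variable {C : Type*} [Group C] (F : Frame C)

/-- The element with coordinates `(u, l)`. -/
def el (u : E7) (l : Fin 168) : C := F.φ u * F.σ l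

/-- The cocycle. -/
noncomputable def sgn (a b : Fin 168) : Bool := (F.mul a b).choose

theorem σ_mul (a b : Fin 168) : F.σ a * F.σ b = F.σ (mulL a b) * F.φ ⟨0, F.sgn a b⟩ :=
  (F.mul a b).choose_spec

theorem commute_c (c : C) : ∀ b : Bool, Commute c (F.φ ⟨0, b⟩)
  | true => F.central c
  | false => by
    show Commute c (F.φ 1)
    rw [map_one]
    exact Commute.one_right c

theorem el_mul (u v : E7) (a b : Fin 168) :
    F.el u a * F.el v b = F.el (u * act F.k a v * ⟨0, F.sgn a b⟩) (mulL a b) := by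
  unfold el
  rw [map_mul, map_mul, ← F.conj a v]
  calc F.φ u * F.σ a * (F.φ v * F.σ b)
      = F.φ u * (F.σ a * F.φ v * (F.σ a)⁻¹) * (F.σ a * F.σ b) := by group
    _ = F.φ u * (F.σ a * F.φ v * (F.σ a)⁻¹) * (F.φ ⟨0, F.sgn a b⟩ * F.σ (mulL a b)) := by
        rw [F.σ_mul, (F.commute_c _ _).eq]
    _ = _ := by simp only [mul_assoc]

theorem el_one : F.el 1 0 = 1 := by simp [el, F.σ_zero]

theorem el_zero (u : E7) : F.el u 0 = F.φ u := by simp [el, F.σ_zero]

theorem el_inj {u v : E7} {a b : Fin 168} (h : F.el u a = F.el v b) : u = v ∧ a = b := by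
  have hab : a = b := by
    obtain ⟨w, hw⟩ : ∃ w, (F.el v b)⁻¹ = F.el w (invL b) := by
      obtain ⟨x, l, hx⟩ := F.cover (F.el v b)⁻¹
      have h1 : F.el v b * F.el x l = 1 := by rw [show F.el x l = (F.el v b)⁻¹ from hx.symm, mul_inv_cancel]
      rw [F.el_mul] at h1
      have hl := F.uniq _ _ h1
      refine ⟨x, ?_⟩
      rw [hx]
      congr 2
      calc l = mulL (mulL (invL b) b) l := by rw [(entry_inv b).2, (mulL_one l).2]
        _ = invL b := by rw [mulL_assoc, hl, (mulL_one _).1]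
    have h1 : F.el u a * F.el w (invL b) = 1 := by rw [← hw, h, mul_inv_cancel]
    rw [F.el_mul] at h1
    have hl := F.uniq _ _ h1
    calc a = mulL a (mulL (invL b) b) := by rw [(entry_inv b).2, (mulL_one a).1]
      _ = b := by rw [← mulL_assoc, hl, (mulL_one b).2]
  subst hab
  exact ⟨F.inj (mul_right_cancel h), rfl⟩

theorem el_surj (c : C) : ∃ u l, c = F.el u l := F.cover c

/-- The coordinates. -/
noncomputable def elEquiv : E7 × Fin 168 ≃ C :=
  Equiv.ofBijective (fun p => F.el p.1 p.2)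
    ⟨fun _ _ h => Prod.ext (F.el_inj h).1 (F.el_inj h).2, fun c => by
      obtain ⟨u, l, h⟩ := F.el_surj c
      exact ⟨(u, l), h.symm⟩⟩

theorem elEquiv_apply (p : E7 × Fin 168) : F.elEquiv p = F.el p.1 p.2 := rfl

theorem sgn_zero_left (l : Fin 168) : F.sgn 0 l = false := by
  have h := F.el_mul 1 1 0 l
  rw [F.el_one, one_mul, act_one, (mulL_one l).2, one_mul, one_mul] at h
  exact (congrArg E7.c (F.el_inj h).1).symm

theorem sgn_zero_right (l : Fin 168) : F.sgn l 0 = false := by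
  have h := F.el_mul 1 1 l 0
  have ha : act F.k l 1 = 1 := map_one (actHom F.k l)
  rw [F.el_one, mul_one, ha, (mulL_one l).1, one_mul, one_mul] at h
  exact (congrArg E7.c (F.el_inj h).1).symm

theorem sgn_self {l : Fin 168} (hl : mulL l l = 0) : F.sgn l l = tz F.tw l := by
  by_cases h0 : l = 0
  · subst h0
    rw [F.sgn_zero_left]
    simp [tz]
  · have h := F.σ_mul l l
    rw [hl, F.σ_zero, one_mul, F.invol l hl h0] at h
    have := congrArg E7.c (F.inj h)
    simpa [tz, h0] using this.symm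

theorem sgn_swap {l m : Fin 168} (hl : mulL l l = 0) (hm : mulL m m = 0)
    (hc : mulL l m = mulL m l) : F.sgn l m = Bool.xor (F.sgn m l) (eta F.tw l m) := by
  by_cases hl0 : l = 0
  · subst hl0; simp [F.sgn_zero_left, F.sgn_zero_right, eta]
  by_cases hm0 : m = 0
  · subst hm0; simp [F.sgn_zero_left, F.sgn_zero_right, eta]
  by_cases hlm : l = m
  · subst hlm; simp [eta]
  have hn : mulL (mulL l m) (mulL l m) = 0 := by
    conv_lhs => arg 2; rw [hc]
    rw [mulL_assoc, ← mulL_assoc m m l, hm, (mulL_one l).2, hl]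
  have hn0 : mulL l m ≠ 0 := fun h => hlm (by
    calc l = mulL l (mulL m m) := by rw [hm, (mulL_one l).1]
      _ = m := by rw [← mulL_assoc, h, (mulL_one m).2])
  have t1 := F.invol _ hl hl0
  have t2 := F.invol _ hm hm0
  have t3 := F.invol _ hn hn0
  have h1 := F.σ_mul l m
  have h2 := F.σ_mul m l
  rw [← hc] at h2
  have key : F.σ l * F.σ m * (F.σ l * F.σ m) = F.φ ⟨0, F.tw⟩ := by
    rw [h1]
    calc F.σ (mulL l m) * F.φ ⟨0, F.sgn l m⟩ * (F.σ (mulL l m) * F.φ ⟨0, F.sgn l m⟩)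
        = F.σ (mulL l m) * F.σ (mulL l m) * (F.φ ⟨0, F.sgn l m⟩ * F.φ ⟨0, F.sgn l m⟩) := by
          rw [mul_assoc (F.σ (mulL l m)) (F.φ _) (_ * _), ← mul_assoc (F.φ ⟨0, F.sgn l m⟩),
            ← (F.commute_c (F.σ (mulL l m)) _).eq]
          simp only [mul_assoc]
      _ = F.φ ⟨0, F.tw⟩ := by
          rw [t3, ← map_mul F.φ ⟨0, F.sgn l m⟩, E7.sq_eq]
          show F.φ ⟨0, F.tw⟩ * F.φ ⟨0, quad 0⟩ = _
          rw [show quad (0 : Fin 64) = false from beta_zero_left 0,
            show (⟨0, false⟩ : E7) = 1 from rfl, map_one, mul_one]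
  have key2 : F.φ ⟨0, F.tw⟩ * (F.σ m * F.σ l) * F.φ ⟨0, F.tw⟩ =
      F.φ ⟨0, F.tw⟩ * (F.σ l * F.σ m) := by
    calc F.φ ⟨0, F.tw⟩ * (F.σ m * F.σ l) * F.φ ⟨0, F.tw⟩
        = F.σ l * F.σ l * (F.σ m * F.σ l) * (F.σ m * F.σ m) := by rw [t1, t2]
      _ = F.σ l * (F.σ l * F.σ m * (F.σ l * F.σ m)) * F.σ m := by simp only [mul_assoc]
      _ = F.σ l * F.φ ⟨0, F.tw⟩ * F.σ m := by rw [key]
      _ = _ := by rw [(F.commute_c (F.σ l) _).eq, mul_assoc]
  rw [mul_assoc] at key2
  have h3 := mul_left_cancel key2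
  rw [h1, h2, mul_assoc, ← map_mul] at h3
  have h4 := congrArg E7.c (F.inj (mul_left_cancel h3))
  have he : eta F.tw l m = F.tw := by simp [eta, hl0, hm0, hlm]
  rw [he]
  simpa [E7.mul_def, beta_zero_left] using h4.symm

/-- Squares. -/
theorem el_sq (v : E7) (l : Fin 168) :
    F.el v l * F.el v l = F.el (sqE F.k l v (F.sgn l l)) (mulL l l) := F.el_mul v v l l

theorem el_conj_exists (u : E7) (s a : Fin 168) :
    ∃ w, F.el 1 a * F.el u s * (F.el 1 a)⁻¹ = F.el w (mulL (mulL a s) (invL a)) := by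
  obtain ⟨x, l, hx⟩ := F.el_surj (F.el 1 a)⁻¹
  have h1 : F.el 1 a * F.el x l = F.el 1 0 := by rw [← hx, mul_inv_cancel, F.el_one]
  rw [F.el_mul] at h1
  have hl : l = invL a := by
    calc l = mulL (mulL (invL a) a) l := by rw [(entry_inv a).2, (mulL_one l).2]
      _ = invL a := by rw [mulL_assoc, (F.el_inj h1).2, (mulL_one _).1]
  exact ⟨_, by rw [hx, F.el_mul, F.el_mul, hl]⟩

end Frame

theorem sqE_flip (k : Fin 3) (l : Fin 168) (v : Fin 64) (c e : Bool) :
    sqE k l ⟨v, c⟩ e = sqE k l ⟨v, false⟩ e := by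
  simp only [sqE, act, E7.mul_def]
  congr 2
  cases c <;> cases sgnT k l v <;> simp

theorem commEq_flip (k : Fin 3) (l s : Fin 168) (u : E7) (v : Fin 64) (c e : Bool) :
    (⟨v, c⟩ * act k l u = u * act k s ⟨v, c⟩ * ⟨0, e⟩) ↔
      (⟨v, false⟩ * act k l u = u * act k s ⟨v, false⟩ * ⟨0, e⟩) := by
  simp only [E7.ext_iff, act, E7.mul_def]
  cases c <;> cases u.c <;> cases e <;> cases sgnT k l u.v <;> cases sgnT k s v <;> simp

/-- Pairs whose membership does not depend on the central part come in pairs. -/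
theorem card_pairs (P : E7 × Fin 168 → Prop) (p : Fin 168 × Fin 64 → Bool)
    (h : ∀ v c l, P (⟨v, c⟩, l) ↔ p (l, v) = true) :
    Nat.card {x // P x} = 2 * Nat.card {x // p x = true} := by
  let e : {x // P x} ≃ Bool × {x // p x = true} :=
    { toFun := fun x => (x.1.1.c, ⟨(x.1.2, x.1.1.v), (h _ x.1.1.c _).1 x.2⟩)
      invFun := fun y => ⟨(⟨y.2.1.2, y.1⟩, y.2.1.1), (h _ _ _).2 y.2.2⟩
      left_inv := fun _ => rfl
      right_inv := fun _ => rfl }
  rw [Nat.card_congr e, Nat.card_prod]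
  simp

/-! ### The invariant -/

section Group

variable {G : Type*} [Group G]

/-- Square roots of `p` commuting with `q`. -/
noncomputable def rootCount (p q : G) : ℕ := Nat.card {y : G // y * y = p ∧ y * q = q * y}

theorem rootCount_conj (g p q : G) :
    rootCount (g * p * g⁻¹) (g * q * g⁻¹) = rootCount p q := by
  symm
  refine Nat.card_congr (Equiv.subtypeEquiv (MulAut.conj g).toEquiv fun y => ?_)
  show _ ↔ g * y * g⁻¹ * (g * y * g⁻¹) = g * p * g⁻¹ ∧
    g * y * g⁻¹ * (g * q * g⁻¹) = g * q * g⁻¹ * (g * y * g⁻¹)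
  have e : ∀ a b : G, g * a * g⁻¹ * (g * b * g⁻¹) = g * (a * b) * g⁻¹ := fun a b => by group
  simp only [e]
  constructor
  · rintro ⟨h1, h2⟩
    rw [h1, h2]
    exact ⟨rfl, rfl⟩
  · rintro ⟨h1, h2⟩
    exact ⟨by simpa using h1, by simpa using h2⟩

variable {z : G} (F : Frame (centralizer ({z} : Set G))) (hz : (F.φ E7.zc : G) = z)

/-- Membership in the extraspecial subgroup. -/
def InQ (x : G) : Prop := ∃ u, (F.φ u : G) = x

theorem z_commute (c : centralizer ({z} : Set G)) : (c : G) * z = z * c :=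
  mem_centralizer_singleton_iff.1 c.2

include hz

omit hz in
/-- Roots in coordinates. -/
theorem card_roots (p q : centralizer ({z} : Set G)) (r : G) (hr : ∀ y : G, y * y = (p : G) →
    y * r = r * y → y ∈ centralizer ({z} : Set G)) (hq : (q : G) = r) :
    rootCount (p : G) r = Nat.card {x : E7 × Fin 168 //
      F.el x.1 x.2 * F.el x.1 x.2 = p ∧ F.el x.1 x.2 * q = q * F.el x.1 x.2} := by
  subst hq
  let e1 : {y : G // y * y = (p : G) ∧ y * q = q * y} ≃
      {c : centralizer ({z} : Set G) // c * c = p ∧ c * q = q * c} :=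
    { toFun := fun y => ⟨⟨y.1, hr y.1 y.2.1 y.2.2⟩, Subtype.ext y.2.1, Subtype.ext y.2.2⟩
      invFun := fun c => ⟨c.1.1, congrArg Subtype.val c.2.1, congrArg Subtype.val c.2.2⟩
      left_inv := fun _ => rfl
      right_inv := fun _ => rfl }
  rw [rootCount, Nat.card_congr e1]
  exact Nat.card_congr (Equiv.subtypeEquiv F.elEquiv fun _ => Iff.rfl).symm

theorem rootCount_z (u : E7) (s : Fin 168) (hs : mulL s s = 0) :
    rootCount z (F.el u s : G) =
      2 * Nat.card {x // rootZ F.k F.tw u s x = true} := by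
  have e := card_roots F (F.φ E7.zc) (F.el u s) (F.el u s : G) (fun y hy _ => by
    rw [mem_centralizer_singleton_iff]
    rw [hz] at hy
    rw [← hy, mul_assoc]) rfl
  rw [hz] at e
  rw [e]
  refine card_pairs _ _ fun v c l => ?_
  simp only [rootZ, Bool.and_eq_true, decide_eq_true_eq]
  rw [F.el_sq, ← F.el_zero, F.el_mul, F.el_mul]
  constructor
  · rintro ⟨h1, h2⟩
    obtain ⟨h1a, hl⟩ := F.el_inj h1
    obtain ⟨h2a, hc⟩ := F.el_inj h2
    refine ⟨⟨⟨hl, hc⟩, ?_⟩, ?_⟩
    · rw [← sqE_flip _ _ _ c, ← F.sgn_self hl, h1a]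
    · rw [← commEq_flip _ _ _ _ _ c]
      rw [F.sgn_swap hl hs hc] at h2a
      have := congrArg (fun x => x * (⟨0, Bool.xor (F.sgn s l) (eta F.tw l s)⟩ : E7)) h2a
      simp only [mul_assoc] at this
      simp only [show ∀ a b : Bool, (⟨0, a⟩ : E7) * ⟨0, b⟩ = ⟨0, Bool.xor a b⟩ by decide +kernel,
        Bool.xor_self, show (⟨0, false⟩ : E7) = 1 from rfl, mul_one,
        ← Bool.xor_assoc, Bool.false_xor] at this
      rw [this, mul_assoc]
  · rintro ⟨⟨⟨hl, hc⟩, h1⟩, h2⟩
    refine ⟨?_, ?_⟩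
    · rw [hl, F.sgn_self hl, sqE_flip, h1]
    · rw [← commEq_flip _ _ _ _ _ c] at h2
      rw [← hc, F.sgn_swap hl hs hc, h2, mul_assoc _ (⟨0, eta F.tw l s⟩ : E7),
        show ∀ a b : Bool, (⟨0, a⟩ : E7) * ⟨0, Bool.xor b a⟩ = ⟨0, b⟩ by decide +kernel]

theorem rootCount_x (u : E7) (s : Fin 168) (p : Fin 168 × Fin 64 → Bool)
    (hp : ∀ v l, p (l, v) = true ↔ mulL l l = s ∧ sqE F.k l ⟨v, false⟩ (F.sgn l l) = u) :
    rootCount (F.el u s : G) z = 2 * Nat.card {x // p x = true} := by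
  have e := card_roots F (F.el u s) (F.φ E7.zc) z (fun y _ hy => by
    rw [mem_centralizer_singleton_iff]
    exact hy) hz
  rw [e]
  refine card_pairs _ _ fun v c l => ?_
  rw [hp, F.el_sq]
  constructor
  · rintro ⟨h1, -⟩
    obtain ⟨h1a, hl⟩ := F.el_inj h1
    exact ⟨hl, by rw [← sqE_flip _ _ _ c, h1a]⟩
  · rintro ⟨hl, h1⟩
    refine ⟨by rw [hl, sqE_flip, h1], ?_⟩
    exact (F.central _).eq

theorem prof_inner (u : E7) : rootCount z (F.φ u : G) = 2 * (profQ F.k F.tw u).1 ∧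
    rootCount (F.φ u : G) z = 2 * (profQ F.k F.tw u).2 := by
  have hnd : invs.Nodup := by decide +kernel
  constructor
  · rw [← F.el_zero, rootCount_z F hz u 0 (by decide +kernel), profQ,
      countOn_eq invs _ hnd]
    intro x hx
    simp only [rootZ, Bool.and_eq_true, decide_eq_true_eq] at hx
    exact (mem_invs _).1 hx.1.1.1
  · rw [← F.el_zero, rootCount_x F hz u 0 (rootX F.k F.tw u) (fun v l => by
      simp only [rootX, Bool.and_eq_true, decide_eq_true_eq]
      constructor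
      · rintro ⟨h1, h2⟩
        exact ⟨h1, by rw [F.sgn_self h1]; exact h2⟩
      · rintro ⟨h1, h2⟩
        exact ⟨h1, by rw [← F.sgn_self h1]; exact h2⟩), profQ, countOn_eq invs _ hnd]
    intro x hx
    simp only [rootX, Bool.and_eq_true, decide_eq_true_eq] at hx
    exact (mem_invs _).1 hx.1

theorem prof_outer (u : E7) : rootCount z (F.el u 8 : G) =
      2 * (profS F.k F.tw u (F.sgn 154 154) (F.sgn 161 161)).1 ∧
    rootCount (F.el u 8 : G) z = 2 * (profS F.k F.tw u (F.sgn 154 154) (F.sgn 161 161)).2 := by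
  constructor
  · rw [rootCount_z F hz u 8 (by decide +kernel), profS,
      countOn_eq invs8 _ (by decide +kernel)]
    intro x hx
    simp only [rootZ, Bool.and_eq_true, decide_eq_true_eq] at hx
    exact mem_invs8 _ hx.1.1.1 hx.1.1.2
  · let p : Fin 168 × Fin 64 → Bool := fun x =>
      decide (mulL x.1 x.1 = 8) && rootS F.k u x.1 (F.sgn x.1 x.1) x.2
    rw [rootCount_x F hz u 8 p (fun v l => by simp [p, rootS]), profS,
      countOn_eq [154, 161] p (by decide +kernel)]
    · congr 1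
      have hsplit : ([154, 161] : List (Fin 168)) ×ˢ List.finRange 64 =
          (List.finRange 64).map (Prod.mk (154 : Fin 168)) ++
            (List.finRange 64).map (Prod.mk (161 : Fin 168)) := by
        simp [List.product_cons]
      rw [countOn, hsplit, List.countP_append, List.countP_map, List.countP_map]
      congr 1
    · intro x hx
      simp only [p, Bool.and_eq_true, decide_eq_true_eq] at hx
      rcases (roots_eight _).1 hx.1 with h | h <;> simp [h]

omit hz

theorem rootCount_move (c : centralizer ({z} : Set G)) (x : G) :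
    rootCount z ((c : G) * x * (c : G)⁻¹) = rootCount z x ∧
      rootCount ((c : G) * x * (c : G)⁻¹) z = rootCount x z := by
  have hcz : (c : G) * z * (c : G)⁻¹ = z := mul_inv_eq_iff_eq_mul.2 (z_commute c)
  have h1 := rootCount_conj (c : G) z x
  have h2 := rootCount_conj (c : G) x z
  rw [hcz] at h1 h2
  exact ⟨h1, h2⟩

include hz

theorem inQ_z : InQ F z := ⟨_, hz⟩

omit hz in
theorem inQ_conj {x : G} (c : centralizer ({z} : Set G)) (h : InQ F x) :
    InQ F ((c : G) * x * (c : G)⁻¹) := by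
  obtain ⟨u, rfl⟩ := h
  obtain ⟨w, l, rfl⟩ := F.el_surj c
  refine ⟨w * act F.k l u * w⁻¹, ?_⟩
  have : F.el w l * F.φ u * (F.el w l)⁻¹ = F.φ (w * act F.k l u * w⁻¹) := by
    rw [map_mul, map_mul, map_inv, ← F.conj]
    unfold Frame.el
    group
  rw [← this]
  rfl

/-- The profile of an involution of the centraliser. -/
theorem profile {x : G} (hx : x * x = 1) (hx1 : x ≠ 1) (hxz : x ≠ z) (hxC : x * z = z * x) :
    ∃ p : ℕ × ℕ, rootCount z x = 2 * p.1 ∧ rootCount x z = 2 * p.2 ∧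
      ((InQ F x ∧ p ∈ inList F.k F.tw ∧ (F.k ≠ 0 → p = (24, 24) →
        ∀ u, (F.φ u : G) = x → inE F.k u.v = true)) ∨ (¬ InQ F x ∧ p ∈ outList F.k F.tw)) := by
  obtain ⟨xc, rfl⟩ : ∃ c : centralizer ({z} : Set G), (c : G) = x :=
    ⟨⟨x, mem_centralizer_singleton_iff.2 hxC⟩, rfl⟩
  obtain ⟨u, s, rfl⟩ := F.el_surj xc
  have hsq : F.el u s * F.el u s = F.el 1 0 := by
    rw [F.el_one]; exact Subtype.ext hx
  rw [F.el_sq] at hsq
  obtain ⟨hu, hs⟩ := F.el_inj hsq
  by_cases hs0 : s = 0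
  · subst hs0
    rw [F.el_zero] at hx hx1 hxz ⊢
    have hv : quad u.v = false := by
      rw [sqE, act_one, F.sgn_zero_left, show (⟨0, false⟩ : E7) = 1 from rfl, mul_one,
        E7.sq_eq] at hu
      exact congrArg E7.c hu
    have hv0 : u.v ≠ 0 := fun h0 => by
      rcases E7.eq_or_eq_of_v (x := u) (y := 1) (congrArg W.mk h0) with h | h
      · exact hx1 (by rw [h, map_one]; rfl)
      · exact hxz (by rw [h, one_mul, hz])
    obtain ⟨a, ha⟩ := sing_reps F.k u.v hv hv0
    have hmv : F.el 1 a * F.φ u * (F.el 1 a)⁻¹ = F.φ (act F.k a u) := by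
      simp [Frame.el, F.conj]
    obtain ⟨h1, h2⟩ := rootCount_move (F.el 1 a) (F.φ u : G)
    have hmv' : (F.el 1 a : G) * (F.φ u : G) * (F.el 1 a : G)⁻¹ = (F.φ (act F.k a u) : G) := by
      rw [← hmv]; rfl
    rw [hmv'] at h1 h2
    obtain ⟨p1, p2⟩ := prof_inner F hz (act F.k a u)
    obtain ⟨ht1, ht2⟩ := tab_in F.k F.tw (act F.k a u).v ha (act F.k a u).c
    refine ⟨profQ F.k F.tw (act F.k a u), h1 ▸ p1, h2 ▸ p2, Or.inl ⟨⟨u, rfl⟩, ht1, ?_⟩⟩
    intro hk hp w hw
    have hwu : w = u := F.inj (Subtype.ext hw)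
    rw [hwu, ← inE_act F.k a u.v hk]
    exact ht2 hk hp
  · obtain ⟨a, ha⟩ := involutions_conj s hs hs0
    obtain ⟨w, hw⟩ := F.el_conj_exists u s (invL a)
    have ha' : mulL (mulL (invL a) s) (invL (invL a)) = 8 := by
      have hii : invL (invL a) = a := by
        calc invL (invL a) = mulL (mulL a (invL a)) (invL (invL a)) := by
              rw [(entry_inv a).1, (mulL_one _).2]
          _ = a := by rw [mulL_assoc, (entry_inv (invL a)).1, (mulL_one a).1]
      rw [hii, ← ha, ← mulL_assoc, ← mulL_assoc, (entry_inv a).2, (mulL_one _).2, mulL_assoc,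
        (entry_inv a).2, (mulL_one _).1]
    rw [ha'] at hw
    obtain ⟨h1, h2⟩ := rootCount_move (F.el 1 (invL a)) (F.el u s : G)
    have hw' : (F.el 1 (invL a) : G) * (F.el u s : G) * (F.el 1 (invL a) : G)⁻¹ = (F.el w 8 : G) := by
      rw [← hw]; rfl
    rw [hw'] at h1 h2
    obtain ⟨p1, p2⟩ := prof_outer F hz w
    have hww : w * act F.k 8 w * ⟨0, F.tw⟩ = 1 := by
      have e1 : F.el w 8 * F.el w 8 = F.el 1 0 := by
        rw [F.el_one, ← hw]
        have : F.el u s * F.el u s = 1 := Subtype.ext hx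
        calc F.el 1 (invL a) * F.el u s * (F.el 1 (invL a))⁻¹ *
              (F.el 1 (invL a) * F.el u s * (F.el 1 (invL a))⁻¹)
            = F.el 1 (invL a) * (F.el u s * F.el u s) * (F.el 1 (invL a))⁻¹ := by group
          _ = 1 := by rw [this]; group
      rw [F.el_sq] at e1
      have e2 := (F.el_inj e1).1
      rw [F.sgn_self (by decide +kernel), sqE] at e2
      simpa [tz] using e2
    refine ⟨profS F.k F.tw w (F.sgn 154 154) (F.sgn 161 161), h1 ▸ p1, h2 ▸ p2, Or.inr ⟨?_, ?_⟩⟩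
    · rintro ⟨v, hv⟩
      have : F.el v 0 = F.el u s := by rw [F.el_zero]; exact Subtype.ext hv
      exact hs0 (F.el_inj this).2.symm
    · exact tab_out F.k F.tw w.v w.c hww _ _

/-- Fusion in the centraliser. -/
theorem fusion (hz2 : z * z = 1) (hz1 : z ≠ 1) {g : G} (hgC : g * z * g⁻¹ * z = z * (g * z * g⁻¹))
    (hgz : g * z * g⁻¹ ≠ z) :
    F.tw = false ∧
      (InQ F (g * z * g⁻¹) ∧ (F.k ≠ 0 → ∀ u, (F.φ u : G) = g * z * g⁻¹ → inE F.k u.v = true) ∨
        F.k = 0 ∧ ¬ InQ F (g * z * g⁻¹) ∧ ¬ InQ F (g⁻¹ * z * g) ∧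
          rootCount z (g⁻¹ * z * g) = rootCount z (g * z * g⁻¹) ∧
          (rootCount z (g * z * g⁻¹) = 16 ∨ rootCount z (g * z * g⁻¹) = 8)) := by
  have sq : ∀ h : G, h * z * h⁻¹ * (h * z * h⁻¹) = 1 := fun h => by
    rw [show h * z * h⁻¹ * (h * z * h⁻¹) = h * (z * z) * h⁻¹ by group, hz2]; group
  have ne1 : ∀ h : G, h * z * h⁻¹ ≠ 1 := fun h e => hz1 (by
    have := congrArg (fun t => h⁻¹ * t * h) e
    simpa [mul_assoc] using this)
  have hg'C : g⁻¹ * z * g * z = z * (g⁻¹ * z * g) := by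
    have := congrArg (fun t => g⁻¹ * t * g) hgC
    simp only [mul_assoc, inv_mul_cancel_left, inv_mul_cancel, mul_one] at this ⊢
    exact this.symm
  have hg'z : g⁻¹ * z * g ≠ z := fun h => hgz (by
    have := congrArg (fun t => g * t * g⁻¹) h
    simpa [mul_assoc] using this.symm)
  obtain ⟨p, hp1, hp2, hp⟩ := profile F hz (sq g) (ne1 g) hgz hgC
  have sq' := sq g⁻¹
  have ne1' := ne1 g⁻¹
  rw [inv_inv] at sq' ne1'
  obtain ⟨q, hq1, hq2, hq⟩ := profile F hz sq' ne1' hg'z hg'C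
  have c1 := rootCount_conj g⁻¹ z (g * z * g⁻¹)
  have c2 := rootCount_conj g⁻¹ (g * z * g⁻¹) z
  rw [inv_inv, show g⁻¹ * (g * z * g⁻¹) * g = z by group] at c1 c2
  have e1 : q.2 = p.1 := by omega
  have e2 : q.1 = p.2 := by omega
  have hpm : p ∈ inList F.k F.tw ++ outList F.k F.tw :=
    List.mem_append.2 (hp.imp (fun h => h.2.1) fun h => h.2)
  have hqm : (p.2, p.1) ∈ inList F.k F.tw ++ outList F.k F.tw := by
    rw [← e1, ← e2]
    exact List.mem_append.2 (hq.imp (fun h => h.2.1) fun h => h.2)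
  obtain ⟨htw, hpp, hcase⟩ := tab_swap F.k F.tw p hpm hqm
  have hin : ∀ r ∈ inList F.k F.tw, r.1 ≠ 8 ∧ r.1 ≠ 4 := by
    have : ∀ (k : Fin 3) (tw : Bool), ∀ r ∈ inList k tw, r.1 ≠ 8 ∧ r.1 ≠ 4 := by decide +kernel
    exact this _ _
  refine ⟨htw, ?_⟩
  rcases hp with ⟨hi, hpi, hE⟩ | ⟨ho, hpo⟩
  · refine Or.inl ⟨hi, fun hk => hE hk ?_⟩
    rcases hcase with h | ⟨-, h | h⟩
    · exact Prod.ext h (hpp.trans h)
    · exact absurd h (hin p hpi).1
    · exact absurd h (hin p hpi).2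
  · rcases hcase with h | ⟨hk, h⟩
    · exact absurd h (lists_apart _ _ p hpo)
    refine Or.inr ⟨hk, ho, fun hi' => ?_, ?_, ?_⟩
    · rcases hq with ⟨-, hqi, -⟩ | ⟨ho', -⟩
      · rcases h with h | h
        · exact (hin q hqi).1 (by omega)
        · exact (hin q hqi).2 (by omega)
      · exact ho' hi'
    · omega
    · omega

end Group

end CfsgLib.HeldCentre
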