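import Cfsg.Agent.HeldCentre.CanonComplement
import Cfsg.Agent.HeldCentre.OpenSide

/-!
The root elements beyond the centraliser supplied by a closed side.
-/

set_option autoImplicit false
set_option maxRecDepth 8000

namespace CfsgLib.HeldCentre

open Subgroup Matrix

/-- The root in the side over an index. -/
def pa (k : Fin 3) : P := dec (2 ^ k.val)

/-- The root in the other side over an index. -/
def pb (k : Fin 3) : P := dec (8 * 2 ^ k.val)

/-- The transvections of the standard complement. -/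
def pe (i j : Fin 3) : P :=
  dec ([0, 6656, 13056, 512, 0, 2304, 128, 256, 0].getD (3 * i.val + j.val) 0)

/-- The coordinates of a member of the side. -/
def decV (u : E7) : V4 := fun i =>
  if i.val = 3 then (if u.c then 1 else 0) else (if u.v.val.testBit i.val then 1 else 0)

theorem decV_enc : ∀ r : V4, decV (enc true r) = r := by decide +kernel

theorem enc_decV : ∀ (v : Fin 64) (c : Bool), side true v = true → enc true (decV ⟨v, c⟩) = ⟨v, c⟩ := by
  decide +kernel

/-- The action of a pair on the side. -/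
def actP (q : P) (r : V4) : V4 := decV (cjP q (enc true r, (0 : Fin 168))).1

/-- The action of the new roots. -/
def actT (l : Fin 3) (r : V4) : V4 := fun i => if i.val = l.val then r i + r 3 else r i

/-- The matrix of the new roots. -/
def matT (l : Fin 3) : Matrix (Fin 4) (Fin 4) (ZMod 2) :=
  Matrix.transvection l.castSucc 3 1

theorem matT_spec : ∀ (l : Fin 3) (r : V4), matT l *ᵥ r = actT l r := by decide +kernel

theorem matT_sq : ∀ l : Fin 3, matT l * matT l = 1 := by decide +kernel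

/-- The further roots. -/
structure Roots {G : Type*} [Group G] {z : G} (F : Frame (centralizer ({z} : Set G)))
    (χ : Fin 168 → Bool) where
  /-- The roots. -/
  p : Fin 3 → G
  sq : ∀ l, p l * p l = 1
  pp : ∀ l m, Commute (p l) (p m)
  p_a : ∀ l k, Commute (p l) (iotaG F χ (pa k))
  p_b : ∀ l k, k ≠ l →
    iotaG F χ (pb k) * p l * iotaG F χ (pb k) * p l = iotaG F χ (pe k l)
  p_e : ∀ l i j, i ≠ j → i ≠ l → Commute (iotaG F χ (pe i j)) (p l)
  p_el : ∀ l m, l ≠ m → p l * iotaG F χ (pe l m) * p l * iotaG F χ (pe l m) = p m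
  p_z : ∀ l, iotaG F χ pZ * p l * iotaG F χ pZ * p l = iotaG F χ (pa l)
  weyl : ∀ l, (p l * iotaG F χ (pb l)) * (p l * iotaG F χ (pb l)) * (p l * iotaG F χ (pb l)) = 1
  mem : ∀ l, p l ∈ sideNorm F true

theorem tab_sq : ∀ (l : Fin 3) (r : V4), actT l (actT l r) = r := by decide +kernel

theorem tab_pp : ∀ (l m : Fin 3) (r : V4), actT l (actT m r) = actT m (actT l r) := by decide +kernel

theorem tab_b : ∀ (l k : Fin 3), k ≠ l → ∀ r : V4,
    actP (pb k) (actT l (actP (pb k) (actT l r))) = actP (pe k l) r := by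
  decide +kernel

theorem tab_e : ∀ (l i j : Fin 3), i ≠ j → i ≠ l → ∀ r : V4,
    actP (pe i j) (actT l r) = actT l (actP (pe i j) r) := by
  decide +kernel

theorem tab_el : ∀ (l m : Fin 3), l ≠ m → ∀ r : V4,
    actT l (actP (pe l m) (actT l (actP (pe l m) r))) = actT m r := by
  decide +kernel

theorem tab_weyl : ∀ (l : Fin 3) (r : V4),
    actT l (actP (pb l) (actT l (actP (pb l) (actT l (actP (pb l) r))))) = r := by
  decide +kernel

theorem pb_pe_spec : ∀ k : Fin 3, (side false (pb k).1.v = true ∧ (pb k).1.c = false) ∧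
    ∀ j : Fin 3, (pe k j).1 = ⟨0, false⟩ := by
  decide +kernel

theorem pa_spec : ∀ k : Fin 3, (pa k).2 = 0 ∧ side true (pa k).1.v = true ∧
    decV (pa k).1 = fun i => if i.val = k.val then 1 else 0 := by
  decide +kernel

variable {G : Type*} [Group G] [Finite G] {z : G} {F : Frame (centralizer ({z} : Set G))}
variable {χ : Fin 168 → Bool} (hχ : IsSection F χ) (hk : F.k = 0)

/-- A member of the side from its coordinates. -/
def sideEl (F : Frame (centralizer ({z} : Set G))) (r : V4) : G :=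
  sideHom F true (Multiplicative.ofAdd r)

theorem sideEl_mem (r : V4) : sideEl F r ∈ sideGroup F true := ⟨_, rfl⟩

theorem sideEl_injective : Function.Injective (sideEl F) := fun _ _ e =>
  Multiplicative.ofAdd.injective (sideHom_injective F true e)

theorem sideEl_add (r s : V4) : sideEl F (r + s) = sideEl F r * sideEl F s :=
  map_mul (sideHom F true) (Multiplicative.ofAdd r) (Multiplicative.ofAdd s)

theorem exists_sideEl {x : G} (hx : x ∈ sideGroup F true) : ∃ r, sideEl F r = x := by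
  obtain ⟨r, hr⟩ := hx
  exact ⟨r.toAdd, hr⟩

include hχ in
theorem sideEl_eq (r : V4) : sideEl F r = iotaG F χ (enc true r, 0) := by
  rw [iotaG_inner hχ]
  rfl

include hχ hk in
theorem conj_sideEl (q : P) (r : V4) :
    iotaG F χ q * sideEl F r * (iotaG F χ q)⁻¹ = sideEl F (actP q r) := by
  rw [sideEl_eq hχ, ← iotaG_cjP hχ hk, sideEl_eq hχ]
  congr 1
  obtain ⟨u, l⟩ := q
  have h2 : (cjP (u, l) (enc true r, (0 : Fin 168))).2 = 0 := by
    show mulL (mulL l 0) (invL l) = 0
    rw [(mulL_one l).1, (entry_inv l).1]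
  have hv : side true (cjP (u, l) (enc true r, (0 : Fin 168))).1.v = true := by
    have h := conj_mem_sideGroup F hk true (iota F χ (u, l)) (sideEl_mem (F := F) r)
    obtain ⟨w, hw, hwe⟩ := (mem_sideGroup F).1 h
    have e : cjP (u, l) (enc true r, (0 : Fin 168)) = (w, 0) := by
      apply iotaG_injective (F := F) (χ := χ)
      rw [iotaG_cjP hχ hk, ← sideEl_eq hχ, iotaG_inner hχ, hwe]
      rfl
    rw [e]
    exact hw
  refine Prod.ext ?_ h2
  exact (enc_decV _ _ hv).symm

include hk in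
/-- Automorphisms of the side are realised by the complement. -/
theorem exists_of_matrix (hz : (F.φ E7.zc : G) = z) (hz1 : z ≠ 1) (hf : FusedSide F true)
    (hc : ClosedSide F true) {H : Subgroup G} (hH : IsSideComplement F H)
    (A : Matrix (Fin 4) (Fin 4) (ZMod 2)) (hA : A * A = 1) :
    ∃ h ∈ H, ∀ r, h * sideEl F r * h⁻¹ = sideEl F (A *ᵥ r) := by
  classical
  haveI : Fact (Nat.Prime 2) := ⟨Nat.prime_two⟩
  have hcj : ∀ (h : H) (r : V4), ∃ s, sideEl F s = (h : G) * sideEl F r * (h : G)⁻¹ := fun h r =>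
    exists_sideEl ((mem_set_normalizer_iff.1 (hH.le h.2) _).1 (sideEl_mem r))
  choose cj hcj' using hcj
  have cj_add : ∀ h r s, cj h (r + s) = cj h r + cj h s := fun h r s => sideEl_injective (F := F) (by
    rw [sideEl_add, hcj', hcj', hcj', sideEl_add]; group)
  let L (h : H) : V4 →ₗ[ZMod 2] V4 := (AddMonoidHom.mk' (cj h) (cj_add h)).toZModLinearMap 2
  let M (h : H) : Matrix (Fin 4) (Fin 4) (ZMod 2) := LinearMap.toMatrix' (L h)
  have hM : ∀ h r, M h *ᵥ r = cj h r := fun h r => by
    rw [LinearMap.toMatrix'_mulVec]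
    rfl
  have hMmul : ∀ h k, M (h * k) = M h * M k := fun h k => by
    apply Matrix.ext_of_mulVec_single
    intro i
    rw [← Matrix.mulVec_mulVec, hM, hM, hM]
    apply sideEl_injective (F := F)
    rw [hcj', hcj', hcj', Subgroup.coe_mul]
    group
  have hM1 : M 1 = 1 := by
    apply Matrix.ext_of_mulVec_single
    intro i
    rw [hM, Matrix.one_mulVec]
    apply sideEl_injective (F := F)
    rw [hcj', Subgroup.coe_one]
    group
  let Mu : H →* GL (Fin 4) (ZMod 2) :=
    { toFun := fun h => ⟨M h, M h⁻¹, by rw [← hMmul, mul_inv_cancel, hM1],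
        by rw [← hMmul, inv_mul_cancel, hM1]⟩
      map_one' := Units.ext hM1
      map_mul' := fun h k => Units.ext (hMmul h k) }
  have hker : ∀ h : H, M h = 1 → h = 1 := fun h hh => by
    refine Subtype.ext (hH.disjoint _ h.2 (sideGroup_centralizer F hk hz fun x hx => ?_))
    obtain ⟨r, rfl⟩ := exists_sideEl hx
    have h2 := hcj' h r
    rw [← hM, hh, Matrix.one_mulVec] at h2
    conv_rhs => rw [h2]
    group
  have hcard : Nat.card H = 20160 := by
    have hEN : sideGroup F true ≤ sideNorm F true := le_normalizer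
    let f : sideGroup F true × H → sideNorm F true := fun p =>
      ⟨(p.1 : G) * (p.2 : G), mul_mem (hEN p.1.2) (hH.le p.2.2)⟩
    have hf' : Function.Bijective f := by
      constructor
      · rintro ⟨⟨a, ha⟩, ⟨h, hh⟩⟩ ⟨⟨b, hb⟩, ⟨k, hk'⟩⟩ e
        have e' : a * h = b * k := congrArg Subtype.val e
        have e1 : b⁻¹ * a = k * h⁻¹ := by
          rw [eq_mul_inv_iff_mul_eq, mul_assoc, e', inv_mul_cancel_left]
        have h1 := hH.disjoint _ (mul_mem hk' (inv_mem hh)) (e1 ▸ mul_mem (inv_mem hb) ha)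
        obtain rfl := mul_inv_eq_one.1 h1
        obtain rfl := mul_right_cancel e'
        rfl
      · rintro ⟨n, hn⟩
        obtain ⟨e, he, h, hh, rfl⟩ := hH.cover n hn
        exact ⟨(⟨e, he⟩, ⟨h, hh⟩), rfl⟩
    have := Nat.card_congr (Equiv.ofBijective f hf')
    rw [Nat.card_prod, card_sideGroup, card_sideNorm F hk hz hz1 hf hc] at this
    omega
  have hMu : Function.Bijective Mu := by
    refine (Nat.bijective_iff_injective_and_card Mu).2
      ⟨(injective_iff_map_eq_one Mu).2 fun h hh => hker h (congrArg Units.val hh), ?_⟩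
    rw [hcard, Matrix.card_GL_field, ZMod.card]
    simp [Fin.prod_univ_succ]
  obtain ⟨h, hh⟩ := hMu.2 ⟨A, A, hA, hA⟩
  refine ⟨h, h.2, fun r => ?_⟩
  rw [← hcj', ← hM]
  congr 2
  exact congrArg Units.val hh

include hχ hk in
/-- A closed fused side supplies the roots. -/
theorem exists_roots (htw : F.tw = false) (hz : (F.φ E7.zc : G) = z) (hz1 : z ≠ 1)
    (hf : FusedSide F true) (hc : ClosedSide F true) : Nonempty (Roots F χ) := by
  obtain ⟨H, hH, hτ⟩ := exists_canonical_complement hk htw hz hz1 hf hc hχ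
  choose p hp hpr using fun l => exists_of_matrix hk hz hz1 hf hc hH (matT l) (matT_sq l)
  simp only [matT_spec] at hpr
  -- the roots of the centraliser in the complement
  have hPb : ∀ k, iotaG F χ (pb k) ∈ H := fun k => by
    obtain ⟨⟨hs, hc0⟩, -⟩ := pb_pe_spec k
    have e : pb k = ((⟨(pb k).1.v, false⟩ : E7), (pb k).2) := by rw [← hc0]
    rw [e]
    exact hτ _ _ hs
  have hPe : ∀ i j, iotaG F χ (pe i j) ∈ H := fun i j => by
    have e : pe i j = ((⟨0, false⟩ : E7), (pe i j).2) := by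
      rw [← (pb_pe_spec i).2 j]
    rw [e]
    exact hτ 0 _ (by decide +kernel)
  have faithful : ∀ x ∈ H, (∀ r, x * sideEl F r * x⁻¹ = sideEl F r) → x = 1 := fun x hx h =>
    hH.disjoint x hx (sideGroup_centralizer F hk hz fun y hy => by
      obtain ⟨r, rfl⟩ := exists_sideEl hy
      exact mul_inv_eq_iff_eq_mul.1 (h r))
  have eqH : ∀ x ∈ H, ∀ y ∈ H, ∀ (f : V4 → V4), (∀ r, x * sideEl F r * x⁻¹ = sideEl F (f r)) →
      (∀ r, y * sideEl F r * y⁻¹ = sideEl F (f r)) → x = y := by
    intro x hx y hy f hfx hfy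
    refine (inv_mul_eq_one.1 (faithful (x⁻¹ * y) (mul_mem (inv_mem hx) hy) fun r => ?_))
    calc x⁻¹ * y * sideEl F r * (x⁻¹ * y)⁻¹ = x⁻¹ * (y * sideEl F r * y⁻¹) * x := by group
      _ = x⁻¹ * (x * sideEl F r * x⁻¹) * x := by rw [hfx, hfy]
      _ = sideEl F r := by group
  have comp : ∀ (x y : G) (f f' : V4 → V4), (∀ r, x * sideEl F r * x⁻¹ = sideEl F (f r)) →
      (∀ r, y * sideEl F r * y⁻¹ = sideEl F (f' r)) →
      ∀ r, (x * y) * sideEl F r * (x * y)⁻¹ = sideEl F (f (f' r)) := by
    intro x y f f' hx hy r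
    calc x * y * sideEl F r * (x * y)⁻¹ = x * (y * sideEl F r * y⁻¹) * x⁻¹ := by group
      _ = _ := by rw [hy, hx]
  have one' : ∀ r, (1 : G) * sideEl F r * (1 : G)⁻¹ = sideEl F r := fun r => by group
  have cb := fun k => conj_sideEl hχ hk (pb k)
  have ce := fun i j => conj_sideEl hχ hk (pe i j)
  refine ⟨⟨p, fun l => ?_, fun l m => ?_, fun l k => ?_, fun l k hkl => ?_, fun l i j hij hil => ?_,
    fun l m hlm => ?_, fun l => ?_, fun l => ?_, fun l => hH.le (hp l)⟩⟩
  · refine eqH _ (mul_mem (hp l) (hp l)) _ (one_mem _) id (fun r => ?_) one'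
    rw [comp _ _ _ _ (hpr l) (hpr l) r, tab_sq]
    rfl
  · exact eqH _ (mul_mem (hp l) (hp m)) _ (mul_mem (hp m) (hp l)) (fun r => actT m (actT l r))
      (fun r => by rw [comp _ _ _ _ (hpr l) (hpr m) r, tab_pp])
      (comp _ _ _ _ (hpr m) (hpr l))
  · obtain ⟨hl0, hs, hd⟩ := pa_spec k
    have hp' := hpr l (decV (pa k).1)
    have e : sideEl F (decV (pa k).1) = iotaG F χ (pa k) := by
      rw [sideEl_eq hχ, show (pa k).1 = ⟨(pa k).1.v, (pa k).1.c⟩ from rfl, enc_decV _ _ hs]
      exact congrArg _ (Prod.ext rfl hl0.symm)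
    have e2 : actT l (decV (pa k).1) = decV (pa k).1 := by
      have key : ∀ (l k : Fin 3), actT l (decV (pa k).1) = decV (pa k).1 := by decide +kernel
      exact key l k
    rw [e2, e] at hp'
    exact mul_inv_eq_iff_eq_mul.1 hp'
  · refine eqH _ (mul_mem (mul_mem (mul_mem (hPb k) (hp l)) (hPb k)) (hp l)) _ (hPe k l)
      (actP (pe k l)) (fun r => ?_) (ce k l)
    rw [comp _ _ _ _ (comp _ _ _ _ (comp _ _ _ _ (cb k) (hpr l)) (cb k)) (hpr l) r, tab_b l k hkl]
  · exact eqH _ (mul_mem (hPe i j) (hp l)) _ (mul_mem (hp l) (hPe i j))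
      (fun r => actT l (actP (pe i j) r))
      (fun r => by rw [comp _ _ _ _ (ce i j) (hpr l) r, tab_e l i j hij hil])
      (comp _ _ _ _ (hpr l) (ce i j))
  · refine eqH _ (mul_mem (mul_mem (mul_mem (hp l) (hPe l m)) (hp l)) (hPe l m)) _ (hp m)
      (actT m) (fun r => ?_) (hpr m)
    rw [comp _ _ _ _ (comp _ _ _ _ (comp _ _ _ _ (hpr l) (ce l m)) (hpr l)) (ce l m) r,
      tab_el l m hlm]
  · obtain ⟨hl0, hs, hd⟩ := pa_spec l
    have hsq : p l * p l = 1 := by
      refine eqH _ (mul_mem (hp l) (hp l)) _ (one_mem _) id (fun r => ?_) one'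
      rw [comp _ _ _ _ (hpr l) (hpr l) r, tab_sq]
      rfl
    have ezc : iotaG F χ pZ = sideEl F ![0, 0, 0, 1] := by
      rw [sideEl_eq hχ, show (enc true ![0, 0, 0, 1], (0 : Fin 168)) = pZ by decide +kernel]
    have e : sideEl F (![0, 0, 0, 1] + actT l ![0, 0, 0, 1]) = iotaG F χ (pa l) := by
      rw [sideEl_eq hχ]
      have key : ∀ l : Fin 3,
          (enc true (![0, 0, 0, 1] + actT l ![0, 0, 0, 1]), (0 : Fin 168)) = pa l := by decide +kernel
      rw [key l]
    rw [ezc, ← e, sideEl_add, ← hpr l, inv_eq_of_mul_eq_one_right hsq]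
    group
  · refine eqH _ (mul_mem (mul_mem (mul_mem (hp l) (hPb l)) (mul_mem (hp l) (hPb l)))
      (mul_mem (hp l) (hPb l))) _ (one_mem _) id (fun r => ?_) one'
    have c1 := comp _ _ _ _ (hpr l) (cb l)
    rw [comp _ _ _ _ (comp _ _ _ _ c1 c1) c1 r, tab_weyl]
    rfl

end CfsgLib.HeldCentre
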