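import Cfsg.Agent.HeldCentre.Setting

/-!
Involution lifts that square to one make the central extension of `SL₃(2)` split.
-/

set_option autoImplicit false

namespace CfsgLib.HeldCentre

/-- Three elements satisfying the relations of `L₂(7)` generate at most 168 elements. -/
theorem card_closure_le {M : Type*} [Group M] [Finite M] {f h s : M} (hf : f ^ 7 = 1)
    (hh : h ^ 3 = 1) (hfh : h * f = f ^ 2 * h) (hs : s * s = 1) (hsh : s * h = h ^ 2 * s)
    (hsf : s * f * s = f ^ 6 * s * f ^ 6) :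
    Nat.card (Subgroup.closure ({f, h, s} : Set M)) ≤ 168 := by
  classical
  have fmod : ∀ a : ℕ, f ^ a = f ^ (a % 7) := fun a => pow_eq_pow_mod a hf
  have hmod : ∀ a : ℕ, h ^ a = h ^ (a % 3) := fun a => pow_eq_pow_mod a hh
  have hpow : ∀ a : ℕ, h * f ^ a = f ^ (2 * a) * h := by
    intro a
    induction a with
    | zero => simp
    | succ a ih =>
      rw [pow_succ, ← mul_assoc, ih, mul_assoc, hfh, ← mul_assoc, ← pow_add, Nat.mul_succ]
  have hfpow : ∀ a : ℕ, f ^ a * h = h * f ^ (4 * a) := fun a => by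
    rw [hpow, fmod (2 * (4 * a)), fmod a]
    congr 2
    omega
  have hbpow : ∀ b a : ℕ, ∃ a', h ^ b * f ^ a = f ^ a' * h ^ b := by
    intro b
    induction b with
    | zero => exact fun a => ⟨a, by simp⟩
    | succ b ih =>
      intro a
      obtain ⟨a', ha'⟩ := ih (2 * a)
      exact ⟨a', by rw [pow_succ, mul_assoc, hpow, ← mul_assoc, ha', mul_assoc]⟩
  have hfbpow : ∀ b a : ℕ, ∃ a', f ^ a * h ^ b = h ^ b * f ^ a' := by
    intro b
    induction b with
    | zero => exact fun a => ⟨a, by simp⟩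
    | succ b ih =>
      intro a
      obtain ⟨a', ha'⟩ := ih a
      exact ⟨4 * a', by rw [pow_succ, ← mul_assoc, ha', mul_assoc, hfpow, mul_assoc]⟩
  have shb : ∀ b : ℕ, s * h ^ b = h ^ (2 * b) * s := by
    intro b
    induction b with
    | zero => simp
    | succ b ih =>
      rw [pow_succ, ← mul_assoc, ih, mul_assoc, hsh, ← mul_assoc, ← pow_add, Nat.mul_succ]
  -- conjugates of powers by the involution
  have key : ∀ a : ℕ, a % 7 ≠ 0 → ∃ x y w : ℕ, s * f ^ a * s = f ^ x * h ^ y * s * f ^ w := by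
    have step : ∀ a : ℕ, (∃ x y w : ℕ, s * f ^ a * s = f ^ x * h ^ y * s * f ^ w) →
        ∃ x y w : ℕ, s * f ^ (4 * a) * s = f ^ x * h ^ y * s * f ^ w := by
      rintro a ⟨x, y, w, e⟩
      refine ⟨2 * x, y + 1 + 4, 4 * (4 * w), ?_⟩
      have h1 : s * f ^ (4 * a) * s = h * (s * f ^ a * s) * h ^ 2 := by
        have e1 : h * s = s * h ^ 2 := by
          rw [shb, hmod (2 * 2), show (2 * 2 : ℕ) % 3 = 1 from rfl, pow_one]
        have e2 : s * h ^ 2 = h * s := e1.symm
        calc s * f ^ (4 * a) * s = s * (h ^ 3 * f ^ (4 * a)) * s := by rw [hh, one_mul]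
          _ = s * h ^ 2 * (h * f ^ (4 * a)) * s := by
              rw [pow_succ h 2]; simp only [mul_assoc]
          _ = h * s * (f ^ a * h) * s := by rw [e2, ← hfpow]
          _ = h * (s * f ^ a * (h * s)) := by simp only [mul_assoc]
          _ = h * (s * f ^ a * s) * h ^ 2 := by rw [e1]; simp only [mul_assoc]
      rw [h1, e]
      have e3 : ∀ w : ℕ, f ^ w * h ^ 2 = h ^ 2 * f ^ (4 * (4 * w)) := fun w => by
        rw [sq, ← mul_assoc, hfpow, mul_assoc, hfpow, mul_assoc]
      calc h * (f ^ x * h ^ y * s * f ^ w) * h ^ 2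
          = (h * f ^ x) * h ^ y * s * (f ^ w * h ^ 2) := by simp only [mul_assoc]
        _ = f ^ (2 * x) * (h ^ (y + 1)) * (s * h ^ 2) * f ^ (4 * (4 * w)) := by
            rw [hpow, e3, pow_succ' h y]; simp only [mul_assoc]
        _ = _ := by
            rw [shb, pow_add h (y + 1) 4]
            simp only [mul_assoc, Nat.reduceMul]
    have k1 : ∃ x y w : ℕ, s * f ^ 1 * s = f ^ x * h ^ y * s * f ^ w :=
      ⟨6, 0, 6, by rw [pow_one, hsf, pow_zero, mul_one]⟩
    have k6 : ∃ x y w : ℕ, s * f ^ 6 * s = f ^ x * h ^ y * s * f ^ w := by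
      refine ⟨1, 0, 1, ?_⟩
      have hsi : s⁻¹ = s := inv_eq_of_mul_eq_one_right hs
      have f6 : f ^ 6 = f⁻¹ := eq_inv_of_mul_eq_one_left (by rw [← pow_succ]; exact hf)
      have := congrArg (fun t => t⁻¹) hsf
      simp only [mul_inv_rev, hsi, f6, inv_inv] at this
      rw [f6, pow_one, pow_zero, mul_one, mul_assoc f s f]
      rw [mul_assoc, this]
    have fromMod : ∀ a b : ℕ, a % 7 = b % 7 →
        (∃ x y w : ℕ, s * f ^ b * s = f ^ x * h ^ y * s * f ^ w) →
        ∃ x y w : ℕ, s * f ^ a * s = f ^ x * h ^ y * s * f ^ w := fun a b hab hb => by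
      rwa [fmod a, hab, ← fmod b]
    intro a ha
    have : a % 7 < 7 := Nat.mod_lt _ (by norm_num)
    interval_cases hr : a % 7
    · exact absurd rfl ha
    · exact fromMod a 1 hr k1
    · exact fromMod a 16 hr (step 4 (step 1 k1))
    · exact fromMod a 24 hr (step 6 k6)
    · exact fromMod a 4 hr (step 1 k1)
    · exact fromMod a 96 hr (step 24 (step 6 k6))
    · exact fromMod a 6 hr k6
  -- the set of normal forms
  let K : Set M := {g | ∃ a b : ℕ, g = f ^ a * h ^ b ∨ ∃ c : ℕ, g = f ^ a * h ^ b * s * f ^ c}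
  have Kf : ∀ g ∈ K, f * g ∈ K := by
    rintro g ⟨a, b, rfl | ⟨c, rfl⟩⟩
    · exact ⟨a + 1, b, Or.inl (by rw [pow_succ', mul_assoc])⟩
    · exact ⟨a + 1, b, Or.inr ⟨c, by rw [pow_succ']; simp only [mul_assoc]⟩⟩
  have Kh : ∀ g ∈ K, h * g ∈ K := by
    rintro g ⟨a, b, rfl | ⟨c, rfl⟩⟩
    · exact ⟨2 * a, b + 1, Or.inl (by rw [← mul_assoc, hpow, mul_assoc, pow_succ'])⟩
    · exact ⟨2 * a, b + 1, Or.inr ⟨c, by
        simp only [← mul_assoc]
        rw [hpow, pow_succ']
        simp only [mul_assoc]⟩⟩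
  have Ks : ∀ g ∈ K, s * g ∈ K := by
    rintro g ⟨a, b, rfl | ⟨c, rfl⟩⟩
    · obtain ⟨a', ha'⟩ := hfbpow b a
      exact ⟨0, 2 * b, Or.inr ⟨a', by rw [ha', ← mul_assoc, shb, pow_zero, one_mul]⟩⟩
    · by_cases ha : a % 7 = 0
      · obtain ⟨c', hc'⟩ := hbpow (2 * b) c
        refine ⟨c', 2 * b, Or.inl ?_⟩
        rw [fmod a, ha, pow_zero, one_mul, ← hc']
        calc s * (h ^ b * s * f ^ c) = s * h ^ b * (s * f ^ c) := by simp only [mul_assoc]
          _ = h ^ (2 * b) * (s * s) * f ^ c := by rw [shb]; simp only [mul_assoc]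
          _ = _ := by rw [hs, mul_one]
      · obtain ⟨x, y, w, e⟩ := key a ha
        obtain ⟨w', hw'⟩ := hfbpow (2 * b) w
        refine ⟨x, y + 2 * (2 * b), Or.inr ⟨w' + c, ?_⟩⟩
        calc s * (f ^ a * h ^ b * s * f ^ c)
            = s * f ^ a * (s * s) * (h ^ b * s) * f ^ c := by
              rw [hs, mul_one]; simp only [mul_assoc]
          _ = s * f ^ a * s * (s * h ^ b * s) * f ^ c := by simp only [mul_assoc]
          _ = f ^ x * h ^ y * s * f ^ w * (h ^ (2 * b) * (s * s)) * f ^ c := by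
              rw [e, shb]; simp only [mul_assoc]
          _ = f ^ x * h ^ y * s * (f ^ w * h ^ (2 * b)) * f ^ c := by
              rw [hs, mul_one]; simp only [mul_assoc]
          _ = f ^ x * h ^ y * (s * h ^ (2 * b)) * (f ^ w' * f ^ c) := by
              rw [hw']; simp only [mul_assoc]
          _ = _ := by
              rw [shb, ← pow_add, pow_add h]; simp only [mul_assoc]
  have hsub : ((Subgroup.closure ({f, h, s} : Set M) : Subgroup M) : Set M) ⊆ K := by
    have hfin : ∀ g ∈ ({f, h, s} : Set M), IsOfFinOrder g := fun g _ => isOfFinOrder_of_finite g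
    intro x hx
    have hmul : ∀ y ∈ Submonoid.closure ({f, h, s} : Set M), ∀ g ∈ K, y * g ∈ K := by
      intro y hy
      induction hy using Submonoid.closure_induction with
      | mem y hy =>
        simp only [Set.mem_insert_iff, Set.mem_singleton_iff] at hy
        rcases hy with rfl | rfl | rfl
        · exact Kf
        · exact Kh
        · exact Ks
      | one => intro g hg; rwa [one_mul]
      | mul a b _ _ iha ihb => intro g hg; rw [mul_assoc]; exact iha _ (ihb _ hg)
    have hx' : x ∈ Submonoid.closure ({f, h, s} : Set M) := by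
      rw [SetLike.mem_coe] at hx
      rwa [← Subgroup.mem_toSubmonoid,
        Subgroup.closure_toSubmonoid_of_isOfFinOrder hfin] at hx
    simpa using hmul x hx' 1 ⟨0, 0, Or.inl (by simp)⟩
  let T : Finset M := (Finset.univ : Finset (Fin 7 × Fin 3 × Option (Fin 7))).image fun p =>
    match p.2.2 with
    | none => f ^ p.1.val * h ^ p.2.1.val
    | some c => f ^ p.1.val * h ^ p.2.1.val * s * f ^ c.val
  have hKT : K ⊆ (T : Set M) := by
    rintro g ⟨a, b, rfl | ⟨c, rfl⟩⟩ <;> simp only [T, Finset.mem_coe, Finset.mem_image]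
    · exact ⟨(⟨a % 7, Nat.mod_lt _ (by norm_num)⟩, ⟨b % 3, Nat.mod_lt _ (by norm_num)⟩, none),
        Finset.mem_univ _, by rw [fmod a, hmod b]⟩
    · exact ⟨(⟨a % 7, Nat.mod_lt _ (by norm_num)⟩, ⟨b % 3, Nat.mod_lt _ (by norm_num)⟩,
        some ⟨c % 7, Nat.mod_lt _ (by norm_num)⟩), Finset.mem_univ _,
        by rw [fmod a, hmod b, fmod c]⟩
  calc Nat.card (Subgroup.closure ({f, h, s} : Set M))
      ≤ Nat.card (T : Set M) := Nat.card_mono T.finite_toSet (hsub.trans hKT)
    _ ≤ 168 := by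
      rw [Nat.card_coe_set_eq, Set.ncard_coe_finset]
      exact Finset.card_image_le.trans (by decide +kernel)

/-- A multiplicative choice of lifts. -/
theorem exists_section {C : Type*} [Group C] [Finite C] (F : Frame C) (htw : F.tw = false) :
    ∃ χ : Fin 168 → Bool, ∀ a b,
      F.el ⟨0, χ a⟩ a * F.el ⟨0, χ b⟩ b = F.el ⟨0, χ (mulL a b)⟩ (mulL a b) := by
  have lm : ∀ (p q : Bool) (a b : Fin 168),
      F.el ⟨0, p⟩ a * F.el ⟨0, q⟩ b = F.el ⟨0, Bool.xor (Bool.xor p q) (F.sgn a b)⟩ (mulL a b) := by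
    intro p q a b
    rw [F.el_mul]
    have : ∀ (k : Fin 3) (a : Fin 168) (q : Bool), act k a ⟨0, q⟩ = ⟨0, q⟩ := by
      intro k a q
      cases q
      · exact map_one (actHom k a)
      · exact act_zc k a
    rw [this]
    congr 1
    cases p <;> cases q <;> cases F.sgn a b <;> decide +kernel
  let lift (p : Bool) (a : Fin 168) : C := F.el ⟨0, p⟩ a
  let HC : Set C := {g | ∃ p a, g = lift p a}
  have hflip : ∀ (p : Bool) (a : Fin 168), lift p a * F.φ E7.zc = lift (!p) a := by
    intro p a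
    show F.φ ⟨0, p⟩ * F.σ a * F.φ E7.zc = F.φ ⟨0, !p⟩ * F.σ a
    rw [mul_assoc, (F.central (F.σ a)).eq, ← mul_assoc, ← map_mul, E7.mul_zc]
  have hlift0 : lift false 0 = 1 := F.el_one
  have hzz : F.φ E7.zc * F.φ E7.zc = 1 := by
    rw [← map_mul, show E7.zc * E7.zc = 1 by decide +kernel, map_one]
  -- an element of odd order over a class of odd order
  have odd_lift : ∀ (n : ℕ) (g : Fin 168), Odd n →
      (∃ p, lift false g ^ n = lift p 0) → ∃ q, lift q g ^ n = 1 := by
    rintro n g hn ⟨p, hp⟩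
    cases p
    · exact ⟨false, by rw [hp, hlift0]⟩
    · refine ⟨true, ?_⟩
      have ht : lift true g = lift false g * F.φ E7.zc := by rw [hflip]; rfl
      rw [ht, (F.central _).mul_pow, hp]
      obtain ⟨j, rfl⟩ := hn
      rw [pow_succ, pow_mul, sq, hzz, one_pow, one_mul, hflip]
      exact hlift0
  have lpow : ∀ (n : ℕ) (g : Fin 168), ∃ p, lift false g ^ n =
      lift p (Nat.iterate (fun a => mulL a g) n 0) := by
    intro n g
    induction n with
    | zero => exact ⟨false, by simp [hlift0]⟩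
    | succ n ih =>
      obtain ⟨p, hp⟩ := ih
      refine ⟨Bool.xor (Bool.xor p false) (F.sgn (Nat.iterate (fun a => mulL a g) n 0) g), ?_⟩
      rw [pow_succ, hp, Function.iterate_succ_apply']
      exact lm _ _ _ _
  obtain ⟨qf, hf⟩ := odd_lift 7 33 (by decide) (by
    obtain ⟨p, hp⟩ := lpow 7 33
    exact ⟨p, by rw [hp, show Nat.iterate (fun a => mulL a 33) 7 0 = 0 by decide +kernel]⟩)
  obtain ⟨qh, hh⟩ := odd_lift 3 10 (by decide) (by
    obtain ⟨p, hp⟩ := lpow 3 10
    exact ⟨p, by rw [hp, show Nat.iterate (fun a => mulL a 10) 3 0 = 0 by decide +kernel]⟩)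
  set f := lift qf 33 with hfdef
  set h := lift qh 10 with hhdef
  have hs0 : ∀ p, lift p 8 * lift p 8 = 1 := by
    intro p
    show F.el _ 8 * F.el _ 8 = 1
    rw [lm, F.sgn_self (by decide +kernel), htw, show mulL 8 8 = 0 by decide +kernel]
    cases p <;> exact F.el_one
  -- the two signs of the last relation
  obtain ⟨qs, hsf⟩ : ∃ qs, lift qs 8 * f * lift qs 8 = f ^ 6 * lift qs 8 * f ^ 6 := by
    obtain ⟨p6, h6⟩ : ∃ p, f ^ 6 = lift p (invL 33) := by
      have : f ^ 6 = f⁻¹ := eq_inv_of_mul_eq_one_left (by rw [← pow_succ]; exact hf)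
      obtain ⟨x, l, hx⟩ := F.el_surj f⁻¹
      refine ⟨Bool.xor qf (F.sgn 33 (invL 33)), ?_⟩
      rw [this, eq_comm, eq_inv_iff_mul_eq_one]
      show F.el _ (invL 33) * F.el _ 33 = 1
      have hs : F.sgn (invL 33) 33 = F.sgn 33 (invL 33) := by
        have e1 := lm false false 33 (invL 33)
        have e2 := lm false false (invL 33) 33
        rw [(entry_inv 33).1] at e1
        rw [(entry_inv 33).2] at e2
        have hc1 : F.el ⟨0, false⟩ (invL 33) = (F.el ⟨0, false⟩ 33)⁻¹ *
            F.el ⟨0, Bool.xor (Bool.xor false false) (F.sgn 33 (invL 33))⟩ 0 := by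
          rw [← e1, inv_mul_cancel_left]
        rw [hc1, mul_assoc, F.el_zero, ← (F.commute_c (F.el ⟨0, false⟩ 33) _).eq,
          inv_mul_cancel_left, F.el_zero] at e2
        have := congrArg E7.c (F.inj e2)
        simpa using this.symm
      rw [lm, hs, (entry_inv 33).2]
      cases qf <;> cases F.sgn 33 (invL 33) <;> exact F.el_one
    have lm2 : ∀ p q a b, ∃ r, lift p a * lift q b = lift r (mulL a b) :=
      fun p q a b => ⟨Bool.xor (Bool.xor p q) (F.sgn a b), lm p q a b⟩
    have hcl : ∀ q, ∃ p, lift q 8 * f * lift q 8 = lift p (mulL (mulL 8 33) 8) := fun q => by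
      obtain ⟨r1, h1⟩ := lm2 q qf 8 33
      obtain ⟨r2, h2⟩ := lm2 r1 q (mulL 8 33) 8
      exact ⟨r2, by rw [hfdef, h1, h2]⟩
    obtain ⟨p, hp⟩ := hcl false
    have hr : ∃ r, f ^ 6 * lift false 8 * f ^ 6 = lift r (mulL (mulL 8 33) 8) := by
      obtain ⟨r1, h1⟩ := lm2 p6 false (invL 33) 8
      obtain ⟨r2, h2⟩ := lm2 r1 p6 (mulL (invL 33) 8) (invL 33)
      exact ⟨r2, by
        rw [h6, h1, h2,
          show mulL (mulL (invL 33) 8) (invL 33) = mulL (mulL 8 33) 8 by decide +kernel]⟩
    obtain ⟨r, hr⟩ := hr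
    by_cases hpr : p = r
    · exact ⟨false, by rw [hp, hr, hpr]⟩
    · refine ⟨true, ?_⟩
      have ht : lift true 8 = lift false 8 * F.φ E7.zc := by rw [hflip]; rfl
      rw [ht]
      calc lift false 8 * F.φ E7.zc * f * (lift false 8 * F.φ E7.zc)
          = lift false 8 * (F.φ E7.zc * f) * lift false 8 * F.φ E7.zc := by simp only [mul_assoc]
        _ = lift false 8 * f * (F.φ E7.zc * lift false 8) * F.φ E7.zc := by
            rw [← (F.central f).eq]; simp only [mul_assoc]
        _ = lift false 8 * f * lift false 8 * (F.φ E7.zc * F.φ E7.zc) := by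
            rw [← (F.central (lift false 8)).eq]; simp only [mul_assoc]
        _ = lift p (mulL (mulL 8 33) 8) := by rw [hzz, mul_one, hp]
        _ = lift r (mulL (mulL 8 33) 8) * F.φ E7.zc := by
            rw [hflip]
            have : (!r) = p := by cases p <;> cases r <;> first | rfl | exact absurd rfl hpr
            rw [this]
        _ = _ := by
            rw [← hr]
            simp only [mul_assoc]
            rw [← (F.central (f ^ 6)).eq]
  set s := lift qs 8 with hsdef
  have hsh : s * h = h ^ 2 * s := by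
    -- both sides cube to one over the same class
    obtain ⟨r, hr⟩ : ∃ r, s * h * s = h ^ 2 * lift r 0 := by
      refine ⟨Bool.xor (Bool.xor (Bool.xor (Bool.xor (Bool.xor qs qh) (F.sgn 8 10)) qs)
        (F.sgn (mulL 8 10) 8)) (Bool.xor (Bool.xor qh qh) (F.sgn 10 10)), ?_⟩
      rw [sq, hsdef, hhdef]
      show F.el _ _ * F.el _ _ * F.el _ _ = F.el _ _ * F.el _ _ * F.el _ _
      rw [lm, lm, lm, lm, F.sgn_zero_right, show mulL (mulL 8 10) 8 = mulL (mulL 10 10) 0 by decide +kernel]
      congr 2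
      cases qs <;> cases qh <;> cases F.sgn 8 10 <;> cases F.sgn (mulL 8 10) 8 <;>
        cases F.sgn 10 10 <;> rfl
    have hcube : (s * h * s) ^ 3 = 1 := by
      have hsi : s⁻¹ = s := inv_eq_of_mul_eq_one_right (hs0 qs)
      calc (s * h * s) ^ 3 = (s * h * s⁻¹) ^ 3 := by rw [hsi]
        _ = 1 := by rw [conj_pow, hh, mul_one, mul_inv_cancel]
    cases r
    · rw [hlift0, mul_one] at hr
      calc s * h = s * h * (s * s) := by rw [hs0, mul_one]
        _ = _ := by rw [← mul_assoc, hr]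
    · exfalso
      have ht : lift true 0 = F.φ E7.zc := F.el_zero _
      rw [hr, ht, (F.central _).mul_pow, ← pow_mul, show 2 * 3 = 3 * 2 from rfl, pow_mul, hh,
        one_pow, one_mul, pow_succ, sq, hzz, one_mul] at hcube
      exact absurd (F.inj (hcube.trans (map_one F.φ).symm)) (by decide +kernel)
  have hfh : h * f = f ^ 2 * h := by
    obtain ⟨r, hr⟩ : ∃ r, h * f = f ^ 2 * h * lift r 0 := by
      refine ⟨Bool.xor (Bool.xor (Bool.xor qh qf) (F.sgn 10 33))
        (Bool.xor (Bool.xor (Bool.xor (Bool.xor qf qf) (F.sgn 33 33)) qh)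
          (F.sgn (mulL 33 33) 10)), ?_⟩
      rw [sq, hfdef, hhdef]
      show F.el _ _ * F.el _ _ = F.el _ _ * F.el _ _ * F.el _ _ * F.el _ _
      rw [lm, lm, lm, lm, F.sgn_zero_right,
        show mulL (mulL (mulL 33 33) 10) 0 = mulL 10 33 by decide +kernel]
      congr 2
      cases qh <;> cases qf <;> cases F.sgn 10 33 <;> cases F.sgn 33 33 <;>
        cases F.sgn (mulL 33 33) 10 <;> rfl
    cases r
    · rwa [hlift0, mul_one] at hr
    · exfalso
      have ht : lift true 0 = F.φ E7.zc := F.el_zero _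
      rw [ht] at hr
      have e : h * f * h⁻¹ = f ^ 2 * F.φ E7.zc := by
        rw [hr, mul_assoc (f ^ 2), (F.central h).eq, mul_assoc, mul_assoc, mul_inv_cancel, mul_one]
      have e7 : (h * f * h⁻¹) ^ 7 = 1 := by rw [conj_pow, hf, mul_one, mul_inv_cancel]
      rw [e, (F.central _).mul_pow, ← pow_mul, show 2 * 7 = 7 * 2 from rfl, pow_mul, hf,
        one_pow, one_mul, show 7 = 2 * 3 + 1 from rfl, pow_succ, pow_mul, sq, hzz, one_pow,
        one_mul] at e7
      exact absurd (F.inj (e7.trans (map_one F.φ).symm)) (by decide +kernel)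
  have hcard := card_closure_le hf hh hfh (hs0 qs) hsh hsf
  -- every class is reached, and only once
  set H := Subgroup.closure ({f, h, s} : Set C) with hH
  have hgen : ∀ i : Fin 3, ∃ p, lift p (genL i) ∈ H := by
    intro i
    fin_cases i
    · exact ⟨qf, Subgroup.subset_closure (by simp [hfdef, genL])⟩
    · exact ⟨qh, Subgroup.subset_closure (by simp [hhdef, genL])⟩
    · exact ⟨qs, Subgroup.subset_closure (by simp [hsdef, genL])⟩
  have hall : ∀ l : Fin 168, ∃ p, lift p l ∈ H := by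
    intro l
    suffices hw : ∀ w : List ℕ, ∃ p, lift p (evalL w) ∈ H by
      simpa only [evalL_word] using hw (wordL l)
    intro w
    induction w with
    | nil => exact ⟨false, by rw [show evalL [] = 0 from rfl, hlift0]; exact one_mem H⟩
    | cons i w ih =>
      obtain ⟨p, hp⟩ := ih
      obtain ⟨q, hq⟩ := hgen (Fin.ofNat 3 i)
      refine ⟨Bool.xor (Bool.xor q p) (F.sgn (genL (Fin.ofNat 3 i)) (evalL w)), ?_⟩
      have := H.mul_mem hq hp
      rwa [show lift q (genL (Fin.ofNat 3 i)) * lift p (evalL w) = _ from lm _ _ _ _] at this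
  choose χ hχ using hall
  let toH : Fin 168 → H := fun l => ⟨lift (χ l) l, hχ l⟩
  have hinj : Function.Injective toH := fun a b e => (F.el_inj (congrArg Subtype.val e)).2
  haveI : Fintype H := Fintype.ofFinite _
  have hbij : Function.Bijective toH := (Fintype.bijective_iff_injective_and_card _).2 ⟨hinj, by
    have h1 := Fintype.card_le_of_injective _ hinj
    rw [Nat.card_eq_fintype_card] at hcard
    rw [Fintype.card_fin] at h1 ⊢
    omega⟩
  refine ⟨χ, fun a b => ?_⟩
  obtain ⟨c, hc⟩ := hbij.2 ⟨_, H.mul_mem (hχ a) (hχ b)⟩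
  have hc' : lift (χ c) c = lift (χ a) a * lift (χ b) b := congrArg Subtype.val hc
  have hl : lift (χ a) a * lift (χ b) b = lift _ (mulL a b) := lm _ _ _ _
  rw [hl] at hc'
  have := (F.el_inj hc').2
  subst this
  exact (lm _ _ _ _).trans hc'.symm

end CfsgLib.HeldCentre
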