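import Cfsg.Agent.HeldCentre.Main
import Cfsg.Agent.LargeExtraspecial.Simplicity
import Cfsg.Agent.LargeExtraspecial.TransvectionSL

/-!
An involution whose centraliser is that of a transvection of `SL₅(2)` has a conjugate in the radical
as soon as it has one in the centraliser, for instance in a simple group.
-/

set_option autoImplicit false

namespace CfsgLib.HeldCentre

open Subgroup

variable {G : Type*} [Group G] [Finite G]

/-- In all three actions a conjugate in the centraliser gives one in the radical. -/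
theorem exists_conj_radical {z : G} (F : Frame (centralizer ({z} : Set G)))
    (hz : (F.φ E7.zc : G) = z) (hz1 : z ≠ 1)
    (hne : ∃ g : G, g * z * g⁻¹ * z = z * (g * z * g⁻¹) ∧ g * z * g⁻¹ ≠ z) :
    ∃ g : G, InQ F (g * z * g⁻¹) ∧ g * z * g⁻¹ ≠ z := by
  obtain ⟨g, hgC, hgz⟩ := hne
  have hzz : z * z = 1 := by
    rw [← hz, ← Subgroup.coe_mul, ← map_mul, show E7.zc * E7.zc = 1 by decide +kernel, map_one]
    rfl
  obtain ⟨htw, h⟩ := fusion F hz hzz hz1 hgC hgz
  rcases h with ⟨hi, -⟩ | ⟨hk, -⟩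
  · exact ⟨g, hi, hgz⟩
  · exact exists_conj_inQ F hk htw hz hz1 ⟨g, hgC, hgz⟩

/-- Coordinates on the centraliser of an involution of this kind. -/
theorem exists_frame_transvection (s : Matrix.SpecialLinearGroup (Fin 5) (ZMod 2))
    (hs : (s : Matrix (Fin 5) (Fin 5) (ZMod 2)) = Matrix.transvection 0 1 1) (z : G)
    (hz : orderOf z = 2)
    (e : centralizer ({z} : Set G) ≃*
      centralizer ({s} : Set (Matrix.SpecialLinearGroup (Fin 5) (ZMod 2)))) :
    ∃ F : Frame (centralizer ({z} : Set G)), (F.φ E7.zc : G) = z ∧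
      ∀ x, InQ F x → ∃ hx : x ∈ centralizer ({z} : Set G),
        (⟨x, hx⟩ : centralizer ({z} : Set G)) ∈ Cfsg.pCore 2 (centralizer ({z} : Set G)) := by
  haveI : Fact (Nat.Prime 2) := ⟨Nat.prime_two⟩
  set S := centralizer ({s} : Set (Matrix.SpecialLinearGroup (Fin 5) (ZMod 2))) with hS
  obtain ⟨hex, hcard, ⟨E, hEQ, hE, hEc⟩, hL, K, hKS, hinf, hsup, ⟨eK⟩⟩ :=
    CfsgLib.LargeExtraspecial.Transvection.conclusion_SL 3 (by norm_num) s hs _ rfl
  set Qs := (Cfsg.pCore 2 S).map S.subtype with hQs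
  let Q0 : Subgroup S := Cfsg.pCore 2 S
  haveI : Q0.Normal := CfsgLib.LargeExtraspecial.pCore_normal' 2 S
  let q0 : Q0 ≃* Qs := Q0.equivMapOfInjective S.subtype S.subtype_injective
  let Q : Subgroup (centralizer ({z} : Set G)) := Q0.map e.symm.toMonoidHom
  haveI : Q.Normal := Subgroup.Normal.map inferInstance _ e.symm.surjective
  let qQ : Qs ≃* Q := q0.symm.trans (Q0.equivMapOfInjective e.symm.toMonoidHom e.symm.injective)
  have hQex : Cfsg.IsExtraspecial 2 Q :=
    CfsgLib.LargeExtraspecial.isExtraspecial_of_mulEquiv qQ hex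
  have hQc : Nat.card Q = 2 ^ 7 := by
    rw [← Nat.card_congr qQ.toEquiv, hcard]
  have hplus : ∃ E' : Subgroup Q, Cfsg.IsElementaryAbelian 2 E' ∧ Nat.card E' = 2 ^ 4 := by
    let E1 : Subgroup Qs := E.subgroupOf Qs
    have hc1 : Nat.card E1 = 2 ^ 4 := by
      rw [Nat.card_congr (Subgroup.subgroupOfEquivOfLe hEQ).toEquiv, hEc]
    refine ⟨E1.map qQ.toMonoidHom, ⟨⟨⟨?_⟩⟩, ?_⟩, ?_⟩
    · rintro ⟨_, a, ha, rfl⟩ ⟨_, b, hb, rfl⟩
      apply Subtype.ext
      show qQ a * qQ b = qQ b * qQ a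
      rw [← map_mul, ← map_mul]
      congr 1
      apply Subtype.ext
      exact congrArg (fun t : E => (t : Matrix.SpecialLinearGroup (Fin 5) (ZMod 2)))
        (hE.1.is_comm.comm ⟨_, Subgroup.mem_subgroupOf.1 ha⟩ ⟨_, Subgroup.mem_subgroupOf.1 hb⟩)
    · rintro _ ⟨a, ha, rfl⟩
      show qQ a ^ 2 = 1
      rw [← map_pow, show a ^ 2 = 1 from Subtype.ext (hE.2 _ (Subgroup.mem_subgroupOf.1 ha)),
        map_one]
    · rw [Subgroup.card_map_of_injective qQ.injective, hc1]
  have h2c : centralizer (Q : Set (centralizer ({z} : Set G))) ≤ Q := by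
    intro c hc
    have hcs : ((e c : S) : Matrix.SpecialLinearGroup (Fin 5) (ZMod 2)) ∈
        centralizer (Qs : Set (Matrix.SpecialLinearGroup (Fin 5) (ZMod 2))) := by
      rintro _ ⟨q, hq, rfl⟩
      have := hc (e.symm q) ⟨q, hq, rfl⟩
      have h' := congrArg e this
      rw [map_mul, map_mul, e.apply_symm_apply] at h'
      exact congrArg Subtype.val h'
    rw [hL.2.1] at hcs
    obtain ⟨q, hq, hqe⟩ := CfsgLib.LargeExtraspecial.center_map_le Qs hcs
    have : q = e c := Subtype.ext hqe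
    exact ⟨q, hq, by rw [this]; exact e.symm_apply_apply c⟩
  let π : K →* (centralizer ({z} : Set G)) ⧸ Q :=
    (QuotientGroup.mk' Q).comp (e.symm.toMonoidHom.comp (Subgroup.inclusion hKS))
  have hπ : Function.Bijective π := by
    refine ⟨(injective_iff_map_eq_one π).2 fun k hk => ?_, fun c => ?_⟩
    · obtain ⟨q, hq, hqk⟩ := (QuotientGroup.eq_one_iff _).1 hk
      have hqk' : q = Subgroup.inclusion hKS k := e.symm.injective hqk
      have hkQ : (k : Matrix.SpecialLinearGroup (Fin 5) (ZMod 2)) ∈ Qs :=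
        ⟨q, hq, by rw [hqk']; rfl⟩
      have : (k : Matrix.SpecialLinearGroup (Fin 5) (ZMod 2)) ∈ Qs ⊓ K := ⟨hkQ, k.2⟩
      rw [hinf, Subgroup.mem_bot] at this
      exact Subtype.ext this
    · obtain ⟨c, rfl⟩ := QuotientGroup.mk'_surjective Q c
      have hnorm : K ≤ normalizer (Qs : Set (Matrix.SpecialLinearGroup (Fin 5) (ZMod 2))) := by
        intro k hk
        rw [Subgroup.mem_normalizer_iff]
        intro y
        constructor
        · rintro ⟨q, hq, rfl⟩
          exact ⟨_, (inferInstance : Q0.Normal).conj_mem q hq ⟨k, hKS hk⟩, rfl⟩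
        · rintro ⟨q, hq, hqe⟩
          refine ⟨_, (inferInstance : Q0.Normal).conj_mem q hq ⟨k, hKS hk⟩⁻¹, ?_⟩
          simp only [Subgroup.coe_subtype] at hqe ⊢
          simp [hqe, mul_assoc]
      have hmem : ((e c : S) : Matrix.SpecialLinearGroup (Fin 5) (ZMod 2)) ∈ Qs ⊔ K := by
        rw [hsup]; exact (e c).2
      rw [← SetLike.mem_coe, Subgroup.coe_mul_of_right_le_normalizer_left Qs K hnorm] at hmem
      obtain ⟨_, ⟨q, hq, rfl⟩, k, hk, hqk⟩ := hmem
      refine ⟨⟨k, hk⟩, QuotientGroup.eq.2 ?_⟩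
      have hec : e c = q * ⟨k, hKS hk⟩ := Subtype.ext hqk.symm
      refine ⟨(⟨k, hKS hk⟩ : S)⁻¹ * q * ⟨k, hKS hk⟩, ?_, ?_⟩
      · simpa using (inferInstance : Q0.Normal).conj_mem q hq (⟨k, hKS hk⟩ : S)⁻¹
      · show e.symm ((⟨k, hKS hk⟩ : S)⁻¹ * q * ⟨k, hKS hk⟩) =
          (e.symm ⟨k, hKS hk⟩)⁻¹ * c
        rw [mul_assoc, ← hec, map_mul, map_inv, e.symm_apply_apply]
  have eQ : (centralizer ({z} : Set G)) ⧸ Q ≃* Matrix.SpecialLinearGroup (Fin 3) (ZMod 2) :=
    (MulEquiv.ofBijective π hπ).symm.trans eK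
  let zC : centralizer ({z} : Set G) := ⟨z, mem_centralizer_singleton_iff.2 rfl⟩
  have hzc : zC ∈ center (centralizer ({z} : Set G)) :=
    mem_center_iff.2 fun g => Subtype.ext (mem_centralizer_singleton_iff.1 g.2)
  have hzo : orderOf zC = 2 := by rw [← Subgroup.orderOf_coe]; exact hz
  obtain ⟨F, hF, hFQ⟩ := exists_frame hzc hzo Q hQex hQc hplus h2c eQ
  refine ⟨F, congrArg Subtype.val hF, ?_⟩
  rintro x ⟨u, rfl⟩
  refine ⟨(F.φ u).2, ?_⟩
  have hle : Q ≤ Cfsg.pCore 2 (centralizer ({z} : Set G)) :=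
    le_sSup ⟨inferInstance, IsPGroup.of_card hQc⟩
  exact hle (hFQ ▸ ⟨u, rfl⟩)

/-- In a simple group the involution has a conjugate in the radical. -/
theorem exists_conj_pCore [IsSimpleGroup G] (s : Matrix.SpecialLinearGroup (Fin 5) (ZMod 2))
    (hs : (s : Matrix (Fin 5) (Fin 5) (ZMod 2)) = Matrix.transvection 0 1 1) (z : G)
    (hz : orderOf z = 2)
    (e : centralizer ({z} : Set G) ≃*
      centralizer ({s} : Set (Matrix.SpecialLinearGroup (Fin 5) (ZMod 2)))) :
    ∃ g : G, (∃ hq : g * z * g⁻¹ ∈ centralizer ({z} : Set G),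
      (⟨g * z * g⁻¹, hq⟩ : centralizer ({z} : Set G)) ∈
        Cfsg.pCore 2 (centralizer ({z} : Set G))) ∧ g * z * g⁻¹ ≠ z := by
  obtain ⟨F, hFz, hF⟩ := exists_frame_transvection s hs z hz e
  have hz1 : z ≠ 1 := fun h => by rw [h, orderOf_one] at hz; omega
  have hna : ¬ IsMulCommutative G := by
    intro h
    have hc : ∀ a b : G, a * b = b * a := fun a b => h.is_comm.comm a b
    have h3 : F.φ ⟨2, false⟩ * F.φ ⟨16, false⟩ = F.φ ⟨16, false⟩ * F.φ ⟨2, false⟩ :=
      Subtype.ext (hc _ _)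
    rw [← map_mul, ← map_mul] at h3
    exact absurd (F.inj h3) (by decide +kernel)
  obtain ⟨g, hgi, hgz⟩ := exists_conj_radical F hFz hz1 (exists_conj_commute hna hz)
  exact ⟨g, hF _ hgi, hgz⟩

end CfsgLib.HeldCentre
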