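import Cfsg.Statements.S1716
import Cfsg.Agent.S0364
import Cfsg.Agent.CosetEnum.HeOrder.Order
import Cfsg.Agent.Inv53.SmallLinearSections
import Cfsg.Agent.LargeExtraspecial.TransvectionSL

/-!
# Reading the trichotomy off the four alternatives

A simple group that is the stabiliser of a vector in `SL₅(2)`, `SL₅(2)`, `M₂₄` or `He` is one of
the last three, and is determined by its order.
-/

set_option autoImplicit false

open Matrix

namespace CfsgLib.HeldCentre.Trichotomy

/-- The special linear group of degree five over two elements. -/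
abbrev SLFive := Matrix.SpecialLinearGroup (Fin 5) (ZMod 2)

/-- The element `1 + b aᵀ` for orthogonal `a`, `b`. -/
def move (a b : Fin 5 → ZMod 2) (h : a ⬝ᵥ b = 0) : SLFive :=
  ⟨1 + Matrix.vecMulVec b a, by
    have hsq : (1 + Matrix.vecMulVec b a) * (1 + Matrix.vecMulVec b a) = 1 := by
      rw [Matrix.mul_add, Matrix.add_mul, Matrix.add_mul, Matrix.vecMulVec_mul_vecMulVec]
      simp only [one_mul, mul_one, h, zero_smul, Matrix.vecMulVec_zero, add_zero]
      rw [add_assoc, CharTwo.add_self_eq_zero, add_zero]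
    have hd := congrArg Matrix.det hsq
    rw [Matrix.det_mul, Matrix.det_one] at hd
    generalize Matrix.det (1 + Matrix.vecMulVec b a) = d at hd ⊢
    revert hd
    revert d
    decide⟩

theorem move_smul (a b w : Fin 5 → ZMod 2) (h : a ⬝ᵥ b = 0) :
    move a b h • w = w + (a ⬝ᵥ w) • b := by
  show (1 + Matrix.vecMulVec b a) *ᵥ w = _
  rw [Matrix.add_mulVec, Matrix.one_mulVec, Matrix.vecMulVec_mulVec]
  rw [op_smul_eq_smul]

set_option synthInstance.maxHeartbeats 200000 in
set_option synthInstance.maxSize 1000 in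
theorem exists_vectors : ∀ v : Fin 5 → ZMod 2, v ≠ 0 →
    ∃ a b : Fin 5 → ZMod 2, a ≠ 0 ∧ a ⬝ᵥ v = 0 ∧ a ⬝ᵥ b = 0 ∧ b ≠ v ∧ b ≠ 0 := by
  decide +kernel

variable (v : Fin 5 → ZMod 2)

/-- The elations fixing the projective point of `v`. -/
def centric : Subgroup ↥(MulAction.stabilizer SLFive v) where
  carrier := {g | ∀ w : Fin 5 → ZMod 2, (g : SLFive) • w - w = 0 ∨ (g : SLFive) • w - w = v}
  one_mem' w := Or.inl (by simp)
  mul_mem' := by
    intro g k hg hk w
    have hgv : (g : SLFive) • v = v := g.2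
    have hd : ((g * k : ↥(MulAction.stabilizer SLFive v)) : SLFive) • w - w
        = (g : SLFive) • ((k : SLFive) • w - w) + ((g : SLFive) • w - w) := by
      rw [Subgroup.coe_mul, mul_smul, smul_sub]; abel
    rw [hd]
    rcases hk w with e | e <;> rcases hg w with f | f <;> rw [e, f] <;>
      simp [hgv, CharTwo.add_self_eq_zero]
  inv_mem' := by
    intro g hg w
    set u := (g : SLFive)⁻¹ • w with hu
    have hw : (g : SLFive) • u = w := smul_inv_smul _ _
    have hd : ((g⁻¹ : ↥(MulAction.stabilizer SLFive v)) : SLFive) • w - w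
        = -((g : SLFive) • u - u) := by
      rw [hw, Subgroup.coe_inv, ← hu]; abel
    rw [hd]
    rcases hg u with e | e <;> rw [e]
    · exact Or.inl neg_zero
    · exact Or.inr (CharTwo.neg_eq v)

theorem centric_normal : (centric v).Normal := by
  constructor
  intro g hg k w
  have hkv : (k : SLFive) • v = v := k.2
  set u := (k : SLFive)⁻¹ • w with hu
  have hd : ((k * g * k⁻¹ : ↥(MulAction.stabilizer SLFive v)) : SLFive) • w - w
      = (k : SLFive) • ((g : SLFive) • u - u) := by
    rw [smul_sub, hu, smul_inv_smul, Subgroup.coe_mul, Subgroup.coe_mul, Subgroup.coe_inv,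
      mul_smul, mul_smul]
  rw [hd]
  rcases hg u with e | e <;> rw [e]
  · exact Or.inl (smul_zero _)
  · exact Or.inr hkv

/-- The stabiliser of a nonzero vector in `SL₅(2)` is not simple. -/
theorem not_isSimpleGroup_stabilizer (hv : v ≠ 0) :
    ¬ IsSimpleGroup ↥(MulAction.stabilizer SLFive v) := by
  intro hs
  obtain ⟨a, b, ha, hav, hab, hbv, hb0⟩ := exists_vectors v hv
  obtain ⟨i, hi⟩ := Function.ne_iff.1 ha
  have hw : a ⬝ᵥ Pi.single i (1 : ZMod 2) = 1 := by
    rw [dotProduct_single, mul_one]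
    simp only [Pi.zero_apply] at hi
    generalize a i = x at hi ⊢
    revert x; decide
  have hmem : ∀ (c : Fin 5 → ZMod 2) (hc : a ⬝ᵥ c = 0),
      move a c hc ∈ MulAction.stabilizer SLFive v := fun c hc => by
    rw [MulAction.mem_stabilizer_iff, move_smul, hav, zero_smul, add_zero]
  rcases hs.eq_bot_or_eq_top_of_normal (centric v) (centric_normal v) with h | h
  · have hin : (⟨move a v hav, hmem v hav⟩ : ↥(MulAction.stabilizer SLFive v)) ∈ centric v := by
      intro w
      have hz : ∀ x : ZMod 2, x = 0 ∨ x = 1 := by decide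
      simp only [move_smul, add_sub_cancel_left]
      rcases hz (a ⬝ᵥ w) with e | e <;> simp [e]
    rw [h, Subgroup.mem_bot] at hin
    have h1 : move a v hav = 1 := congrArg Subtype.val hin
    have := congrArg (fun g : SLFive => g • (Pi.single i (1 : ZMod 2) : Fin 5 → ZMod 2)) h1
    simp only [move_smul, hw, one_smul, add_eq_left] at this
    exact hv this
  · have hin : (⟨move a b hab, hmem b hab⟩ : ↥(MulAction.stabilizer SLFive v)) ∈ centric v :=
      h ▸ Subgroup.mem_top _
    have := hin (Pi.single i (1 : ZMod 2))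
    simp only [move_smul, hw, one_smul, add_sub_cancel_left] at this
    exact this.elim hb0 hbv

theorem card_SLFive : Nat.card SLFive = 9999360 :=
  (Nat.card_congr (Equiv.ofBijective _
    CfsgLib.LargeExtraspecial.Transvection.toGL_bijective)).trans CfsgLib.Inv53.card_GL_five_two

/-- The four groups of the transvection centraliser problem. -/
def Four (G : Type*) [Group G] : Prop :=
  (∃ v : Fin 5 → ZMod 2, v ≠ 0 ∧ Nonempty (G ≃* MulAction.stabilizer SLFive v)) ∨
    Nonempty (G ≃* SLFive) ∨ Nonempty (G ≃* Cfsg.M24) ∨ Cfsg.Spor.IsoHe G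

theorem three_of_four {G : Type*} [Group G] [IsSimpleGroup G] (h : Four G) :
    Nonempty (G ≃* SLFive) ∨ Nonempty (G ≃* Cfsg.M24) ∨ Cfsg.Spor.IsoHe G := by
  refine h.resolve_left ?_
  rintro ⟨v, hv, ⟨e⟩⟩
  haveI : Nontrivial ↥(MulAction.stabilizer SLFive v) := e.toEquiv.symm.nontrivial
  exact not_isSimpleGroup_stabilizer v hv
    (IsSimpleGroup.isSimpleGroup_of_surjective e.toMonoidHom e.surjective)

/-- A simple group among the four is `SL₅(2)`, or has the order of `M₂₄` or of `He`. -/
theorem trichotomy {G : Type*} [Group G] [IsSimpleGroup G] (h : Four G) :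
    Nonempty (G ≃* SLFive) ∨ Cfsg.IsM24 G ∨ Cfsg.IsHe G := by
  rcases three_of_four h with h | ⟨⟨e⟩⟩ | ⟨⟨e⟩⟩
  · exact Or.inl h
  · exact Or.inr (Or.inl ⟨inferInstance,
      (Nat.card_congr e.toEquiv).trans Cfsg.Agent.S0364.result⟩)
  · exact Or.inr (Or.inr ⟨inferInstance,
      (Nat.card_congr e.toEquiv).trans CfsgLib.CosetEnum.He.card_He⟩)

/-- Simple groups among the four are determined by their orders. -/
theorem determined_by_card {G H : Type*} [Group G] [Group H] [IsSimpleGroup G] [IsSimpleGroup H]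
    (hG : Four G) (hH : Four H) (hcard : Nat.card G = Nat.card H) : Nonempty (G ≃* H) := by
  have hm := Cfsg.Agent.S0364.result
  have hh := CfsgLib.CosetEnum.He.card_He
  have hs := card_SLFive
  rcases three_of_four hG with ⟨⟨e⟩⟩ | ⟨⟨e⟩⟩ | ⟨⟨e⟩⟩ <;>
    rcases three_of_four hH with ⟨⟨f⟩⟩ | ⟨⟨f⟩⟩ | ⟨⟨f⟩⟩ <;>
    first
    | exact ⟨e.trans f.symm⟩
    | (exfalso
       rw [Nat.card_congr e.toEquiv, Nat.card_congr f.toEquiv] at hcard
       omega)

end CfsgLib.HeldCentre.Trichotomy
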